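import Cfsg.Agent.Lib.Characterizations.CoType.Golay.FrameData

/-!
# Groups of Conway type: finite facts about a maximal singular subspace

`coW` is the code spanned by `φA` and the first line; its automorphisms acting trivially on it are translations.
-/

set_option autoImplicit false
set_option maxRecDepth 100000
set_option maxHeartbeats 4000000
set_option synthInstance.maxSize 8192
set_option synthInstance.maxHeartbeats 1000000

namespace CfsgLib.Characterizations.CoType

attribute [local instance 10000] List.decidableBAll List.decidableBEx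

/-- The code. -/
def coW : List W8 :=
  [0, φA, iota lI, iota lJ, φA + iota lI, φA + iota lJ, iota lI + iota lJ, φA + iota lI + iota lJ]

/-- The maximal singular subspace. -/
def InW (v : V) : Prop := v 7 = 0 ∧ co v ∈ coW

instance : DecidablePred InW := fun _ => inferInstanceAs (Decidable (_ ∧ _))

/-- The parameters of the first line. -/
def lineR : List R4 := [0, lI, lJ, lI + lJ]

/-- The label of a point. -/
def code8 : Fin 8 → ℕ := ![4, 6, 7, 5, 2, 3, 1, 0]

/-- The point with a label. -/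
def uncode8 : ℕ → Fin 8
  | 0 => 7 | 1 => 6 | 2 => 4 | 3 => 5 | 4 => 0 | 5 => 3 | 6 => 1 | _ => 2

/-- A translation. -/
def trFun (t k : Fin 8) : Fin 8 := uncode8 (code8 k ^^^ code8 t)

theorem trFun_invol : ∀ t k : Fin 8, trFun t (trFun t k) = k := by decide +kernel

/-- A translation as a permutation. -/
def trPerm (t : Fin 8) : Equiv.Perm (Fin 8) := ⟨trFun t, trFun t, trFun_invol t, trFun_invol t⟩

/-- Translations acting trivially modulo `φA` on its perp. -/
def planeA : List (Fin 8) := [4, 5, 6, 7]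

/-- A permutation moving the first plane of translations to the second. -/
def τ₁ : Equiv.Perm (Fin 8) := Equiv.swap 2 4 * Equiv.swap 3 7

/-- A permutation moving the first plane of translations to the third. -/
def τ₂ : Equiv.Perm (Fin 8) := Equiv.swap 1 2 * Equiv.swap 2 4 * Equiv.swap 3 6 * Equiv.swap 6 7

theorem coW_facts : (∀ m ∈ coW, Ev m ∧ qe m = 0 ∧ dot m φA = 0 ∧ proj m ∈ lineR) ∧
    (∀ m ∈ coW, ∀ m' ∈ coW, dot m m' = 0 ∧ m + m' ∈ coW) ∧ (coW.Nodup) := by
  decide +kernel

theorem lineR_facts : ∀ r ∈ lineR, qR r = 0 ∧ iota r ∈ coW ∧ ∀ s ∈ lineR, dR r s = 0 ∧ r + s ∈ lineR := by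
  decide +kernel

theorem coW_perp : ∀ ψ : W8, Ev ψ → (∀ m ∈ coW, dot m ψ = 0) → ψ ∈ coW := by decide +kernel

theorem inW_perp : ∀ v : V, (∀ w : V, InW w → B v w = 0) → InW v := by decide +kernel

theorem inW_count : (Finset.univ.filter InW).card = 16 := by decide +kernel

theorem trPerm_facts : trPerm 7 = 1 ∧ (∀ t m, m ∈ coW → pm (trPerm t) m = m) ∧
    (∀ t s : Fin 8, trPerm t * trPerm s = trPerm (trFun t s)) ∧ (∀ t, (trPerm t).symm = trPerm t) ∧
    (∀ t s : Fin 8, trPerm t = trPerm s → t = s) := by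
  decide +kernel

theorem label_step : ∀ a b k : Fin 8, (∀ m ∈ coW, m a + m b = m k) → a = trFun b k := by decide +kernel

/-- A permutation fixing the code pointwise is a translation. -/
theorem exists_tr {σ : Equiv.Perm (Fin 8)} (h : ∀ m ∈ coW, pm σ m = m) : ∃ t, σ = trPerm t := by
  refine ⟨σ⁻¹ 7, ?_⟩
  have hk : ∀ k, σ⁻¹ k = trFun (σ⁻¹ 7) k := fun k =>
    label_step _ _ _ fun m hm => congrFun (h m hm) k
  refine Equiv.ext fun k => σ⁻¹.injective ?_
  rw [hk (trPerm _ k)]
  show σ⁻¹ (σ k) = trFun (σ⁻¹ 7) (trFun (σ⁻¹ 7) k)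
  rw [trFun_invol, ← Equiv.Perm.mul_apply, inv_mul_cancel, Equiv.Perm.one_apply]

/-- The translation of an element of the second part lies in the first plane. -/
theorem plane_of_nu : ∀ t : Fin 8, ∀ r ∈ lineR,
    (∀ s : R4, pm (trPerm t) (iota s) + iota s = dR s r • φA) → t ∈ planeA := by
  decide +kernel

theorem nu_of_plane : ∀ t ∈ planeA, ∃ r ∈ lineR, ∀ s : R4, pm (trPerm t) (iota s) + iota s = dR s r • φA := by
  decide +kernel

theorem plane_unique : ∀ t t' : Fin 8, (∀ s : R4, pm (trPerm t) (iota s) = pm (trPerm t') (iota s)) →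
    t ∈ planeA → t' ∈ planeA → t = t' := by
  decide +kernel

theorem tau_facts : Equiv.Perm.sign τ₁ = 1 ∧ Equiv.Perm.sign τ₂ = 1 ∧ (∀ m ∈ coW, pm τ₁ m ∈ coW) ∧
    (∀ m ∈ coW, pm τ₂ m ∈ coW) ∧
    (∀ t : Fin 8, t ∈ [4, 1, 0, 7] → ∃ t' ∈ planeA, τ₁⁻¹ * trPerm t * τ₁ = trPerm t') ∧
    (∀ t : Fin 8, t ∈ [5, 1, 3, 7] → ∃ t' ∈ planeA, τ₂⁻¹ * trPerm t * τ₂ = trPerm t') := by
  decide +kernel

/-- Every translation is a product of the three basic ones. -/
theorem tr_gens : ∀ t : Fin 8, ∃ a ∈ [(7 : Fin 8), 4], ∃ b ∈ [(7 : Fin 8), 5], ∃ c ∈ [(7 : Fin 8), 1],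
    t = trFun (trFun a b) c := by
  decide +kernel

end CfsgLib.Characterizations.CoType
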