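import Cfsg.Agent.Lib.Characterizations.CoType.Golay.Twist
import Cfsg.Agent.Lib.Characterizations.CoType.Golay.AbelianData
import Cfsg.Prelude.Def_Transfer

/-!
# Groups of Conway type: the elementary abelian subgroup of order `2¹¹`

`A` is the centraliser of the preimage in `Q` of a maximal singular subspace of the good family.
-/

set_option autoImplicit false
set_option linter.style.haveILetI false
set_option linter.unusedSectionVars false
set_option maxRecDepth 4000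

namespace CfsgLib.Characterizations.CoType

open CfsgLib.ThreeTransp.Extraspecial

variable {G : Type*} [Group G] [Finite G] {z : G} {Q : Subgroup G} {π : G → V}

theorem inW_zero : InW 0 := by decide +kernel

theorem inW_u0 : InW u0 := by decide +kernel

theorem inW_a : InW (P φA) := by decide +kernel

theorem inW_add {v w : V} (hv : InW v) (hw : InW w) : InW (v + w) :=
  ⟨by rw [Pi.add_apply, hv.1, hw.1, add_zero], by rw [co_add]; exact (coW_facts.2.1 _ hv.2 _ hw.2).2⟩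

theorem inW_singular {v : V} (hv : InW v) : q v = 0 := by
  rw [(perp_facts v hv.1).1]
  exact (coW_facts.1 _ hv.2).2.1

theorem inW_orth {v w : V} (hv : InW v) (hw : InW w) : B v w = 0 := by
  rw [perp_polar hv.1 hw.1]
  exact (coW_facts.2.1 _ hv.2 _ hw.2).1

theorem closure_tr {P : Fin 8 → Prop} (h0 : P 7) (hm : ∀ a b, P a → P b → P (trFun a b)) (h4 : P 4) (h5 : P 5)
    (h1 : P 1) (t : Fin 8) : P t := by
  obtain ⟨a, ha, b, hb, c, hc, rfl⟩ := tr_gens t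
  refine hm _ _ (hm _ _ ?_ ?_) ?_
  · rcases List.mem_pair.1 ha with e | e <;> rw [e] <;> assumption
  · rcases List.mem_pair.1 hb with e | e <;> rw [e] <;> assumption
  · rcases List.mem_pair.1 hc with e | e <;> rw [e] <;> assumption

theorem trFun_laws : ∀ t : Fin 8, trFun t t = 7 ∧ trFun t 7 = t ∧ trFun 7 t = t := by decide +kernel

theorem pair_cases : ∀ s ∈ [(7 : Fin 8), 4, 5, 1], ∀ s' ∈ [(7 : Fin 8), 4, 5, 1],
    (s ∈ planeA ∧ s' ∈ planeA) ∨ (s ∈ [(4 : Fin 8), 1, 0, 7] ∧ s' ∈ [(4 : Fin 8), 1, 0, 7]) ∨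
      (s ∈ [(5 : Fin 8), 1, 3, 7] ∧ s' ∈ [(5 : Fin 8), 1, 3, 7]) := by
  decide +kernel

theorem single_cases : ∀ s ∈ [(7 : Fin 8), 4, 5, 1], s ∈ planeA ∨ s ∈ [(4 : Fin 8), 1, 0, 7] := by decide +kernel

namespace Co

/-- The preimage in `Q` of the maximal singular subspace. -/
def xsub (S : Co z Q π) : Subgroup G where
  carrier := {x | x ∈ Q ∧ InW (π x)}
  one_mem' := ⟨one_mem Q, by rw [S.π_one]; exact inW_zero⟩
  mul_mem' := fun {a b} ha hb => ⟨mul_mem ha.1 hb.1, by rw [S.π_mul a ha.1 b hb.1]; exact inW_add ha.2 hb.2⟩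
  inv_mem' := fun {a} ha => ⟨inv_mem ha.1, by rw [S.π_inv ha.1]; exact ha.2⟩

/-- The subgroup of order `2¹¹`. -/
def asub (S : Co z Q π) : Subgroup G := Subgroup.centralizer (S.xsub : Set G)

/-- The normal form of an element of the subgroup. -/
def Form (S : Co z Q π) (c : G) (t : Fin 8) (ψ : W8) : Prop := ∀ v, S.act c v = M (trPerm t) ψ v

variable (S : Co z Q π)

theorem z_xsub : z ∈ S.xsub := ⟨S.extra.z_mem, by rw [S.π_z]; exact inW_zero⟩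

theorem mem_asub {c : G} : c ∈ S.asub ↔ ∀ x ∈ Q, InW (π x) → c * x = x * c :=
  ⟨fun h x hx hw => (Subgroup.mem_centralizer_iff.1 h x ⟨hx, hw⟩).symm,
    fun h => Subgroup.mem_centralizer_iff.2 fun x hx => (h x hx.1 hx.2).symm⟩

theorem asub_cz {c : G} (hc : c ∈ S.asub) : c * z = z * c :=
  S.mem_asub.1 hc z S.extra.z_mem S.z_xsub.2

theorem card_xsub : Nat.card ↥S.xsub = 32 := by
  rw [show (32 : ℕ) = 2 * (Finset.univ.filter InW).card by rw [inW_count], ← S.card_pre InW]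
  exact Nat.card_congr (Equiv.subtypeEquivRight fun x => Iff.rfl)

theorem xsub_le_asub : S.xsub ≤ S.asub := fun x hx => S.mem_asub.2 fun y hy hw =>
  (S.comm_iff hx.1 hy).2 (inW_orth hx.2 hw)

theorem asub_inf : ∀ c ∈ S.asub, c ∈ Q → c ∈ S.xsub := fun c hc hcQ => ⟨hcQ, inW_perp _ fun w hw => by
  obtain ⟨x, hx, rfl⟩ := S.π_surj w
  exact (S.comm_iff hcQ hx).1 (S.mem_asub.1 hc x hx hw)⟩

theorem exists_form_asub {c : G} (hc : c ∈ S.asub) : ∃ t, ∃ ψ ∈ coW, S.Form c t ψ := by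
  have hcz := S.asub_cz hc
  have hfix : ∀ v, InW v → S.act c v = v := fun v hv => by
    obtain ⟨x, hx, rfl⟩ := S.π_surj v
    rw [S.act_π hcz hx, S.mem_asub.1 hc x hx hv, mul_inv_cancel_right]
  obtain ⟨σ, ψ, hψ, hf⟩ := exists_form (S.act_iso hcz) (hfix u0 inW_u0)
  have key : ∀ m ∈ coW, pm σ m = m ∧ dot m ψ = 0 := fun m hm => by
    have hm' := (coW_facts.1 m hm).1
    refine M_P_fix hψ hm' ?_
    rw [← hf]
    exact hfix _ ⟨(co_P m hm').2.2, by rw [(co_P m hm').1]; exact hm⟩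
  obtain ⟨t, rfl⟩ := exists_tr fun m hm => (key m hm).1
  exact ⟨t, ψ, coW_perp ψ hψ fun m hm => (key m hm).2, hf⟩

theorem Form.mul {c c' : G} {t t' : Fin 8} {ψ ψ' : W8} (hc : c ∈ S.asub) (hc' : c' ∈ S.asub) (hψ : ψ ∈ coW)
    (hψ' : ψ' ∈ coW) (h : S.Form c t ψ) (h' : S.Form c' t' ψ') : S.Form (c * c') (trFun t t') (ψ + ψ') := by
  intro v
  rw [S.act_mul (S.asub_cz hc) (S.asub_cz hc'), form_comp (S.act_iso (S.asub_cz hc)) (S.act_iso (S.asub_cz hc'))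
    (coW_facts.1 ψ hψ).1 (coW_facts.1 ψ' hψ').1 h h' v, trPerm_facts.2.2.1, trPerm_facts.2.1 t ψ' hψ', add_comm]

theorem Form.unique {c : G} {t t' : Fin 8} {ψ ψ' : W8} (hψ : ψ ∈ coW) (hψ' : ψ' ∈ coW) (h : S.Form c t ψ)
    (h' : S.Form c t' ψ') : t = t' ∧ ψ = ψ' := by
  obtain ⟨h1, h2⟩ := M_unique (coW_facts.1 ψ hψ).1 (coW_facts.1 ψ' hψ').1 fun v => (h v).symm.trans (h' v)
  exact ⟨trPerm_facts.2.2.2.2 t t' h1, h2⟩

theorem Form.mem_xsub {c : G} (hc : c ∈ S.asub) (h : S.Form c 7 0) : c ∈ S.xsub :=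
  S.asub_inf c hc (S.mem_of_act_id (S.asub_cz hc) fun v => by rw [h, trPerm_facts.1, evM_zero])

theorem form_one : S.Form (1 : G) 7 0 := fun v => by rw [S.act_one, trPerm_facts.1, evM_zero]

theorem Form.inv {c : G} {t : Fin 8} {ψ : W8} (hc : c ∈ S.asub) (hψ : ψ ∈ coW) (h : S.Form c t ψ) :
    S.Form c⁻¹ t ψ := by
  obtain ⟨t', ψ', hψ', h'⟩ := S.exists_form_asub (inv_mem hc)
  have := Form.mul S hc (inv_mem hc) hψ hψ' h h'
  rw [mul_inv_cancel] at this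
  obtain ⟨e1, e2⟩ := Form.unique S (coW_facts.2.1 _ hψ _ hψ').2 (by decide +kernel : (0 : W8) ∈ coW) this S.form_one
  have ht : t' = t := by
    have := congrArg (trFun t) e1
    rw [trFun_invol] at this
    rw [this]; exact (trFun_laws t).2.1
  have hp : ψ' = ψ := by
    calc ψ' = ψ + ψ + ψ' := by rw [add_self_W, zero_add]
      _ = ψ := by rw [add_assoc, e2, add_zero]
  rwa [ht, hp] at h'

namespace Gd

variable {S} {u g u₁ c₁ a : G} {L : R4 → R4 → ZMod 2} (D : S.Gd u g u₁ c₁ a L)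
include D

theorem L_line : ∀ r ∈ lineR, ∀ s ∈ lineR, L r s = 0 := by
  obtain ⟨k1, k2, k3, k4⟩ := D.good
  have hl0 : ∀ s, L 0 s = 0 := fun s => by have := D.add_left 0 0 s; rwa [add_zero, left_eq_add] at this
  have hr0 : ∀ r, L r 0 = 0 := fun r => by have := D.add_right r 0 0; rwa [add_zero, left_eq_add] at this
  intro r hr s hs
  simp only [lineR, List.mem_cons, List.not_mem_nil, or_false] at hr hs
  rcases hr with rfl | rfl | rfl | rfl <;> rcases hs with rfl | rfl | rfl | rfl <;>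
    simp [hl0, hr0, k1, k2, k3, k4, D.add_left, D.add_right]

theorem u_xsub : u ∈ S.xsub := ⟨D.p.u_mem, by rw [D.p.π_u]; exact inW_u0⟩

theorem u₁_xsub : u₁ ∈ S.xsub := ⟨D.p.u₁_mem D.d, by rw [D.d.π_u₁]; exact inW_a⟩

/-- Siegel elements with parameter in the code lie in `A`. -/
theorem sie_asub {f : G} (hf : f ∈ S.sie g) {φ : W8} (hφ : φ ∈ coW) (hff : ∀ v, S.act f v = M 1 φ v) :
    f ∈ S.asub := S.mem_asub.2 fun x hx hw => by
  apply mul_inv_eq_iff_eq_mul.1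
  rw [D.p.pair_formula hf (coW_facts.1 φ hφ).1 hff hx hw.1, (coW_facts.2.1 _ hw.2 φ hφ).1, zp_zero, zp_zero,
    one_mul, mul_one]

theorem inE_asub {e : G} (he : Pair.InE S g u c₁ e) (hν : Pair.nu S e ∈ lineR) : e ∈ S.asub :=
  S.mem_asub.2 fun x hx hw => by
    obtain ⟨-, -, hA, hp⟩ := coW_facts.1 _ hw.2
    apply mul_inv_eq_iff_eq_mul.1
    rw [D.p.inE_pair D.d he hx hw.1 hA, ((lineR_facts _ hp).2.2 _ hν).1, zp_zero, zp_zero, one_mul, mul_one]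

theorem exists_sie_form {φ : W8} (hφ : φ ∈ coW) : ∃ f, Pair.InF S g u₁ f ∧ Pair.mu S f ∈ lineR ∧ f ∈ S.asub ∧
    S.Form f 7 φ := by
  obtain ⟨f, hf, hff⟩ := D.p.exists_sie (coW_facts.1 φ hφ).1
  have hmem := D.sie_asub hf hφ hff
  refine ⟨f, ⟨hf, S.mem_asub.1 hmem u₁ D.u₁_xsub.1 D.u₁_xsub.2⟩, ?_, hmem, fun v => by rw [hff, trPerm_facts.1]⟩
  rw [Pair.mu, hff, (y0_move φ (coW_facts.1 φ hφ).1).1]
  exact (coW_facts.1 φ hφ).2.2.2

theorem inE_plane {e : G} (he : Pair.InE S g u c₁ e) (hν : Pair.nu S e ∈ lineR) {t : Fin 8} {ψ : W8}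
    (hψ : ψ ∈ coW) (hf : S.Form e t ψ) :
    t ∈ planeA ∧ ∀ s : R4, pm (trPerm t) (iota s) + iota s = dR s (Pair.nu S e) • φA := by
  have key : ∀ s : R4, pm (trPerm t) (iota s) + iota s = dR s (Pair.nu S e) • φA := by
    intro s
    obtain ⟨hn7, hnd, -, hline, -⟩ := D.p.inE_action D.d he
    obtain ⟨h1, h2, h3, -⟩ := iota_facts s
    obtain ⟨hPc, -, hP7⟩ := co_P _ h1
    have hBv : B (P (iota s)) (P φA) = 0 := by rw [perp_polar hP7 aA_facts.1, aA_facts.2.1, hPc, h2]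
    have hk : B (P (iota s)) (S.act e y1 + y1) = dR s (Pair.nu S e) := by
      rw [perp_polar hP7 hn7, hPc, dot_proj h1 (ev_co _) h2 hnd, h3]; rfl
    have h := congrArg co (hline _ hBv)
    rw [hk, co_add, hf, (co_M (coW_facts.1 ψ hψ).1 _ _).1, hPc, hP7, zero_smul, add_zero] at h
    rcases two_cases (dR s (Pair.nu S e)) with r | r <;> rw [r] at h ⊢
    · rw [zero_smul, co_zero] at h; rw [zero_smul, h]
    · rw [one_smul, aA_facts.2.1] at h; rw [one_smul, h]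
  exact ⟨plane_of_nu t _ hν key, key⟩

theorem exists_plane_elem {t : Fin 8} (ht : t ∈ planeA) : ∃ e, Pair.InE S g u c₁ e ∧ Pair.nu S e ∈ lineR ∧
    e ∈ S.asub ∧ ∃ ψ ∈ coW, S.Form e t ψ := by
  obtain ⟨r, hr, hform⟩ := nu_of_plane t ht
  obtain ⟨e, he, hν⟩ := D.p.exists_inE D.d r
  have hν' : Pair.nu S e ∈ lineR := by rw [hν]; exact hr
  have hmem := D.inE_asub he hν'
  obtain ⟨t', ψ, hψ, hf⟩ := S.exists_form_asub hmem
  obtain ⟨ht', hk⟩ := D.inE_plane he hν' hψ hf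
  obtain rfl : t' = t := plane_unique t' t (fun s => add_right_cancel ((hk s).trans (by rw [hν, hform s]))) ht' ht
  exact ⟨e, he, hν', hmem, ψ, hψ, hf⟩

/-- The three kinds of generators of the first hyperplane. -/
def Gen (S : Co z Q π) (u g u₁ c₁ x : G) : Prop :=
  x ∈ S.xsub ∨ (Pair.InF S g u₁ x ∧ Pair.mu S x ∈ lineR ∧ x ∈ S.asub) ∨
    (Pair.InE S g u c₁ x ∧ Pair.nu S x ∈ lineR ∧ x ∈ S.asub)

theorem gen_mem {x : G} (h : Gen S u g u₁ c₁ x) : x ∈ S.asub := by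
  rcases h with h | h | h
  exacts [S.xsub_le_asub h, h.2.2, h.2.2]

theorem gen_sq {x : G} (h : Gen S u g u₁ c₁ x) : x * x = 1 := by
  rcases h with h | ⟨h, hl, -⟩ | ⟨h, hl, -⟩
  · exact (S.q_iff x h.1).1 (inW_singular h.2)
  · rw [D.p.inF_sq D.d h, (lineR_facts _ hl).1, zp_zero]
  · rw [D.p.inE_sq D.d h, (lineR_facts _ hl).1, zp_zero]

theorem gen_comm {x y : G} (hx : Gen S u g u₁ c₁ x) (hy : Gen S u g u₁ c₁ y) : x * y = y * x := by
  have ef : ∀ e f, Pair.InE S g u c₁ e → Pair.nu S e ∈ lineR → Pair.InF S g u₁ f → Pair.mu S f ∈ lineR →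
      e * f = f * e := fun e f he hν hf hμ => mul_inv_eq_iff_eq_mul.1 (by
    rw [D.pairing e f he hf, D.L_line _ hμ _ hν, ((lineR_facts _ hμ).2.2 _ hν).1, zp_zero, zp_zero, one_mul,
      one_mul])
  rcases hx with hx | hx | hx <;> rcases hy with hy | hy | hy
  · exact S.mem_asub.1 (S.xsub_le_asub hx) y hy.1 hy.2
  · exact (S.mem_asub.1 hy.2.2 x hx.1 hx.2).symm
  · exact (S.mem_asub.1 hy.2.2 x hx.1 hx.2).symm
  · exact S.mem_asub.1 hx.2.2 y hy.1 hy.2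
  · refine mul_inv_eq_iff_eq_mul.1 ?_
    rw [D.p.inF_conj D.d hx.1 hy.1, ((lineR_facts _ hx.2.1).2.2 _ hy.2.1).1, zp_zero, one_mul]
  · exact (ef y x hy.1 hy.2.1 hx.1 hx.2.1).symm
  · exact S.mem_asub.1 hx.2.2 y hy.1 hy.2
  · exact ef x y hx.1 hx.2.1 hy.1 hy.2.1
  · refine mul_inv_eq_iff_eq_mul.1 ?_
    rw [D.p.inE_conj D.d hx.1 hy.1, ((lineR_facts _ hx.2.1).2.2 _ hy.2.1).1, zp_zero, one_mul]

theorem decompose {c : G} (hc : c ∈ S.asub) {t : Fin 8} {ψ : W8} (hψ : ψ ∈ coW) (hf : S.Form c t ψ) {e : G}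
    (he : e ∈ S.asub) {χ : W8} (hχ : χ ∈ coW) (hef : S.Form e t χ) :
    ∃ x f, x ∈ S.xsub ∧ Pair.InF S g u₁ f ∧ Pair.mu S f ∈ lineR ∧ f ∈ S.asub ∧ c = x * f * e := by
  have hs := (coW_facts.2.1 _ hψ _ hχ).2
  obtain ⟨f, hfF, hfμ, hfA, hff⟩ := D.exists_sie_form hs
  refine ⟨c * e⁻¹ * f⁻¹, f, ?_, hfF, hfμ, hfA, by group⟩
  refine Form.mem_xsub S (mul_mem (mul_mem hc (inv_mem he)) (inv_mem hfA)) ?_
  have h1 := Form.mul S hc (inv_mem he) hψ hχ hf (Form.inv S he hχ hef)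
  rw [(trFun_laws t).1] at h1
  have h2 := Form.mul S (mul_mem hc (inv_mem he)) (inv_mem hfA) hs hs h1 (Form.inv S hfA hs hff)
  rwa [show trFun 7 7 = (7 : Fin 8) by decide +kernel, add_self_W] at h2

theorem plane_comm {c c' : G} (hc : c ∈ S.asub) (hc' : c' ∈ S.asub) {t t' : Fin 8} {ψ ψ' : W8} (hψ : ψ ∈ coW)
    (hψ' : ψ' ∈ coW) (hf : S.Form c t ψ) (hf' : S.Form c' t' ψ') (ht : t ∈ planeA) (ht' : t' ∈ planeA) :
    c * c' = c' * c ∧ c * c = 1 := by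
  obtain ⟨e, he, hν, heA, χ, hχ, hef⟩ := D.exists_plane_elem ht
  obtain ⟨e', he', hν', heA', χ', hχ', hef'⟩ := D.exists_plane_elem ht'
  obtain ⟨x, f, hx, hfF, hμ, hfA, rfl⟩ := D.decompose hc hψ hf heA hχ hef
  obtain ⟨x', f', hx', hfF', hμ', hfA', rfl⟩ := D.decompose hc' hψ' hf' heA' hχ' hef'
  have G1 : ∀ i ∈ [x, f, e, x', f', e'], Gen S u g u₁ c₁ i := by
    simp only [List.mem_cons, List.not_mem_nil, or_false]
    rintro i (rfl | rfl | rfl | rfl | rfl | rfl)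
    exacts [Or.inl hx, Or.inr (Or.inl ⟨hfF, hμ, hfA⟩), Or.inr (Or.inr ⟨he, hν, heA⟩), Or.inl hx',
      Or.inr (Or.inl ⟨hfF', hμ', hfA'⟩), Or.inr (Or.inr ⟨he', hν', heA'⟩)]
  have C : ∀ i ∈ [x, f, e, x', f', e'], ∀ j ∈ [x, f, e, x', f', e'], Commute i j :=
    fun i hi j hj => D.gen_comm (G1 i hi) (G1 j hj)
  refine ⟨(((C x (by simp) x' (by simp)).mul_left (C f (by simp) x' (by simp))).mul_left
      (C e (by simp) x' (by simp)) |>.mul_right (((C x (by simp) f' (by simp)).mul_left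
        (C f (by simp) f' (by simp))).mul_left (C e (by simp) f' (by simp))) |>.mul_right
      (((C x (by simp) e' (by simp)).mul_left (C f (by simp) e' (by simp))).mul_left
        (C e (by simp) e' (by simp)))).eq, ?_⟩
  have hxf : Commute x f := C x (by simp) f (by simp)
  have hxfe : Commute (x * f) e := (C x (by simp) e (by simp)).mul_left (C f (by simp) e (by simp))
  rw [hxfe.symm.mul_mul_mul_comm, hxf.symm.mul_mul_mul_comm, D.gen_sq (G1 x (by simp)),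
    D.gen_sq (G1 f (by simp)), D.gen_sq (G1 e (by simp))]
  simp

theorem exists_mover {τ : Equiv.Perm (Fin 8)} (hτ : Equiv.Perm.sign τ = 1) (hW : ∀ m ∈ coW, pm τ m ∈ coW) :
    ∃ k ψ, Ev ψ ∧ k * z = z * k ∧ (∀ v, S.act k v = M τ ψ v) ∧ ∀ c ∈ S.asub, k⁻¹ * c * k ∈ S.asub := by
  obtain ⟨k, hk, -, ψ, hψ, hf⟩ := D.p.exists_lift hτ
  refine ⟨k, ψ, hψ, hk, hf, fun c hc => S.mem_asub.2 fun x hx hw => ?_⟩
  have hx' := S.norm k hk x hx
  have hw' : InW (π (k * x * k⁻¹)) := by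
    rw [← S.act_π hk hx, hf]
    refine ⟨by rw [(co_M hψ τ _).2]; exact hw.1, ?_⟩
    rw [(co_M hψ τ _).1, hw.1, zero_smul, add_zero]
    exact hW _ hw.2
  calc k⁻¹ * c * k * x = k⁻¹ * (c * (k * x * k⁻¹)) * k := by group
    _ = x * (k⁻¹ * c * k) := by rw [S.mem_asub.1 hc _ hx' hw']; group

theorem moved_comm {τ : Equiv.Perm (Fin 8)} (hτ : Equiv.Perm.sign τ = 1) (hW : ∀ m ∈ coW, pm τ m ∈ coW)
    {c c' : G} (hc : c ∈ S.asub) (hc' : c' ∈ S.asub) {t t' : Fin 8} {ψ ψ' : W8} (hψ : ψ ∈ coW) (hψ' : ψ' ∈ coW)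
    (hf : S.Form c t ψ) (hf' : S.Form c' t' ψ') (ht : ∃ s ∈ planeA, τ⁻¹ * trPerm t * τ = trPerm s)
    (ht' : ∃ s ∈ planeA, τ⁻¹ * trPerm t' * τ = trPerm s) : c * c' = c' * c ∧ c * c = 1 := by
  obtain ⟨k, χ, hχ, hkz, hkf, hkA⟩ := D.exists_mover hτ hW
  have moved : ∀ {c : G} {t : Fin 8} {ψ : W8}, c ∈ S.asub → ψ ∈ coW → S.Form c t ψ →
      (∃ s ∈ planeA, τ⁻¹ * trPerm t * τ = trPerm s) →
      ∃ s ∈ planeA, ∃ η ∈ coW, S.Form (k⁻¹ * c * k) s η := by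
    intro c t ψ hc hψ hf ⟨s, hs, hts⟩
    obtain ⟨s', η, hη, hform⟩ := S.exists_form_asub (hkA c hc)
    refine ⟨s', ?_, η, hη, hform⟩
    have h1 := form_comp (S.act_iso hkz) (S.act_iso (S.asub_cz (hkA c hc))) hχ (coW_facts.1 η hη).1 hkf hform
    have h2 := form_comp (S.act_iso (S.asub_cz hc)) (S.act_iso hkz) (coW_facts.1 ψ hψ).1 hχ hf hkf
    have e := (M_unique (ev_add (ev_pm (coW_facts.1 η hη).1 _) hχ) (ev_add (ev_pm hχ _) (coW_facts.1 ψ hψ).1)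
      fun v => by
        rw [← h1, ← h2, ← S.act_mul hkz (S.asub_cz (hkA c hc)), ← S.act_mul (S.asub_cz hc) hkz]
        congr 1; group).1
    have : trPerm s' = trPerm s := by rw [← hts, mul_assoc, ← e, inv_mul_cancel_left]
    rw [trPerm_facts.2.2.2.2 _ _ this]
    exact hs
  obtain ⟨s, hs, η, hη, hF⟩ := moved hc hψ hf ht
  obtain ⟨s', hs', η', hη', hF'⟩ := moved hc' hψ' hf' ht'
  obtain ⟨k1, k2⟩ := D.plane_comm (hkA c hc) (hkA c' hc') hη hη' hF hF' hs hs'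
  constructor
  · calc c * c' = k * (k⁻¹ * c * k * (k⁻¹ * c' * k)) * k⁻¹ := by group
      _ = c' * c := by rw [k1]; group
  · calc c * c = k * (k⁻¹ * c * k * (k⁻¹ * c * k)) * k⁻¹ := by group
      _ = 1 := by rw [k2]; group

theorem exists_every (t : Fin 8) : ∃ c ∈ S.asub, ∃ ψ ∈ coW, S.Form c t ψ := by
  obtain ⟨-, -, hW1, -, hm1, -⟩ := tau_facts
  refine closure_tr (P := fun t => ∃ c ∈ S.asub, ∃ ψ ∈ coW, S.Form c t ψ) ?_ ?_ ?_ ?_ ?_ t
  · exact ⟨1, one_mem _, 0, by decide +kernel, S.form_one⟩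
  · rintro a b ⟨c, hc, ψ, hψ, hf⟩ ⟨c', hc', ψ', hψ', hf'⟩
    exact ⟨c * c', mul_mem hc hc', _, (coW_facts.2.1 _ hψ _ hψ').2, Form.mul S hc hc' hψ hψ' hf hf'⟩
  · obtain ⟨e, -, -, h, h'⟩ := D.exists_plane_elem (t := 4) (by decide)
    exact ⟨e, h, h'⟩
  · obtain ⟨e, -, -, h, h'⟩ := D.exists_plane_elem (t := 5) (by decide)
    exact ⟨e, h, h'⟩
  · obtain ⟨s, hs, hts⟩ := hm1 1 (by decide)
    obtain ⟨e, -, -, heA, η, hη, hef⟩ := D.exists_plane_elem hs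
    obtain ⟨k, χ, hχ, hkz, hkf⟩ : ∃ k χ, Ev χ ∧ k * z = z * k ∧ ∀ v, S.act k v = M τ₁ χ v := by
      obtain ⟨k, χ, h1, h2, h3, -⟩ := D.exists_mover tau_facts.1 hW1
      exact ⟨k, χ, h1, h2, h3⟩
    have hmem : k * e * k⁻¹ ∈ S.asub := S.mem_asub.2 fun x hx hw => by
      have hx' := S.norm k⁻¹ (cz_inv hkz) x hx
      have hw' : InW (π (k⁻¹ * x * k⁻¹⁻¹)) := by
        obtain ⟨σ, η', hη', hif⟩ := exists_form (S.act_iso (cz_inv hkz)) (by
          have := S.act_inv_act hkz u0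
          rwa [hkf, M_u0] at this)
        have hσ : σ = τ₁⁻¹ := by
          have h1 := form_comp (S.act_iso (cz_inv hkz)) (S.act_iso hkz) hη' hχ hif hkf
          have := (M_unique (σ := σ * τ₁) (τ := 1) (ev_add (ev_pm hχ σ) hη') ev_zero fun v => by
            rw [← h1, S.act_inv_act hkz, evM_zero]).1
          exact eq_inv_of_mul_eq_one_left this
        rw [← S.act_π (cz_inv hkz) hx, hif]
        refine ⟨by rw [(co_M hη' σ _).2]; exact hw.1, ?_⟩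
        rw [(co_M hη' σ _).1, hw.1, zero_smul, add_zero, hσ]
        have : ∀ m ∈ coW, pm τ₁⁻¹ m ∈ coW := by decide +kernel
        exact this _ hw.2
      calc k * e * k⁻¹ * x = k * (e * (k⁻¹ * x * k⁻¹⁻¹)) * k⁻¹ := by group
        _ = x * (k * e * k⁻¹) := by rw [S.mem_asub.1 heA _ hx' hw']; group
    obtain ⟨t', ψ', hψ', hf'⟩ := S.exists_form_asub hmem
    refine ⟨_, hmem, ψ', hψ', ?_⟩
    have h1 := form_comp (S.act_iso (S.asub_cz hmem)) (S.act_iso hkz) (coW_facts.1 ψ' hψ').1 hχ hf' hkf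
    have h2 := form_comp (S.act_iso hkz) (S.act_iso (S.asub_cz heA)) hχ (coW_facts.1 η hη).1 hkf hef
    have e1 := (M_unique (ev_add (ev_pm hχ _) (coW_facts.1 ψ' hψ').1) (ev_add (ev_pm (coW_facts.1 η hη).1 _) hχ)
      fun v => by
        rw [← h1, ← h2, ← S.act_mul (S.asub_cz hmem) hkz, ← S.act_mul hkz (S.asub_cz heA), inv_mul_cancel_right]).1
    have e2 : trPerm t' = trPerm 1 := by
      have e3 : τ₁⁻¹ * trPerm t' * τ₁ = τ₁⁻¹ * trPerm 1 * τ₁ := by rw [hts, mul_assoc, e1, inv_mul_cancel_left]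
      exact mul_left_cancel (mul_right_cancel e3)
    rwa [trPerm_facts.2.2.2.2 _ _ e2] at hf'

/-- The subgroup is elementary abelian. -/
theorem asub_comm {c c' : G} (hc : c ∈ S.asub) (hc' : c' ∈ S.asub) : c * c' = c' * c := by
  obtain ⟨hs1, hs2, hW1, hW2, hm1, hm2⟩ := tau_facts
  obtain ⟨c4, hc4, ψ4, hψ4, hf4⟩ := D.exists_every 4
  obtain ⟨c5, hc5, ψ5, hψ5, hf5⟩ := D.exists_every 5
  obtain ⟨c1', hc1, ψ1, hψ1, hf1⟩ := D.exists_every 1
  -- each basic element commutes with everything of the three basic kinds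
  have base : ∀ {b : G} {s : Fin 8} {χ : W8}, b ∈ S.asub → χ ∈ coW → S.Form b s χ → s ∈ [(7 : Fin 8), 4, 5, 1] →
      ∀ {b' : G} {s' : Fin 8} {χ' : W8}, b' ∈ S.asub → χ' ∈ coW → S.Form b' s' χ' → s' ∈ [(7 : Fin 8), 4, 5, 1] →
        b * b' = b' * b := by
    intro b s χ hb hχ hf hs b' s' χ' hb' hχ' hf' hs'
    have cases3 := pair_cases s hs s' hs'
    rcases cases3 with ⟨h, h'⟩ | ⟨h, h'⟩ | ⟨h, h'⟩
    · exact (D.plane_comm hb hb' hχ hχ' hf hf' h h').1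
    · exact (D.moved_comm hs1 hW1 hb hb' hχ hχ' hf hf' (hm1 s h) (hm1 s' h')).1
    · exact (D.moved_comm hs2 hW2 hb hb' hχ hχ' hf hf' (hm2 s h) (hm2 s' h')).1
  -- a product decomposition
  have split : ∀ c ∈ S.asub, ∃ x ∈ S.asub, ∃ b₁ ∈ S.asub, ∃ b₂ ∈ S.asub, ∃ b₃ ∈ S.asub,
      (∀ i ∈ [x, b₁, b₂, b₃], ∃ s ∈ [(7 : Fin 8), 4, 5, 1], ∃ χ ∈ coW, S.Form i s χ) ∧
      c = x * b₁ * b₂ * b₃ := by
    intro c hc
    obtain ⟨t, ψ, hψ, hf⟩ := S.exists_form_asub hc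
    obtain ⟨a', ha, b', hb, d', hd, rfl⟩ := tr_gens t
    have pick : ∀ {s0 : Fin 8}, s0 ∈ [(7 : Fin 8), 4, 5, 1] → ∀ {s : Fin 8}, s ∈ [(7 : Fin 8), s0] →
        ∃ b ∈ S.asub, ∃ χ ∈ coW, S.Form b s χ ∧ s ∈ [(7 : Fin 8), 4, 5, 1] := by
      intro s0 h0 s hs
      obtain ⟨b, hb, χ, hχ, hbf⟩ := D.exists_every s
      refine ⟨b, hb, χ, hχ, hbf, ?_⟩
      rcases List.mem_pair.1 hs with e | e <;> rw [e]
      · simp
      · exact h0
    obtain ⟨b1, hb1, χ1, hχ1, hf1, m1⟩ := pick (s0 := 4) (by simp) ha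
    obtain ⟨b2, hb2, χ2, hχ2, hf2, m2⟩ := pick (s0 := 5) (by simp) hb
    obtain ⟨b3, hb3, χ3, hχ3, hf3, m3⟩ := pick (s0 := 1) (by simp) hd
    have hprod := Form.mul S (mul_mem hb1 hb2) hb3 (coW_facts.2.1 _ hχ1 _ hχ2).2 hχ3
      (Form.mul S hb1 hb2 hχ1 hχ2 hf1 hf2) hf3
    have hsum := (coW_facts.2.1 _ (coW_facts.2.1 _ hχ1 _ hχ2).2 _ hχ3).2
    set x := c * (b1 * b2 * b3)⁻¹ with hx
    have hxA : x ∈ S.asub := mul_mem hc (inv_mem (mul_mem (mul_mem hb1 hb2) hb3))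
    have hxf := Form.mul S hc (inv_mem (mul_mem (mul_mem hb1 hb2) hb3)) hψ hsum hf
      (Form.inv S (mul_mem (mul_mem hb1 hb2) hb3) hsum hprod)
    rw [show ∀ t, trFun t t = 7 by decide +kernel] at hxf
    refine ⟨x, hxA, b1, hb1, b2, hb2, b3, hb3, ?_, by rw [hx]; group⟩
    simp only [List.mem_cons, List.not_mem_nil, or_false]
    rintro i (rfl | rfl | rfl | rfl)
    · exact ⟨7, by simp, _, (coW_facts.2.1 _ hψ _ hsum).2, hxf⟩
    · exact ⟨_, by simpa using m1, _, hχ1, hf1⟩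
    · exact ⟨_, by simpa using m2, _, hχ2, hf2⟩
    · exact ⟨_, by simpa using m3, _, hχ3, hf3⟩
  obtain ⟨x, hx, b1, hb1, b2, hb2, b3, hb3, hi, rfl⟩ := split c hc
  obtain ⟨x', hx', d1, hd1, d2, hd2, d3, hd3, hj, rfl⟩ := split c' hc'
  have C : ∀ i ∈ [x, b1, b2, b3], ∀ j ∈ [x', d1, d2, d3], i ∈ S.asub → j ∈ S.asub → Commute i j :=
    fun i him j hjm hiA hjA => by
      obtain ⟨s, hs, χ, hχ, hf⟩ := hi i him
      obtain ⟨s', hs', χ', hχ', hf'⟩ := hj j hjm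
      exact base hiA hχ hf hs hjA hχ' hf' hs'
  have R : ∀ j ∈ [x', d1, d2, d3], j ∈ S.asub → Commute (x * b1 * b2 * b3) j := fun j hjm hjA =>
    (((C x (by simp) j hjm hx hjA).mul_left (C b1 (by simp) j hjm hb1 hjA)).mul_left
      (C b2 (by simp) j hjm hb2 hjA)).mul_left (C b3 (by simp) j hjm hb3 hjA)
  exact ((((R x' (by simp) hx').mul_right (R d1 (by simp) hd1)).mul_right (R d2 (by simp) hd2)).mul_right
    (R d3 (by simp) hd3)).eq

theorem asub_sq {c : G} (hc : c ∈ S.asub) : c * c = 1 := by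
  obtain ⟨hs1, hs2, hW1, hW2, hm1, hm2⟩ := tau_facts
  let H : Subgroup G :=
    { carrier := {c | c ∈ S.asub ∧ c * c = 1}
      one_mem' := ⟨one_mem _, mul_one 1⟩
      mul_mem' := fun {x y} hx hy => ⟨mul_mem hx.1 hy.1, by
        rw [(D.asub_comm hy.1 hx.1).symm |> (fun h : Commute x y => h.symm.mul_mul_mul_comm), hx.2, hy.2, mul_one]⟩
      inv_mem' := fun {x} hx => ⟨inv_mem hx.1, by rw [← mul_inv_rev, hx.2, inv_one]⟩ }
  obtain ⟨t, ψ, hψ, hf⟩ := S.exists_form_asub hc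
  have sq : ∀ {b : G} {s : Fin 8} {χ : W8}, b ∈ S.asub → χ ∈ coW → S.Form b s χ →
      s ∈ [(7 : Fin 8), 4, 5, 1] → b ∈ H := by
    intro b s χ hb hχ hf hs
    have := single_cases s hs
    rcases this with h | h
    · exact ⟨hb, (D.plane_comm hb hb hχ hχ hf hf h h).2⟩
    · exact ⟨hb, (D.moved_comm hs1 hW1 hb hb hχ hχ hf hf (hm1 s h) (hm1 s h)).2⟩
  have key : ∀ t, ∀ c ∈ S.asub, ∀ ψ ∈ coW, S.Form c t ψ → c ∈ H := by
    refine closure_tr (P := fun t => ∀ c ∈ S.asub, ∀ ψ ∈ coW, S.Form c t ψ → c ∈ H) ?_ ?_ ?_ ?_ ?_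
    · exact fun c hc ψ hψ hf => sq hc hψ hf (by simp)
    · intro a' b' ha hb c hc ψ hψ hf
      obtain ⟨c', hc', χ, hχ, hf'⟩ := D.exists_every a'
      have h2 := Form.mul S (inv_mem hc') hc hχ hψ (Form.inv S hc' hχ hf') hf
      rw [trFun_invol] at h2
      have := H.mul_mem (ha c' hc' χ hχ hf') (hb _ (mul_mem (inv_mem hc') hc) _ (coW_facts.2.1 _ hχ _ hψ).2 h2)
      rwa [mul_inv_cancel_left] at this
    all_goals exact fun c hc ψ hψ hf => sq hc hψ hf (by simp)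
  exact (key t c hc ψ hψ hf).2

theorem asub_elementary : Cfsg.IsElementaryAbelian 2 S.asub :=
  ⟨⟨⟨fun x y => Subtype.ext (D.asub_comm x.2 y.2)⟩⟩, fun x hx => by
    rw [pow_two]; exact D.asub_sq hx⟩

theorem card_asub : Nat.card ↥S.asub = 2 ^ 11 := by
  classical
  have hsel : ∀ k : Fin 8 × {ψ : W8 // ψ ∈ coW}, ∃ c ∈ S.asub, S.Form c k.1 k.2.1 := by
    rintro ⟨t, ψ, hψ⟩
    obtain ⟨c, hc, χ, hχ, hf⟩ := D.exists_every t
    have hs := (coW_facts.2.1 _ hψ _ hχ).2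
    obtain ⟨f, -, -, hfA, hff⟩ := D.exists_sie_form hs
    refine ⟨f * c, mul_mem hfA hc, ?_⟩
    have h := Form.mul S hfA hc hs hχ hff hf
    rwa [show ∀ t, trFun 7 t = t by decide +kernel, add_assoc, add_self_W, add_zero] at h
  choose sel hsel hself using hsel
  let Φ : ↥S.xsub × (Fin 8 × {ψ : W8 // ψ ∈ coW}) → ↥S.asub := fun k =>
    ⟨k.1 * sel k.2, mul_mem (S.xsub_le_asub k.1.2) (hsel _)⟩
  have formX : ∀ (x : ↥S.xsub) (k : Fin 8 × {ψ : W8 // ψ ∈ coW}), S.Form ((x : G) * sel k) k.1 k.2.1 := by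
    intro x k v
    rw [S.act_mul (S.mem_cz x.2.1) (S.asub_cz (hsel k)), S.act_Q x.2.1]
    exact hself k v
  have hbij : Function.Bijective Φ := by
    constructor
    · rintro ⟨x, k⟩ ⟨x', k'⟩ he
      have e : (x : G) * sel k = x' * sel k' := congrArg Subtype.val he
      obtain ⟨e1, e2⟩ := Form.unique S k.2.2 k'.2.2 (formX x k) (e ▸ formX x' k')
      obtain rfl : k = k' := Prod.ext e1 (Subtype.ext e2)
      rw [Subtype.ext (mul_right_cancel e)]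
    · rintro ⟨c, hc⟩
      obtain ⟨t, ψ, hψ, hf⟩ := S.exists_form_asub hc
      have h := Form.mul S hc (inv_mem (hsel (t, ⟨ψ, hψ⟩))) hψ hψ hf
        (Form.inv S (hsel (t, ⟨ψ, hψ⟩)) hψ (hself (t, ⟨ψ, hψ⟩)))
      rw [show ∀ t, trFun t t = 7 by decide +kernel, add_self_W] at h
      exact ⟨(⟨_, Form.mem_xsub S (mul_mem hc (inv_mem (hsel _))) h⟩, (t, ⟨ψ, hψ⟩)),
        Subtype.ext (inv_mul_cancel_right c _)⟩
  rw [← Nat.card_congr (Equiv.ofBijective Φ hbij), Nat.card_prod, Nat.card_prod, S.card_xsub, Nat.card_fin]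
  have : Nat.card {ψ : W8 // ψ ∈ coW} = 8 := by
    rw [Nat.card_eq_fintype_card, Fintype.card_subtype]; decide +kernel
  rw [this]; norm_num

theorem z_asub : z ∈ S.asub := S.xsub_le_asub S.z_xsub

theorem centralizer_asub : Subgroup.centralizer (S.asub : Set G) = S.asub := by
  refine le_antisymm (fun c hc => S.mem_asub.2 fun x hx hw => ?_) fun c hc => ?_
  · exact (Subgroup.mem_centralizer_iff.1 hc x (S.xsub_le_asub ⟨hx, hw⟩)).symm
  · exact Subgroup.mem_centralizer_iff.2 fun y hy => D.asub_comm hy hc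

end Gd

end Co

end CfsgLib.Characterizations.CoType
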