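import Cfsg.Agent.Lib.Characterizations.CoType.Golay.Levi
import Cfsg.Agent.Lib.Presentations.Carmichael

/-!
# Groups of Conway type: a complement to the subgroup of order `2¹¹` in its normaliser inside `C(z)`

The Levi subgroup is generated by six elements with Carmichael's relations.
-/

set_option autoImplicit false
set_option linter.style.haveILetI false
set_option linter.unusedSectionVars false
set_option maxRecDepth 4000

namespace CfsgLib.Characterizations.CoType

open CfsgLib.ThreeTransp.Extraspecial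

variable {G : Type*} [Group G] [Finite G] {z : G} {Q : Subgroup G} {π : G → V}

theorem invM_lt : invM.length = 4 ∧ ∀ b : Fin 4, invM.getD b.1 0 < 16 := ⟨rfl, by decide +kernel⟩

theorem six_index : ∀ i j : Fin 6, i < j → ∃ p ∈ conjW, p.1 = (i.1, j.1) := by decide +kernel

theorem word_six : ∀ i : Fin 6, sixW.getD i.1 [] ∈ sixW := by decide +kernel

theorem lmx_id_map (m : List ℕ) (h : ∀ x ∈ m, x < 16) : m.map (lmx [1, 2, 4, 8]) = m := by
  have key : ∀ n : Fin 16, lmx [1, 2, 4, 8] n.1 = n.1 := by decide +kernel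
  exact (List.map_congr_left fun x hx => key ⟨x, h x hx⟩).trans m.map_id

namespace Co

variable (S : Co z Q π)

theorem wact_append {H : Subgroup G} (hH : ∀ k ∈ H, k * z = z * k) {k k' : G} (hk : k ∈ H) (hk' : k' ∈ H)
    {m m' : List ℕ} (h : S.WAct k m) (h' : S.WAct k' m') (hl : m.length = 4) (hlt : ∀ b : Fin 4, m.getD b.1 0 < 16)
    (hl' : m'.length = 4) (hlt' : ∀ b : Fin 4, m'.getD b.1 0 < 16) : S.WAct (k * k') (m'.map (lmx m)) := fun b => by
  have h2 := hlt' b
  rw [List.getD_eq_getElem _ _ (by rw [hl']; exact b.2)] at h2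
  rw [S.act_mul (hH k hk) (hH k' hk'), h' b, List.getD_eq_getElem _ _ (by rw [hl']; exact b.2),
    List.getD_eq_getElem _ _ (by simp [hl']), List.getElem_map]
  exact h.apply S (hH k hk) hl hlt ⟨_, h2⟩

theorem wordM_append : ∀ (v w : List ℕ), (∀ i ∈ v, i < 3) → (∀ i ∈ w, i < 3) →
    wordM (v ++ w) = (wordM w).map (lmx (wordM v))
  | [], w, _, hw => by
      obtain ⟨hl, hlt⟩ := wordM_facts w hw
      refine (lmx_id_map (wordM w) fun x hx => ?_).symm
      obtain ⟨j, hj, rfl⟩ := List.getElem_of_mem hx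
      have := hlt ⟨j, hl ▸ hj⟩
      rwa [List.getD_eq_getElem _ _ hj] at this
  | i :: v, w, hv, hw => by
      have hv' : ∀ j ∈ v, j < 3 := fun j hj => hv j (List.mem_cons_of_mem _ hj)
      rw [List.cons_append, wordM, wordM, wordM_append v w hv' hw, List.map_map]
      refine List.map_congr_left fun x _ => ?_
      obtain ⟨hl, hlt⟩ := wordM_facts v hv'
      -- composition of linear maps
      have key : ∀ (g : List ℕ) (m : List ℕ) (n : ℕ),
          lmx g (lmx m n) = lmx (m.map (lmx g)) n := by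
        intro g
        have hxor : ∀ (g : List ℕ) (a b : ℕ), lmx g (a ^^^ b) = lmx g a ^^^ lmx g b := fun g a b => lmx_xor g a b
        intro m
        induction m with
        | nil =>
          intro n
          simp only [lmx, List.map_nil]
          have h0 := hxor g 0 0
          rw [Nat.xor_self] at h0
          rw [h0, Nat.xor_self]
        | cons y m ih =>
          intro n
          simp only [lmx, List.map_cons, hxor, ih]
          congr 1
          split
          · rfl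
          · have h0 := hxor g 0 0
            rw [Nat.xor_self] at h0
            rw [h0, Nat.xor_self]
      exact key _ _ _

namespace Gd

variable {S} {u g u₁ c₁ a : G} {L : R4 → R4 → ZMod 2} (D : S.Gd u g u₁ c₁ a L)
include D

/-- A lift with trivial Siegel parameter. -/
theorem exists_perm_lift {τ : Equiv.Perm (Fin 8)} (hτ : Equiv.Perm.sign τ = 1) :
    ∃ k, k * z = z * k ∧ ∀ v, S.act k v = M τ 0 v := by
  obtain ⟨k, hk, -, ψ, hψ, hkf⟩ := D.p.exists_lift hτ
  obtain ⟨f, hf, hff⟩ := D.p.exists_sie hψ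
  have hfz := (D.p.sie_comm hf).1
  refine ⟨f * k, cz_mul hfz hk, fun v => ?_⟩
  rw [S.act_mul hfz hk, form_comp (S.act_iso hfz) (S.act_iso hk) hψ hψ hff hkf, pm_one hψ, add_self_W, one_mul]

/-- The involution with image of dimension two on each half, and adapted lifts. -/
theorem exists_halves : ∃ (xs ys : List G) (e : G), S.Halves xs ys ∧ e ∈ S.levi xs ys ∧ e * e = 1 ∧
    S.WAct e invM := by
  obtain ⟨hEv, hco, hcomp, hEw, hEf⟩ := invol_facts
  obtain ⟨k, hk, hkf⟩ := D.exists_perm_lift sigma_facts.1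
  obtain ⟨c, hc, hcf⟩ := D.exists_form_rep (4, ⟨χe, hco⟩)
  have hcz := S.asub_cz hc
  obtain ⟨e, he⟩ : ∃ e, e = k * c * k⁻¹ := ⟨_, rfl⟩
  have hez : e * z = z * e := he.symm ▸ cz_mul (cz_mul hk hcz) (cz_inv hk)
  have hee : e * e = 1 := by
    rw [he, conj_mul, D.asub_sq hc]; group
  have hact : ∀ v, S.act e v = M σe ψe v := fun v => by
    conv_lhs => rw [← S.act_act_inv hk v]
    rw [← S.act_mul hez hk, show e * k = k * c by rw [he]; group, S.act_mul hk hcz, hkf, hcf]
    rw [← hcomp]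
    rw [← hkf, S.act_act_inv hk]
  have heinv : e⁻¹ = e := inv_eq_of_mul_eq_one_right hee
  -- lifts adapted to `e`
  have build : ∀ {vec : ℕ → V}, Sing vec → ∀ {p q r s : Fin 4}, ∀ x y : G, x ∈ Q → y ∈ Q →
      π x = vec (2 ^ r.1) → π y = vec (2 ^ s.1) → vec (2 ^ r.1) + S.act e (vec (2 ^ r.1)) = vec (2 ^ p.1) →
      vec (2 ^ s.1) + S.act e (vec (2 ^ s.1)) = vec (2 ^ q.1) →
      (e * x * e⁻¹ * x ∈ Q ∧ π (e * x * e⁻¹ * x) = vec (2 ^ p.1)) ∧
      (e * y * e⁻¹ * y ∈ Q ∧ π (e * y * e⁻¹ * y) = vec (2 ^ q.1)) := by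
    intro vec _ p q r s x y hx hy hπx hπy h1 h2
    constructor
    · refine ⟨mul_mem (S.norm e hez x hx) hx, ?_⟩
      rw [S.π_mul _ (S.norm e hez x hx) _ hx, ← S.act_π hez hx, hπx, add_comm, h1]
    · refine ⟨mul_mem (S.norm e hez y hy) hy, ?_⟩
      rw [S.π_mul _ (S.norm e hez y hy) _ hy, ← S.act_π hez hy, hπy, add_comm, h2]
  have moves : ∀ {vec : ℕ → V} {l : List G}, S.Lift vec l → Sing vec → ∀ (p r : Fin 4),
      l.getD p.1 1 = e * l.getD r.1 1 * e⁻¹ * l.getD r.1 1 →
      e * l.getD r.1 1 * e⁻¹ ∈ S.half l ∧ e * l.getD p.1 1 * e⁻¹ ∈ S.half l := by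
    intro vec l hl hv p r hp
    have hr2 := hl.half_sq hv (getD_half (S := S) r.1)
    have h1 : e * l.getD r.1 1 * e⁻¹ = l.getD p.1 1 * l.getD r.1 1 := by
      calc e * l.getD r.1 1 * e⁻¹ = e * l.getD r.1 1 * e⁻¹ * (l.getD r.1 1 * l.getD r.1 1) := by rw [hr2, mul_one]
        _ = _ := by rw [hp]; group
    have h1m : e * l.getD r.1 1 * e⁻¹ ∈ S.half l := h1 ▸ mul_mem (getD_half _) (getD_half _)
    refine ⟨h1m, ?_⟩
    have hsplit : e * l.getD p.1 1 * e⁻¹ = l.getD r.1 1 * (e * l.getD r.1 1 * e⁻¹) := by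
      have hxi : (l.getD r.1 1)⁻¹ = l.getD r.1 1 := inv_eq_of_mul_eq_one_right hr2
      have hcomm := hl.half_comm hv h1m (getD_half (S := S) r.1)
      calc e * l.getD p.1 1 * e⁻¹ = (e * e) * l.getD r.1 1 * e⁻¹ * (l.getD r.1 1 * e⁻¹) := by rw [hp]; group
        _ = l.getD r.1 1 * (e⁻¹ * l.getD r.1 1 * e⁻¹) := by rw [hee, one_mul]; group
        _ = _ := by rw [heinv]
    rw [hsplit]
    exact mul_mem (getD_half _) h1m
  obtain ⟨x2, hx2, px2⟩ := S.π_surj (wvec (2 ^ 2))
  obtain ⟨x3, hx3, px3⟩ := S.π_surj (wvec (2 ^ 3))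
  obtain ⟨y0', hy0, py0⟩ := S.π_surj (fvec (2 ^ 0))
  obtain ⟨y1', hy1, py1⟩ := S.π_surj (fvec (2 ^ 1))
  have hw2 : wvec (2 ^ 2) + S.act e (wvec (2 ^ 2)) = wvec (2 ^ 0) := by
    rw [hact, show M σe ψe (wvec (2 ^ 2)) = wvec 5 from hEw 2]; decide +kernel
  have hw3 : wvec (2 ^ 3) + S.act e (wvec (2 ^ 3)) = wvec (2 ^ 1) := by
    rw [hact, show M σe ψe (wvec (2 ^ 3)) = wvec 10 from hEw 3]; decide +kernel
  have hf0 : fvec (2 ^ 0) + S.act e (fvec (2 ^ 0)) = fvec (2 ^ 2) := by
    rw [hact, show M σe ψe (fvec (2 ^ 0)) = fvec 5 from hEf 0]; decide +kernel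
  have hf1 : fvec (2 ^ 1) + S.act e (fvec (2 ^ 1)) = fvec (2 ^ 3) := by
    rw [hact, show M σe ψe (fvec (2 ^ 1)) = fvec 10 from hEf 1]; decide +kernel
  obtain ⟨⟨a0, b0⟩, a1, b1⟩ := build sing_wvec (p := 0) (q := 1) (r := 2) (s := 3) x2 x3 hx2 hx3 px2 px3 hw2 hw3
  obtain ⟨⟨a2, b2⟩, a3, b3⟩ := build sing_fvec (p := 2) (q := 3) (r := 0) (s := 1) y0' y1' hy0 hy1 py0 py1 hf0 hf1
  set xs := [e * x2 * e⁻¹ * x2, e * x3 * e⁻¹ * x3, x2, x3] with hxs
  set ys := [y0', y1', e * y0' * e⁻¹ * y0', e * y1' * e⁻¹ * y1'] with hys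
  have hX : S.Lift wvec xs :=
    ⟨rfl, fun b => by fin_cases b <;> assumption, fun b => by fin_cases b <;> assumption⟩
  have hY : S.Lift fvec ys :=
    ⟨rfl, fun b => by fin_cases b <;> assumption, fun b => by fin_cases b <;> assumption⟩
  refine ⟨xs, ys, e, ⟨hX, hY⟩, Subgroup.mem_inf.2 ⟨Subgroup.mem_inf.2
    ⟨Subgroup.mem_centralizer_singleton_iff.2 hez, ?_⟩, ?_⟩, hee, fun b => by rw [hact, hEw b]⟩
  · obtain ⟨m1, m2⟩ := moves hX sing_wvec 0 2 rfl
    obtain ⟨m3, m4⟩ := moves hX sing_wvec 1 3 rfl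
    refine Lift.mem_normalizer_half fun x hx => ?_
    simp only [hxs, List.mem_cons, List.not_mem_nil, or_false] at hx
    rcases hx with rfl | rfl | rfl | rfl
    exacts [m2, m4, m1, m3]
  · obtain ⟨m1, m2⟩ := moves hY sing_fvec 2 0 rfl
    obtain ⟨m3, m4⟩ := moves hY sing_fvec 3 1 rfl
    refine Lift.mem_normalizer_half fun x hx => ?_
    simp only [hys, List.mem_cons, List.not_mem_nil, or_false] at hx
    rcases hx with rfl | rfl | rfl | rfl
    exacts [m1, m3, m2, m4]

/-- The three generators are realised in the Levi subgroup. -/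
theorem levi_gen {xs ys : List G} (H : S.Halves xs ys) : ∀ i : Fin 3, ∃ l ∈ S.levi xs ys, S.WAct l (genM i.1) := by
  intro i
  have hm := (gen_facts i).1
  have hm' := genF_lt i
  fin_cases i
  · obtain ⟨hev, hA⟩ := trA_facts
    obtain ⟨f, hf, hff⟩ := D.p.exists_sie hev
    exact H.exists_lift (D.p.sie_comm hf).1 hm hm' (fun b => (hff _).trans (hA b).1) fun b => (hff _).trans (hA b).2
  · obtain ⟨hab, hub, hua, hw, hf, huniq⟩ := trB_facts
    have hcz := D.d.cz
    set w := S.act c₁⁻¹ y0 with hwdef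
    have hw7 : w 7 = 0 := by
      rw [hwdef, D.p.seven_c₁ D.d]
      decide +kernel
    obtain ⟨e', he', hef⟩ := D.p.exists_sie (ev_co w)
    set k := c₁ * e' * c₁⁻¹ with hk'
    have hk : k * z = z * k := cz_mul (cz_mul hcz (D.p.sie_comm he').1) (cz_inv hcz)
    have key : ∀ v, B v (P φA) = 0 → S.act k v = v + B v y0 • P φA := by
      intro v hv
      have h := M_one_perp (co w) (v := S.act c₁⁻¹ v) (by rw [D.p.seven_c₁ D.d, hv])
      have hdot : dot (co (S.act c₁⁻¹ v)) (co w) = B v y0 := by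
        rw [← perp_polar (by rw [D.p.seven_c₁ D.d, hv]) hw7, hwdef, (S.act_iso (cz_inv hcz)).polar]
      rw [hdot, ← hef] at h
      have h2 := congrArg (S.act c₁) h
      rw [(S.act_iso hcz).add, S.act_act_inv hcz, (S.act_iso hcz).map_smul, D.p.act_c₁ D.d] at h2
      rw [hk', S.act_conj hcz (D.p.sie_comm he').1, ← h2, add_left_comm, add_self_V, add_zero]
    have hW : S.WAct k (genM 1) := fun b => by rw [key _ (hw b).1, (hw b).2]
    refine H.exists_lift hk hm hm' hW fun b => ?_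
    by_cases hb : b.1 = 1
    · have hI := S.act_iso hk
      rw [show b = 1 from Fin.ext hb]
      refine huniq _ (by rw [hI.quad]; exact fvec_facts.1 2) (fun d => ?_) fun d hd => ?_
      · rw [← hW d, hI.polar]
        have : ∀ d : Fin 4, B (fvec (2 ^ 1)) (wvec (2 ^ d.1)) = if d.1 = 1 then 1 else 0 := by decide +kernel
        exact this d
      · rw [← (hf d hd).2, ← key _ (hf d hd).1, hI.polar]
        exact fvec_facts.2.1 2 ⟨_, Nat.pow_lt_pow_right (show 1 < 2 by norm_num) d.2⟩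
    · rw [key _ (hf b hb).1, (hf b hb).2]
  · obtain ⟨k, hk, hkf⟩ := D.exists_perm_lift sigma_facts.2
    exact H.exists_lift hk hm hm' (fun b => (hkf _).trans (trC_facts b).1) fun b => (hkf _).trans (trC_facts b).2

/-- A complement in the normaliser inside `C(z)`. -/
theorem exists_complement_stab
    (hN : Nat.card ↥(Subgroup.normalizer (S.asub : Set G) ⊓ Subgroup.centralizer ({z} : Set G)) ≤ 20160 * 32768) :
    ∃ H : Subgroup G, H ≤ Subgroup.normalizer (S.asub : Set G) ⊓ Subgroup.centralizer ({z} : Set G) ∧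
      H ⊓ S.asub = ⊥ ∧
      ∀ n ∈ Subgroup.normalizer (S.asub : Set G) ⊓ Subgroup.centralizer ({z} : Set G),
        ∃ a ∈ S.asub, ∃ h ∈ H, n = a * h := by
  classical
  obtain ⟨xs, ys, e, HH, he, hee, heW⟩ := D.exists_halves
  set L := S.levi xs ys
  have hLz : ∀ l ∈ L, l * z = z * l := fun l hl => levi_cz hl
  have hgen := D.levi_gen HH
  obtain ⟨hsix, hword, -, hconj⟩ := six_facts
  have hw6 : ∀ i : Fin 6, (∀ k ∈ sixW.getD i.1 [], k < 3) := fun i => (hword _ (word_six i)).1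
  choose l hlL hlW using fun i : Fin 6 => S.wact_word hLz hgen _ (hw6 i)
  have hz4 : ∀ s : ZMod 2, (zp z s) * (zp z s) = 1 := fun s => by
    rw [← S.zp_add, CharTwo.add_self_eq_zero, zp_zero]
  let x : Fin 6 → G := fun i => l i ^ 4
  have hxL : ∀ i, x i ∈ L := fun i => pow_mem (hlL i) 4
  have hxW : ∀ i, S.WAct (x i) (wordM (sixW.getD i.1 [])) := fun i => by
    obtain ⟨hlt3, -, h4⟩ := hword _ (word_six i)
    obtain ⟨a1, a2⟩ := wordM_facts _ hlt3
    set w := sixW.getD i.1 [] with hwdef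
    have m2 : ∀ j ∈ w ++ w, j < 3 := fun j hj => by
      rcases List.mem_append.1 hj with h | h <;> exact hlt3 j h
    have m3 : ∀ j ∈ w ++ w ++ w, j < 3 := fun j hj => by
      rcases List.mem_append.1 hj with h | h
      exacts [m2 j h, hlt3 j h]
    have h2 := S.wact_append hLz (hlL i) (hlL i) (hlW i) (hlW i) a1 a2 a1 a2
    rw [← wordM_append _ _ hlt3 hlt3] at h2
    have h3 := S.wact_append hLz (mul_mem (hlL i) (hlL i)) (hlL i) h2 (hlW i) (wordM_facts _ m2).1
      (wordM_facts _ m2).2 a1 a2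
    rw [← wordM_append _ _ m2 hlt3] at h3
    have h4' := S.wact_append hLz (mul_mem (mul_mem (hlL i) (hlL i)) (hlL i)) (hlL i) h3 (hlW i)
      (wordM_facts _ m3).1 (wordM_facts _ m3).2 a1 a2
    rw [← wordM_append _ _ m3 hlt3, h4] at h4'
    show S.WAct (l i ^ 4) _
    rwa [show l i ^ 4 = l i * l i * l i * l i by simp only [pow_succ, pow_zero, one_mul]]
  have hx3 : ∀ i, x i ^ 3 = 1 := fun i => by
    obtain ⟨hlt3, hcube, -⟩ := hword _ (word_six i)
    obtain ⟨a1, a2⟩ := wordM_facts _ hlt3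
    set w := sixW.getD i.1 [] with hwdef
    have m2 : ∀ j ∈ w ++ w, j < 3 := fun j hj => by
      rcases List.mem_append.1 hj with h | h <;> exact hlt3 j h
    have h2 := S.wact_append hLz (hlL i) (hlL i) (hlW i) (hlW i) a1 a2 a1 a2
    rw [← wordM_append _ _ hlt3 hlt3] at h2
    have h3 := S.wact_append hLz (mul_mem (hlL i) (hlL i)) (hlL i) h2 (hlW i) (wordM_facts _ m2).1
      (wordM_facts _ m2).2 a1 a2
    rw [← wordM_append _ _ m2 hlt3, hcube] at h3
    obtain ⟨s, hs⟩ := HH.trivial (mul_mem (mul_mem (hlL i) (hlL i)) (hlL i)) fun b => by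
      rw [h3 b]; congr 1; fin_cases b <;> rfl
    show (l i ^ 4) ^ 3 = 1
    rw [show (l i ^ 4) ^ 3 = (l i * l i * l i) * (l i * l i * l i) * ((l i * l i * l i) * (l i * l i * l i)) by
      simp only [pow_succ, pow_zero, one_mul, mul_assoc], hs, hz4, one_mul]
  have hlt : ∀ i j : Fin 6, i < j → (x i * x j) ^ 2 = 1 := by
    intro i j hij
    obtain ⟨p, hp, hpe⟩ := six_index i j hij
    obtain ⟨hg3, heq⟩ := hconj p hp
    rw [hpe] at heq
    simp only at heq
    obtain ⟨k, hk, hkW⟩ := S.wact_word hLz hgen _ hg3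
    obtain ⟨k1, k2⟩ := wordM_facts _ hg3
    obtain ⟨i1, i2⟩ := wordM_facts _ (hw6 i)
    obtain ⟨j1, j2⟩ := wordM_facts _ (hw6 j)
    have m2 : ∀ t ∈ sixW.getD j.1 [] ++ p.2, t < 3 := fun t ht => by
      rcases List.mem_append.1 ht with h | h
      exacts [hw6 j t h, hg3 t h]
    have hleft := S.wact_append hLz (hxL j) hk (hxW j) hkW j1 j2 k1 k2
    rw [← wordM_append _ _ (hw6 j) hg3] at hleft
    have hleft' := S.wact_append hLz (hxL i) (mul_mem (hxL j) hk) (hxW i) hleft i1 i2 (wordM_facts _ m2).1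
      (wordM_facts _ m2).2
    rw [← wordM_append _ _ (hw6 i) m2, heq] at hleft'
    obtain ⟨s, hs⟩ := HH.eq_of_wact (mul_mem hk he) (mul_mem (hxL i) (mul_mem (hxL j) hk))
      (S.wact_append hLz hk he hkW heW k1 k2 invM_lt.1 invM_lt.2) hleft'
    have hxx : x i * x j = k * (e * zp z s) * k⁻¹ := by
      calc x i * x j = x i * (x j * k) * k⁻¹ := by group
        _ = k * e * zp z s * k⁻¹ := by rw [hs]
        _ = _ := by group
    rw [hxx, sq, conj_mul, show e * zp z s * (e * zp z s) = e * (zp z s * e) * zp z s by group,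
      ← S.zp_comm _ (hLz e he), show e * (e * zp z s) * zp z s = (e * e) * (zp z s * zp z s) by group, hee, hz4,
      one_mul, mul_one, mul_inv_cancel]
  have hpair : ∀ i j : Fin 6, i ≠ j → (x i * x j) ^ 2 = 1 := fun i j h => by
    rcases lt_or_gt_of_ne h with h | h
    · exact hlt i j h
    · exact CfsgLib.Presentations.sq_swap (hlt j i h)
  set T : Finset G := Finset.univ.image x with hT
  obtain ⟨-, hbound⟩ := CfsgLib.Presentations.closure_bound T ⟨x 0, Finset.mem_image_of_mem _ (Finset.mem_univ _)⟩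
    (fun y hy => by obtain ⟨i, -, rfl⟩ := Finset.mem_image.1 hy; exact hx3 i) fun y hy y' hy' hne => by
      obtain ⟨i, -, rfl⟩ := Finset.mem_image.1 hy
      obtain ⟨j, -, rfl⟩ := Finset.mem_image.1 hy'
      exact hpair i j fun h => hne (congrArg x h)
  set L' := Subgroup.closure (T : Set G) with hL'
  have hcard' : Nat.card ↥L' ≤ 20160 := by
    have h6 : T.card + 2 ≤ 8 := by
      have := Finset.card_image_le (s := (Finset.univ : Finset (Fin 6))) (f := x)
      rw [Finset.card_univ, Fintype.card_fin] at this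
      have h : T.card ≤ 6 := this
      omega
    have h8 := Nat.factorial_le h6
    rw [show Nat.factorial 8 = 40320 by decide] at h8
    omega
  have hL'L : L' ≤ L := (Subgroup.closure_le _).2 fun y hy => by
    obtain ⟨i, -, rfl⟩ := Finset.mem_image.1 (Finset.mem_coe.1 hy)
    exact hxL i
  -- the three generators inside the six-generated subgroup
  have hgen' : ∀ i : Fin 3, ∃ k ∈ L', S.WAct k (genM i.1) := by
    intro i
    obtain ⟨hks, heq⟩ := genW_facts i
    have hrec : ∀ ks : List ℕ, (∀ k ∈ ks, k < 6) → (∀ t ∈ ks.flatMap (fun k => sixW.getD k []), t < 3) ∧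
        ∃ k ∈ L', S.WAct k (wordM (ks.flatMap fun k => sixW.getD k [])) := by
      intro ks
      induction ks with
      | nil => exact fun _ => ⟨fun t ht => by simp at ht, 1, one_mem _, S.wact_one⟩
      | cons j ks ih =>
        intro h
        obtain ⟨h3, k, hk, hkW⟩ := ih fun t ht => h t (List.mem_cons_of_mem _ ht)
        have hj : j < 6 := h j List.mem_cons_self
        have hj3 : ∀ t ∈ sixW.getD j [], t < 3 := hw6 ⟨j, hj⟩
        refine ⟨fun t ht => ?_, x ⟨j, hj⟩ * k,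
          mul_mem (Subgroup.subset_closure (Finset.mem_coe.2 (Finset.mem_image_of_mem _ (Finset.mem_univ _)))) hk, ?_⟩
        · rw [List.flatMap_cons] at ht
          rcases List.mem_append.1 ht with h | h
          exacts [hj3 t h, h3 t h]
        · have h' := S.wact_append hLz (hxL _) (hL'L hk) (hxW ⟨j, hj⟩) hkW (wordM_facts _ hj3).1
            (wordM_facts _ hj3).2 (wordM_facts _ h3).1 (wordM_facts _ h3).2
          rw [← wordM_append _ _ hj3 h3] at h'
          rw [List.flatMap_cons]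
          exact h'
    obtain ⟨-, k, hk, hkW⟩ := hrec _ hks
    exact ⟨k, hk, heq ▸ hkW⟩
  set N := Subgroup.normalizer (S.asub : Set G) ⊓ Subgroup.centralizer ({z} : Set G) with hNdef
  set Y := S.half ys with hYdef
  set A := S.asub with hAdef
  have hQN : Q ≤ N := fun y hy => Subgroup.mem_inf.2 ⟨S.mem_norm_asub
    (Co.xsub_stable (S.mem_cz hy) fun x hx =>
      ⟨S.norm _ (S.mem_cz hy) x hx.1, by rw [S.π_conjQ hx.1 hy]; exact hx.2⟩),
    Subgroup.mem_centralizer_singleton_iff.2 (S.mem_cz hy)⟩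
  have hYQ : Y ≤ Q := fun y hy => (HH.hy.half_π sing_fvec hy).1
  have hLN : L ≤ N := fun t ht => by
    refine Subgroup.mem_inf.2 ⟨S.mem_norm_asub (Co.xsub_stable (hLz t ht) fun w hw => ?_),
      Subgroup.mem_centralizer_singleton_iff.2 (hLz t ht)⟩
    refine ⟨S.norm t (hLz t ht) w hw.1, ?_⟩
    obtain ⟨n, hn⟩ := wvec_facts.2.1 _ hw.2
    have hX := (Subgroup.mem_inf.1 (Subgroup.mem_inf.1 ht).1).2
    obtain ⟨h1, h2⟩ := HH.hx.word_π sing_wvec n
    have h3 := (HH.hx.half_π sing_wvec ((Subgroup.mem_normalizer_iff.1 hX _).1 (word_half (S := S) n.1))).2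
    obtain ⟨m, hm⟩ := h3
    rw [← S.act_π (hLz t ht) h1, h2] at hm
    rw [← S.act_π (hLz t ht) hw.1, hn, hm]
    exact wvec_facts.1 m
  have hL'Y : L' ≤ Subgroup.normalizer (Y : Set G) := fun t ht => (Subgroup.mem_inf.1 (hL'L ht)).2
  set H := L' ⊔ Y with hHdef
  have hHN : H ≤ N := sup_le (hL'L.trans hLN) (hYQ.trans hQN)
  have hHcard : Nat.card ↥H ≤ 20160 * 16 := by
    let f : ↥L' × ↥Y → ↥H := fun p => ⟨p.1 * p.2, mul_mem (Subgroup.mem_sup_left p.1.2) (Subgroup.mem_sup_right p.2.2)⟩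
    have hf : Function.Surjective f := fun t => by
      have ht : (t : G) ∈ ((L' ⊔ Y : Subgroup G) : Set G) := t.2
      rw [Subgroup.coe_mul_of_left_le_normalizer_right L' Y hL'Y] at ht
      obtain ⟨p, hp, r, hr, hpr⟩ := Set.mem_mul.1 ht
      exact ⟨(⟨p, hp⟩, ⟨r, hr⟩), Subtype.ext hpr⟩
    refine (Nat.card_le_card_of_surjective f hf).trans ?_
    rw [Nat.card_prod]
    exact Nat.mul_le_mul hcard' (HH.hy.card_half_le sing_fvec)
  have hAN : A ≤ N := fun c hc => Subgroup.mem_inf.2 ⟨Subgroup.le_normalizer hc,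
    Subgroup.mem_centralizer_singleton_iff.2 (S.asub_cz hc)⟩
  have hHA : H ≤ Subgroup.normalizer (A : Set G) := hHN.trans inf_le_left
  set K := H ⊔ A with hKdef
  have hKN : K ≤ N := sup_le hHN hAN
  have hKcz : ∀ k ∈ K, k * z = z * k := fun k hk =>
    Subgroup.mem_centralizer_singleton_iff.1 (Subgroup.mem_inf.1 (hKN hk)).2
  have hQK : Q ≤ K := fun y hy => by
    obtain ⟨n, hn⟩ : ∃ n : Fin 16, ∀ b : Fin 4, bitz n.1 b.1 = B (π y) (wvec (2 ^ b.1)) := fin16_bits _
    obtain ⟨h1, h2⟩ := HH.hy.word_π sing_fvec n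
    have hmem : y * (wordVal ys n.1)⁻¹ ∈ S.xsub := by
      refine ⟨mul_mem hy (inv_mem h1), inW_perp _ fun w hw => ?_⟩
      obtain ⟨m, rfl⟩ := wvec_facts.2.1 w hw
      have hall : ∀ b : Fin 4, B (π (y * (wordVal ys n.1)⁻¹)) (wvec (2 ^ b.1)) = 0 := fun b => by
        rw [S.π_mul _ hy _ (inv_mem h1), S.π_inv h1, h2, B_add_left, fvec_facts.2.2.2.2.2, hn b,
          CharTwo.add_self_eq_zero]
      have hBs : ∀ (v x : V) (t : ZMod 2), B v (t • x) = t * B v x := fun v x t => by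
        rcases two_cases t with r | r <;> rw [r] <;> simp [B]
      have hBa : ∀ v p r : V, B v (p + r) = B v p + B v r := fun v p r => by
        rw [B_comm, B_add_left, B_comm p, B_comm r]
      rw [sing_wvec.span m, hBa, hBa, hBa, hBs, hBs, hBs, hBs]
      have e0 := hall 0
      have e1 := hall 1
      have e2 := hall 2
      have e3 := hall 3
      simp only [Fin.val_zero, Fin.val_one, Fin.val_two] at e0 e1 e2 e3
      rw [e0, e1, e2, show ((3 : Fin 4) : ℕ) = 3 from rfl] at *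
      rw [e3]
      simp
    have := mul_mem (Subgroup.mem_sup_right (S.xsub_le_asub hmem) : y * (wordVal ys n.1)⁻¹ ∈ K)
      (Subgroup.mem_sup_left (Subgroup.mem_sup_right (word_half n.1)) : wordVal ys n.1 ∈ K)
    rwa [inv_mul_cancel_right] at this
  have hKge := D.card_sub_ge K hKcz hQK le_sup_right fun i => by
    obtain ⟨k, hk, hkW⟩ := hgen' i
    exact ⟨k, Subgroup.mem_sup_left (Subgroup.mem_sup_left hk), hkW⟩
  let f : ↥H × ↥A → ↥K := fun p => ⟨p.1 * p.2, mul_mem (Subgroup.mem_sup_left p.1.2) (Subgroup.mem_sup_right p.2.2)⟩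
  have hf : Function.Surjective f := fun t => by
    have ht : (t : G) ∈ ((H ⊔ A : Subgroup G) : Set G) := t.2
    rw [Subgroup.coe_mul_of_left_le_normalizer_right H A hHA] at ht
    obtain ⟨p, hp, r, hr, hpr⟩ := Set.mem_mul.1 ht
    exact ⟨(⟨p, hp⟩, ⟨r, hr⟩), Subtype.ext hpr⟩
  have hAc : Nat.card ↥A = 2 ^ 11 := D.card_asub
  have hle : Nat.card (↥H × ↥A) ≤ Nat.card ↥K := by
    rw [Nat.card_prod, hAc]
    exact (Nat.mul_le_mul_right _ hHcard).trans (le_trans (by norm_num) hKge)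
  have hbij : Function.Bijective f := (Nat.bijective_iff_surjective_and_card f).2
    ⟨hf, le_antisymm hle (Nat.card_le_card_of_surjective f hf)⟩
  have hKeq : K = N := Subgroup.eq_of_le_of_card_ge hKN (hN.trans hKge)
  refine ⟨H, hHN, ?_, fun n hn => ?_⟩
  · rw [eq_bot_iff]
    intro t ht
    obtain ⟨h1, h2⟩ := Subgroup.mem_inf.1 ht
    have := hbij.1 (a₁ := (⟨t, h1⟩, 1)) (a₂ := (1, ⟨t, h2⟩)) (Subtype.ext (by simp [f]))
    exact Subgroup.mem_bot.2 (congrArg (fun p : ↥H × ↥A => (p.1 : G)) this)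
  · obtain ⟨⟨h, c⟩, hhc⟩ := hf ⟨n, hKeq ▸ hn⟩
    have hv : (h : G) * c = n := congrArg Subtype.val hhc
    exact ⟨(h : G) * c * (h : G)⁻¹, (Subgroup.mem_normalizer_iff.1 (hHA h.2) _).1 c.2, h, h.2, by rw [← hv]; group⟩

end Gd

end Co

end CfsgLib.Characterizations.CoType
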