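import Cfsg.Agent.Lib.Characterizations.CoType.Golay.Orbits
import Cfsg.Agent.Lib.Characterizations.CoType.Golay.Split
import Cfsg.Agent.Lib.PGroup.Gaschutz

/-!
# Groups of Conway type: the `2`-local subgroup `2¹¹:M₂₄`
-/

set_option autoImplicit false
set_option linter.style.haveILetI false
set_option linter.unusedSectionVars false
set_option maxRecDepth 4000

namespace CfsgLib.Characterizations.CoType

open CfsgLib.ThreeTransp.Extraspecial CfsgLib.Solvable.Gaschutz

/-- An abelian subgroup of exponent two is complemented if it is in a subgroup of odd index. -/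
theorem exists_complement_odd {M : Type*} [Group M] [Finite M] (A U : Subgroup M) [A.Normal] (hAU : A ≤ U)
    (hc : ∀ x ∈ A, ∀ y ∈ A, x * y = y * x) (hs : ∀ x ∈ A, x * x = 1) (hodd : Odd U.index) {H : Subgroup M}
    (hHU : H ≤ U) (hdis : H ⊓ A = ⊥) (hprod : ∀ n ∈ U, ∃ a ∈ A, ∃ h ∈ H, n = a * h) :
    ∃ K : Subgroup M, A.IsComplement' K := by
  classical
  haveI hcomm : IsMulCommutative ↥A := ⟨⟨fun x y => Subtype.ext (hc _ x.2 _ y.2)⟩⟩
  choose f hf h hh hfh using fun n : ↥U => hprod n.1 n.2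
  have huniq : ∀ (n : ↥U) (a k : M), a ∈ A → k ∈ H → (n : M) = a * k → f n = a := by
    intro n a k ha hk e
    have hmem : a⁻¹ * f n ∈ H ⊓ A := by
      refine Subgroup.mem_inf.2 ⟨?_, mul_mem (inv_mem ha) (hf n)⟩
      have : a⁻¹ * f n = k * (h n)⁻¹ := by
        rw [eq_mul_inv_iff_mul_eq, mul_assoc, ← hfh n, e, inv_mul_cancel_left]
      rw [this]
      exact mul_mem hk (inv_mem (hh n))
    rw [hdis, Subgroup.mem_bot, inv_mul_eq_one] at hmem
    exact hmem.symm
  let F : ↥U → ↥A := fun n => ⟨f n, hf n⟩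
  have hF : ∀ u v : ↥U, F (u * v) = F u * conjK A (u : M) (F v) := by
    intro u v
    have hn : h u * f v * (h u)⁻¹ ∈ A := Subgroup.Normal.conj_mem ‹A.Normal› _ (hf v) _
    have e : f (u * v) = f u * (h u * f v * (h u)⁻¹) := huniq (u * v) _ (h u * h v) (mul_mem (hf u) hn)
      (mul_mem (hh u) (hh v)) (by rw [Subgroup.coe_mul, hfh u, hfh v]; group)
    apply Subtype.ext
    show f (u * v) = f u * ((conjK A (u : M) (F v) : ↥A) : M)
    rw [conjK_coe, e, hfh u]
    show f u * (h u * f v * (h u)⁻¹) = f u * (f u * h u * f v * (f u * h u)⁻¹)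
    congr 1
    calc h u * f v * (h u)⁻¹ = f u * (h u * f v * (h u)⁻¹) * (f u)⁻¹ := by
          rw [hc _ (hf u) _ hn, mul_inv_cancel_right]
      _ = _ := by group
  have hFA : ∀ u : ↥U, (u : M) ∈ A → ((F u : ↥A) : M) = u := fun u hu =>
    huniq u u 1 hu (one_mem H) (mul_one _).symm
  obtain ⟨P, hP, hPK⟩ := CfsgLib.PGroup.Gaschutz.exists_extension_pow A U hAU F hF hFA
  obtain ⟨m, hm⟩ := hodd
  have h1 : (1 : ℤ) ∈ CfsgLib.PGroup.Gaschutz.exponents A := by
    have he : (U.index : ℤ) ∈ CfsgLib.PGroup.Gaschutz.exponents A :=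
      ⟨P, hP, fun k => by rw [zpow_natCast]; exact hPK k⟩
    have h2 : (2 : ℤ) ∈ CfsgLib.PGroup.Gaschutz.exponents A := by
      refine ⟨fun _ => 1, fun g k => by simp, fun k => Subtype.ext ?_⟩
      rw [show ((2 : ℤ)) = ((2 : ℕ) : ℤ) from rfl, zpow_natCast, pow_two]
      exact (hs _ k.2).symm
    have h3 := AddSubgroup.sub_mem _ he (AddSubgroup.zsmul_mem _ h2 (m : ℤ))
    rwa [hm, smul_eq_mul, show ((2 * m + 1 : ℕ) : ℤ) - (m : ℤ) * 2 = 1 by push_cast; ring] at h3
  obtain ⟨K, hK⟩ := CfsgLib.PGroup.Gaschutz.complement_of_exponent_one A h1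
  exact ⟨K, hK.symm⟩

variable {G : Type*} [Group G] [Finite G] {z : G} {Q : Subgroup G} {π : G → V}

/-- The `2`-local subgroup `2¹¹:M₂₄`. -/
theorem exists_two_local {S : Co z Q π} {u g u₁ c₁ a : G} {L : R4 → R4 → ZMod 2} (D : S.Gd u g u₁ c₁ a L) :
    ∃ A : Subgroup G, Cfsg.IsElementaryAbelian 2 A ∧ Nat.card A = 2 ^ 11 ∧ z ∈ A ∧
      ∃ _ : (A.subgroupOf (Subgroup.normalizer (A : Set G))).Normal,
        Nonempty (↥(Subgroup.normalizer (A : Set G)) ⧸ A.subgroupOf (Subgroup.normalizer (A : Set G)) ≃* ↥Cfsg.M24) ∧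
        (∃ K : Subgroup ↥(Subgroup.normalizer (A : Set G)),
          (A.subgroupOf (Subgroup.normalizer (A : Set G))).IsComplement' K) ∧
        ∃ a ∈ A, ∃ b ∈ A, a ≠ 1 ∧ b ≠ 1 ∧ (∀ n ∈ Subgroup.normalizer (A : Set G), n * a * n⁻¹ ≠ b) ∧
          ∀ c ∈ A, c ≠ 1 → ∃ n ∈ Subgroup.normalizer (A : Set G), n * c * n⁻¹ = a ∨ n * c * n⁻¹ = b := by
  classical
  obtain ⟨xs, cs, F, -, hca, hreal⟩ := D.exists_frame11
  obtain ⟨δ, C⟩ := F.exists_coords D hreal hca
  have hge := F.card_stab_ge D hreal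
  obtain ⟨θ, hθ, hker⟩ := C.exists_theta D.centralizer_asub D.card_asub hge
  haveI hn : ((S.asub).subgroupOf (Subgroup.normalizer (S.asub : Set G))).Normal := hker ▸ θ.normal_ker
  have hcardN : Nat.card ↥(Subgroup.normalizer (S.asub : Set G)) = 2 ^ 11 * 244823040 := by
    have e := θ.ker.card_mul_index
    rw [Subgroup.index_ker, MonoidHom.range_eq_top.2 hθ, Subgroup.card_top,
      CfsgLib.SmallGroups.M24Group.card_M24, hker,
      Nat.card_congr (Subgroup.subgroupOfEquivOfLe Subgroup.le_normalizer).toEquiv, D.card_asub] at e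
    exact e.symm
  refine ⟨S.asub, D.asub_elementary, D.card_asub, D.z_asub, hn, ?_, ?_, F.two_orbits D hreal hca ?_⟩
  · exact ⟨(QuotientGroup.quotientMulEquivOfEq hker.symm).trans
      (QuotientGroup.quotientKerEquivOfSurjective θ hθ)⟩
  · have hstab : Nat.card ↥((Subgroup.normalizer (S.asub : Set G)) ⊓ Subgroup.centralizer ({z} : Set G)) = 20160 * 32768 := by
      have e := C.card_eq
      rw [show Nat.card ↥(Subgroup.normalizer (S.asub : Set G)) = 2 ^ 11 * 244823040 from hcardN] at e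
      change 2 ^ 11 * 244823040 = 759 * Nat.card ↥((Subgroup.normalizer (S.asub : Set G)) ⊓ Subgroup.centralizer ({z} : Set G)) at e
      omega
    obtain ⟨H, hHN, hdis, hprod⟩ := D.exists_complement_stab (le_of_eq hstab)
    set U := ((Subgroup.normalizer (S.asub : Set G)) ⊓ Subgroup.centralizer ({z} : Set G)).subgroupOf (Subgroup.normalizer (S.asub : Set G)) with hU
    refine exists_complement_odd ((S.asub).subgroupOf (Subgroup.normalizer (S.asub : Set G))) U ?_ ?_ ?_ ?_ (H := H.subgroupOf (Subgroup.normalizer (S.asub : Set G))) ?_ ?_ ?_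
    · exact fun x hx => Subgroup.mem_subgroupOf.2 (Subgroup.mem_inf.2 ⟨x.2,
        Subgroup.mem_centralizer_singleton_iff.2 (S.asub_cz (Subgroup.mem_subgroupOf.1 hx))⟩)
    · exact fun x hx y hy => Subtype.ext (D.asub_comm (Subgroup.mem_subgroupOf.1 hx) (Subgroup.mem_subgroupOf.1 hy))
    · exact fun x hx => Subtype.ext (D.asub_sq (Subgroup.mem_subgroupOf.1 hx))
    · have e := U.card_mul_index
      rw [Nat.card_congr (Subgroup.subgroupOfEquivOfLe inf_le_left).toEquiv, hstab, hcardN] at e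
      exact ⟨379, by omega⟩
    · exact fun x hx => Subgroup.mem_subgroupOf.2 (hHN (Subgroup.mem_subgroupOf.1 hx))
    · rw [eq_bot_iff]
      intro x hx
      have h1 : (x : G) ∈ H ⊓ S.asub := Subgroup.mem_inf.2 ⟨Subgroup.mem_subgroupOf.1 (Subgroup.mem_inf.1 hx).1,
        Subgroup.mem_subgroupOf.1 (Subgroup.mem_inf.1 hx).2⟩
      rw [hdis, Subgroup.mem_bot] at h1
      exact Subgroup.mem_bot.2 (Subtype.ext h1)
    · intro n hn'
      obtain ⟨c, hc, t, ht, e⟩ := hprod _ (Subgroup.mem_subgroupOf.1 hn')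
      exact ⟨⟨c, Subgroup.le_normalizer hc⟩, Subgroup.mem_subgroupOf.2 hc,
        ⟨t, (Subgroup.mem_inf.1 (hHN ht)).1⟩, Subgroup.mem_subgroupOf.2 ht, Subtype.ext e⟩
  · rw [hcardN]; norm_num

end CfsgLib.Characterizations.CoType
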