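import Cfsg.Agent.Lib.Characterizations.CoType.Golay.Fusion

/-!
# Groups of Conway type: the certain classes of codes, and the count
-/

set_option autoImplicit false
set_option linter.style.haveILetI false
set_option linter.unusedSectionVars false
set_option maxRecDepth 4000

namespace CfsgLib.Characterizations.CoType

open CfsgLib.ThreeTransp.Extraspecial

variable {G : Type*} [Group G] [Finite G] {z : G} {Q : Subgroup G} {π : G → V}

theorem small_class : ∀ v : Fin 32, v.1 = 0 ∨ v.1 = 1 ∨ m30.testBit v.1 = true := by decide +kernel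

theorem head_pairs : (∀ v : Fin 2048, (lay30.headD 0).testBit v.1 = true → v.1 = 2 ∨ v.1 = 3) ∧
    (∀ v : Fin 2048, (lay280.headD 0).testBit v.1 = true → v.1 = 32 ∨ v.1 = 33) ∧
    (∀ v : Fin 2048, (lay840.headD 0).testBit v.1 = true → v.1 = 40 ∨ v.1 = 41) ∧
    (∀ v : Fin 2048, (layNd.headD 0).testBit v.1 = true → v.1 = 384 ∨ v.1 = 385) :=
  ⟨fun v h => of_decide_eq_true ((half_roots v).1.symm.trans h),
    fun v h => of_decide_eq_true ((half_roots v).2.1.symm.trans h),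
    fun v h => of_decide_eq_true ((half_roots v).2.2.1.symm.trans h),
    fun v h => of_decide_eq_true ((half_roots v).2.2.2.1.symm.trans h)⟩

namespace Frame11

variable {S : Co z Q π} {u g u₁ c₁ a : G} {L : R4 → R4 → ZMod 2} {xs cs : List G} (F : Frame11 S xs cs)
  (D : S.Gd u g u₁ c₁ a L) (hreal : ∀ i : Fin 3, Co.Gd.Real S xs (genM i.1))

include F D hreal

/-- Invariant properties of a pair spread over the classes. -/
theorem pair_class {Φ : Prop → Prop → Prop} (hΦ : PairLike Φ) (R : G → Prop)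
    (hR : ∀ n ∈ Subgroup.normalizer (S.asub : Set G), ∀ x, R (n * x * n⁻¹) ↔ R x) {lay : List ℕ} {r : ℕ}
    (hok : layersOK (List.range 7) lay = true)
    (hhead : ∀ v : Fin 2048, (lay.headD 0).testBit v.1 = true → v.1 = r ∨ v.1 = r ^^^ 1) :
    ∀ v < 2048, lay.getLast!.testBit v = true →
      (Φ (R (cd z xs cs v)) (R (cd z xs cs (v ^^^ 1))) ↔ Φ (R (cd z xs cs r)) (R (cd z xs cs (r ^^^ 1)))) := by
  refine layers_closed (fun k hk => List.mem_range.1 hk)
    (fun v => Φ (R (cd z xs cs v)) (R (cd z xs cs (v ^^^ 1))) ↔ Φ (R (cd z xs cs r)) (R (cd z xs cs (r ^^^ 1))))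
    (fun k hk v hv h => (F.pair_step D hΦ R hR hreal (List.mem_range.1 hk) hv).symm.trans h) lay hok fun v hv h => ?_
  rcases hhead ⟨v, hv⟩ h with e | e <;> simp only at e <;> rw [e]
  rw [Nat.xor_assoc, Nat.xor_self, Nat.xor_zero]
  exact hΦ _ _

/-- A property invariant under the normaliser, holding on a pair, holds on its class. -/
theorem both_class (R : G → Prop)
    (hR : ∀ n ∈ Subgroup.normalizer (S.asub : Set G), ∀ x, R (n * x * n⁻¹) ↔ R x) {lay : List ℕ} {r : ℕ}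
    (hok : layersOK (List.range 7) lay = true)
    (hhead : ∀ v : Fin 2048, (lay.headD 0).testBit v.1 = true → v.1 = r ∨ v.1 = r ^^^ 1)
    (h1 : R (cd z xs cs r)) (h2 : R (cd z xs cs (r ^^^ 1))) :
    ∀ v < 2048, lay.getLast!.testBit v = true → R (cd z xs cs v) ∧ R (cd z xs cs (v ^^^ 1)) := fun v hv hb =>
  (F.pair_class D hreal (Φ := fun p q => p ∧ q) (fun _ _ => and_comm) R hR hok hhead v hv hb).2 ⟨h1, h2⟩

theorem fused_points : (∀ v < 2048, m30.testBit v = true → S.Fused (cd z xs cs v) ∧ S.Fused (cd z xs cs (v ^^^ 1))) ∧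
    ∀ x ∈ S.xsub, x ≠ 1 → S.Fused x := by
  obtain ⟨n, hn, hnz, -, -⟩ := D.exists_flip
  have e2 : cd z xs cs 2 = xs.getD 0 1 := by
    have := F.el_small ⟨1, by norm_num⟩
    simp only [mul_one] at this
    rw [cd, this, show (1 : ℕ) = 2 ^ 0 from rfl, wordVal_two_pow xs 0 (by rw [F.lx]; norm_num)]
  have hπ0 : π (xs.getD 0 1) = π u := by
    rw [show π (xs.getD 0 1) = wvec (2 ^ 0) from F.xs_π 0, D.p.π_u]; exact wvec_facts.2.2.1
  have hfu : S.Fused u := ⟨n, hn, hnz⟩
  obtain ⟨m, hm, -, hT⟩ := F.op_T D 0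
  have h23 : cd z xs cs 3 = m * cd z xs cs 2 * m⁻¹ := by rw [hT 2 (by norm_num)]; rfl
  have hboth : S.Fused (cd z xs cs 2) ∧ S.Fused (cd z xs cs 3) := by
    have hmem : cd z xs cs 2 ∈ Q := by
      rw [e2, List.getD_eq_getElem _ _ (by rw [F.lx]; norm_num)]
      exact (F.xs_mem _ (List.getElem_mem _)).1
    rcases S.π_eq D.p.u_mem hmem (by rw [e2, hπ0]) with e | e
    · exact ⟨by rw [e]; exact hfu, by rw [h23, S.fused_conj hm, e]; exact hfu⟩
    · have h3 : cd z xs cs 3 = u := by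
        rw [show (3 : ℕ) = 2 ^^^ 1 from rfl, F.cd_flip D, e, mul_assoc, S.extra.z_sq, mul_one]
      exact ⟨by rw [← S.fused_conj hm, ← h23, h3]; exact hfu, by rw [h3]; exact hfu⟩
  have hall := F.both_class D hreal S.Fused (fun n hn x => S.fused_conj hn) (r := 2) layers_ok.1 head_pairs.1
    hboth.1 hboth.2
  refine ⟨hall, fun x hx hx1 => ?_⟩
  obtain ⟨t, s, rfl⟩ := Co.Gd.xsub_cases F.lx F.xs_mem F.xs_π hx
  obtain ⟨e, he, heq⟩ : ∃ e < 2, wordVal xs t.1 * zp z s = cd z xs cs (2 * t.1 ^^^ e) := by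
    rcases two_cases s with r | r <;> subst r
    · exact ⟨0, by norm_num, by rw [zp_zero, mul_one, Nat.xor_zero, cd, F.el_small t]⟩
    · exact ⟨1, by norm_num, by rw [zp_one, F.cd_flip D, cd, F.el_small t]⟩
  have hlt : 2 * t.1 ^^^ e < 32 := Nat.xor_lt_two_pow (n := 5) (by have := t.2; norm_num; omega) (by norm_num; omega)
  rw [heq] at hx1 ⊢
  rcases small_class ⟨_, hlt⟩ with h | h | h <;> simp only at h
  · exact absurd (by rw [h, cd, wordVal_zero]) hx1
  · rw [h]; exact ⟨1, one_mem _, by rw [F.cd_one D]; simp⟩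
  · exact (hall _ (by omega) h).1

theorem fused_a (hca : cs.getD 0 1 = a) :
    ∀ v < 2048, m280.testBit v = true → S.Fused (cd z xs cs v) ∧ S.Fused (cd z xs cs (v ^^^ 1)) := by
  obtain ⟨n, hn, -, hna, hnza⟩ := D.exists_flip
  obtain ⟨-, hx⟩ := F.fused_points D hreal
  have h32 : cd z xs cs 32 = a := by
    rw [cd, show (32 : ℕ) = 2 ^ 5 from rfl, wordVal_two_pow _ 5 (by simp [base11, F.lx, F.lc]), base11,
      List.getD_cons_succ, List.getD_eq_getElem _ _ (by simp [F.lx, F.lc]),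
      List.getElem_append_right (by rw [F.lx]), ← hca, List.getD_eq_getElem _ _ (by simp [F.lc])]
    simp [F.lx]
  obtain ⟨-, -, -, -, haz, ha1, haQ⟩ := D.p.axis_params D.d D.axis
  have hgen : ∀ b, n⁻¹ * b * n ∈ S.xsub → b ≠ 1 → S.Fused b := fun b hb hb1 => by
    have h := hx _ hb fun e => hb1 (by
      calc b = n * (n⁻¹ * b * n) * n⁻¹ := by group
        _ = 1 := by rw [e]; group)
    rw [← S.fused_conj hn] at h
    rwa [show n * (n⁻¹ * b * n) * n⁻¹ = b by group] at h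
  refine F.both_class D hreal S.Fused (fun n hn x => S.fused_conj hn) (r := 32) layers_ok.2.1 head_pairs.2.1
    (by rw [h32]; exact hgen a hna ha1) ?_
  rw [F.cd_flip D, h32, haz]
  exact hgen _ hnza fun e => haQ (by
    rw [eq_inv_of_mul_eq_one_right e]; exact inv_mem S.extra.z_mem)

theorem cd_eight (hca : cs.getD 0 1 = a) : cd z xs cs 40 = a * xs.getD 2 1 := by
  have h1 : cd z xs cs 8 = xs.getD 2 1 := by
    have := F.el_small ⟨4, by norm_num⟩
    simp only at this
    rw [cd, show (8 : ℕ) = 2 * 4 from rfl, this, show (4 : ℕ) = 2 ^ 2 from rfl,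
      wordVal_two_pow xs 2 (by rw [F.lx]; norm_num)]
  have h2 : cd z xs cs 32 = a := by
    rw [cd, show (32 : ℕ) = 2 ^ 5 from rfl, wordVal_two_pow _ 5 (by simp [base11, F.lx, F.lc]), base11,
      List.getD_cons_succ, List.getD_eq_getElem _ _ (by simp [F.lx, F.lc]),
      List.getElem_append_right (by rw [F.lx]), ← hca, List.getD_eq_getElem _ _ (by simp [F.lc])]
    simp [F.lx]
  rw [show (40 : ℕ) = 32 ^^^ 8 from rfl, cd, F.el_xor D, ← h1, ← h2]

theorem not_fused_eight (hca : cs.getD 0 1 = a) :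
    ∀ v < 2048, m840.testBit v = true → ¬ S.Fused (cd z xs cs v) ∧ ¬ S.Fused (cd z xs cs (v ^^^ 1)) := by
  obtain ⟨eA, xA, DA⟩ := D.p.exists_std std_A.1 std_A.2.1 std_A.2.2.1 (by rw [std_A.2.2.2.2.2.1, std_A.2.2.2.1])
    (by rw [std_A.2.2.2.2.1, std_A.2.2.2.1]) dual_A
  have hA : ¬ IsConj z (eA * xA) := DA.not_conj_z pR_count.1 smallA (by have := small_card.1; omega)
    fun σ ψ hψ _ _ h => fixed_small_A hψ h
  have hx3 : xs.getD 2 1 ∈ Q := by
    rw [List.getD_eq_getElem _ _ (by rw [F.lx]; norm_num)]; exact (F.xs_mem _ (List.getElem_mem _)).1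
  have hπ3 : π (xs.getD 2 1) = P (iota lI) := (F.xs_π 2).trans wvec_facts.2.2.2.2.1
  obtain ⟨hco, -, h7⟩ := co_P _ (iota_facts lI).1
  have hconj : ConjC z (a * xs.getD 2 1) (eA * xA) := by
    refine DA.to_std D.axis.mem std_A.1 D.axis.form hx3 (by rw [hπ3]; exact h7) (τ := 1) (map_one _)
      (pm_one std_A.1) fun m hm hme => ?_
    rw [hπ3, hco, pm_one (iota_facts lI).1] at hme
    have hfacts : qe (iota lI) = 0 ∧ dot (iota lI) φA = 0 ∧ iota lI ≠ 0 ∧ iota lI ≠ φA := by decide +kernel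
    obtain ⟨s, hs, hcase⟩ := fixA_spec m hm (hme ▸ hfacts.1) (hme ▸ hfacts.2.1) (hme ▸ hfacts.2.2.1)
      (hme ▸ hfacts.2.2.2)
    exact ⟨perm s, sign_perm (lists_proper.2.2.1 s hs), fixA_fix s hs, hcase⟩
  have h40 : ¬ S.Fused (cd z xs cs 40) := fun ⟨n, _, e⟩ => hA
    ((isConj_iff.2 ⟨n, e.trans (F.cd_eight D hreal hca)⟩).trans hconj.isConj)
  obtain ⟨m, hm, -, hT⟩ := F.op_T D 2
  have h41 : ¬ S.Fused (cd z xs cs (40 ^^^ 1)) := by
    rw [show (40 : ℕ) ^^^ 1 = Tm 2 40 by decide, ← show ((2 : Fin 4) : ℕ) = 2 from rfl, ← hT 40 (by norm_num),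
      S.fused_conj hm]
    exact h40
  exact F.both_class D hreal (fun x => ¬ S.Fused x) (fun n hn x => not_congr (S.fused_conj hn)) (r := 40)
    layers_ok.2.2.1 head_pairs.2.2.1 h40 h41

/-- The classes known so far. -/
theorem fused_base (hca : cs.getD 0 1 = a) : ∀ v < 2048, mNd.testBit v = false →
    (S.Fused (cd z xs cs v) ↔ mBase.testBit v = true) := by
  obtain ⟨h30, -⟩ := F.fused_points D hreal
  have h280 := F.fused_a D hreal hca
  have h840 := F.not_fused_eight D hreal hca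
  intro v hv hnd
  obtain ⟨hc, hb, h8, -, h0⟩ := cover ⟨v, hv⟩
  simp only at hc hb h8 h0
  rcases hc with e | e | e | e | e | e
  · subst e
    refine ⟨fun ⟨n, _, hn⟩ => absurd ?_ S.extra.z_ne, fun h => by simp [(h0 rfl).1] at h⟩
    rw [cd, wordVal_zero] at hn
    exact conj_eq_one_iff.1 hn
  · subst e
    exact iff_of_true ⟨1, one_mem _, by rw [F.cd_one D]; simp⟩ (by rw [hb]; simp)
  · exact iff_of_true (h30 v hv e).1 (by rw [hb, e]; simp)
  · exact iff_of_true (h280 v hv e).1 (by rw [hb, e]; simp)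
  · exact iff_of_false (h840 v hv e).1 (by rw [(h8 e).1]; simp)
  · rw [e] at hnd; exact Bool.noConfusion hnd

end Frame11

end CfsgLib.Characterizations.CoType
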