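import Cfsg.Agent.Lib.Characterizations.CoType.Golay.Halves

/-!
# Groups of Conway type: linear coordinates in which the conjugates of `z` are a fixed set of codes
-/

set_option autoImplicit false
set_option linter.style.haveILetI false
set_option linter.unusedSectionVars false
set_option maxRecDepth 4000

namespace CfsgLib.Characterizations.CoType

open CfsgLib.ThreeTransp.Extraspecial

variable {G : Type*} [Group G] [Finite G] {z : G} {Q : Subgroup G} {π : G → V}

theorem div32_flip (v e : ℕ) (he : e < 2) : (v ^^^ e) / 32 = v / 32 := by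
  rw [show (32 : ℕ) = 2 ^ 5 from rfl, Nat.xor_div_two_pow, Nat.div_eq_of_lt (show e < 2 ^ 5 by norm_num; omega),
    Nat.xor_zero]

/-- The linear twist of the codes by a functional on the classes. -/
def psi (l v : ℕ) : ℕ := v ^^^ par6 (l &&& v / 32)

theorem par6_and (l : Fin 64) (n : ℕ) : l.1 &&& n < 64 ∧ par6 (l.1 &&& n) < 2 :=
  have h : l.1 &&& n < 64 := lt_of_le_of_lt Nat.and_le_left l.2
  ⟨h, lin_facts.2.1 ⟨_, h⟩⟩

theorem psi_xor (l : Fin 64) (a b : ℕ) : psi l.1 (a ^^^ b) = psi l.1 a ^^^ psi l.1 b := by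
  have h1 := (par6_and l (a / 32)).1
  have h2 := (par6_and l (b / 32)).1
  have h : par6 (l.1 &&& (a ^^^ b) / 32) = par6 (l.1 &&& a / 32) ^^^ par6 (l.1 &&& b / 32) := by
    rw [show (32 : ℕ) = 2 ^ 5 from rfl, Nat.xor_div_two_pow, Nat.and_xor_distrib_left]
    exact lin_facts.2.2.1 ⟨_, h1⟩ ⟨_, h2⟩
  simp only [psi, h, Nat.xor_assoc, Nat.xor_left_comm, Nat.xor_comm]

theorem psi_psi (l : Fin 64) (v : ℕ) : psi l.1 (psi l.1 v) = v := by
  have ht := (par6_and l (v / 32)).2
  simp only [psi, div32_flip v _ ht, Nat.xor_assoc, Nat.xor_self, Nat.xor_zero]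

theorem psi_lt (l : Fin 64) {v : ℕ} (hv : v < 2048) : psi l.1 v < 2048 :=
  Nat.xor_lt_two_pow (n := 11) hv (lt_of_lt_of_le (par6_and l _).2 (by norm_num))

theorem psi_one (l : Fin 64) : psi l.1 1 = 1 := by simp [psi, par6]

theorem linMask_bit (l : Fin 64) {o : ℕ} (ho : o ∈ ndList) :
    bitz (linMask l.1) o = (par6 (l.1 &&& o) : ℕ) := by
  obtain ⟨i, hi, rfl⟩ := List.getElem_of_mem ho
  have hi' : i < 28 := hi
  have h := lin_facts.2.2.2 l ⟨i, hi'⟩
  simp only [List.getD_eq_getElem _ _ hi] at h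
  have ht := (par6_and l ndList[i]).2
  rw [bitz, h]
  rcases Nat.lt_or_ge (par6 (l.1 &&& ndList[i])) 1 with e | e
  · rw [show par6 (l.1 &&& ndList[i]) = 0 by omega]; simp
  · rw [show par6 (l.1 &&& ndList[i]) = 1 by omega]; simp

theorem base_flip : ∀ v : Fin 2048, mNd.testBit v.1 = false → v.1 / 32 ≠ 0 →
    mBase.testBit (v.1 ^^^ 1) = mBase.testBit v.1 ∧ mNd.testBit (v.1 ^^^ 1) = false := by decide +kernel

/-- Linear coordinates on the subgroup with the standard set of conjugates of `z`. -/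
structure Coords (S : Co z Q π) (δ : ℕ → G) : Prop where
  mem : ∀ v, δ v ∈ S.asub
  xor : ∀ v w, δ (v ^^^ w) = δ v * δ w
  inj : ∀ v w : Fin 2048, δ v.1 = δ w.1 → v = w
  surj : ∀ x ∈ S.asub, ∃ v : Fin 2048, x = δ v.1
  one : δ 1 = z
  fused : ∀ v < 2048, S.Fused (δ v) ↔ dm (cand 2) v = true

namespace Frame11

variable {S : Co z Q π} {u g u₁ c₁ a : G} {L : R4 → R4 → ZMod 2} {xs cs : List G} (F : Frame11 S xs cs)
  (D : S.Gd u g u₁ c₁ a L) (hreal : ∀ i : Fin 3, Co.Gd.Real S xs (genM i.1)) (hca : cs.getD 0 1 = a)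

include F D hreal hca

/-- The choices satisfy the equations. -/
theorem exists_solution : ∃ i < 4, ∃ l < 64, ∀ v < 2048, mNd.testBit v = true →
    (S.Fused (cd z xs cs v) ↔ bitz (cand i ^^^ linMask l) (v / 32) = if mHalf.testBit v then 0 else 1) := by
  classical
  obtain ⟨X, hX⟩ := F.exists_choice D hreal hca
  choose m es hm hmz hes hact using fun i : Fin 3 => F.op_gen D hreal i
  let Y : ℕ → ZMod 2 := fun n =>
    if n < 64 then X n else (es ⟨(n - 64) / 11 % 3, Nat.mod_lt _ (by norm_num)⟩ ((n - 64) % 11) : ℕ)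
  have heq : ∀ q ∈ eqList, mev Y (eqMask q) = (eqC q : ℕ) := by
    rintro ⟨gi, v⟩ hq
    obtain ⟨hg, hv, hhalf, hnd, hwlt, hwnd⟩ := eq_facts _ hq
    simp only at hg hv hhalf hnd hwlt hwnd
    set w := lmx (genL gi) v with hw
    set t := lmx ((List.range 11).map (es ⟨gi, hg⟩)) v with ht'
    have hrel : List.Forall₂ (fun m (e : ℕ) => e < 2 ∧ mev Y m = (e : ZMod 2))
        ((List.range 11).map fun j => 2 ^ (64 + 11 * gi + j)) ((List.range 11).map (es ⟨gi, hg⟩)) := by
      refine List.forall₂_iff_get.2 ⟨by simp, fun j hj hj' => ?_⟩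
      have hj11 : j < 11 := by simpa using hj
      simp only [List.get_eq_getElem, List.getElem_map, List.getElem_range]
      refine ⟨hes _ ⟨j, hj11⟩, ?_⟩
      rw [mev_two_pow Y (by omega)]
      have e1 : ¬ (64 + 11 * gi + j < 64) := by omega
      have e2 : (64 + 11 * gi + j - 64) / 11 % 3 = gi := by omega
      have e3 : (64 + 11 * gi + j - 64) % 11 = j := by omega
      simp only [Y, e1, if_false, e2, e3]
    obtain ⟨htlt, htmev⟩ := mev_lmx Y hrel v
    rw [← ht'] at htlt htmev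
    have hflip : mNd.testBit (w ^^^ t) = true ∧ mHalf.testBit (w ^^^ t) =
        (if t = 1 then !mHalf.testBit w else mHalf.testBit w) := by
      obtain ⟨-, -, h1, h2⟩ := (cover ⟨w, hwlt⟩).2.2.2.1 hwnd
      obtain e | e : t = 0 ∨ t = 1 := by omega
      · rw [e]; simp [hwnd]
      · rw [e]; simp only [if_true]; exact ⟨h1, h2⟩
    have h1 := hX v hv hnd
    have h2 := hX (w ^^^ t) (Nat.xor_lt_two_pow (n := 11) hwlt (by norm_num; omega)) hflip.1
    rw [hhalf] at h1
    rw [hflip.2, div32_flip _ _ htlt, ← hact ⟨gi, hg⟩ v hv, S.fused_conj (hm _), h1] at h2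
    have ho : v / 32 < 64 := by omega
    have ho' : w / 32 < 64 := by omega
    rw [eqMask, mev_xor, mev_xor, mev_two_pow Y (by omega), mev_two_pow Y (by rw [← hw]; omega), htmev, ← hw,
      eqC, ← hw]
    simp only [Y, ho, ho', if_true]
    have key : ∀ x y : ZMod 2, ∀ t : Fin 2, ∀ b : Bool,
        ((x = 0) ↔ y = if (if t.1 = 1 then !b else b) = true then 0 else 1) →
          x + y + (t.1 : ℕ) = ((if b = true then 0 else 1 : ℕ) : ZMod 2) := by decide
    exact key _ _ ⟨t, htlt⟩ _ (by simpa using h2)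
  obtain ⟨i, hi, l, hl, hsol⟩ := h_solve Y heq
  refine ⟨i, hi, l, hl, fun v hv hb => ?_⟩
  obtain ⟨-, hmem, -, -⟩ := (cover ⟨v, hv⟩).2.2.2.1 hb
  simp only at hmem
  rw [hX v hv hb, ← hsol _ hmem]
  simp only [Y, show v / 32 < 64 by omega, if_true]

/-- The standard coordinates. -/
theorem exists_coords : ∃ δ : ℕ → G, Coords S δ := by
  obtain ⟨i, hi, l, hl, hsol⟩ := F.exists_solution D hreal hca
  let l' : Fin 64 := ⟨l, hl⟩
  let δ : ℕ → G := fun v => cd z xs cs (psi l v)
  have hmem : ∀ v, δ v ∈ S.asub := fun v => wordVal_mem F.base_mem _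
  have hxor : ∀ v w, δ (v ^^^ w) = δ v * δ w := fun v w => by
    show cd z xs cs _ = _
    rw [show psi l (v ^^^ w) = _ from psi_xor l' v w]
    exact F.el_xor D _ _
  have hinj : ∀ v w : Fin 2048, δ v.1 = δ w.1 → v = w := fun v w h => Fin.ext (by
    have := congrArg Fin.val (F.el_inj D ⟨_, psi_lt l' v.2⟩ ⟨_, psi_lt l' w.2⟩ h)
    simp only at this
    rw [← psi_psi l' v.1, this, psi_psi])
  have hsurj : ∀ x ∈ S.asub, ∃ v : Fin 2048, x = δ v.1 := fun x hx => by
    obtain ⟨v, rfl⟩ := F.el_surj D hx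
    exact ⟨⟨_, psi_lt l' v.2⟩, by show _ = cd z xs cs (psi l (psi l v.1)); rw [show psi l (psi l v.1) = v.1 from psi_psi l' _]⟩
  have hone : δ 1 = z := by
    show cd z xs cs (psi l 1) = z
    rw [show psi l 1 = 1 from psi_one l']; exact F.cd_one D
  have hfused : ∀ v < 2048, S.Fused (δ v) ↔ dm (cand i) v = true := by
    intro v hv
    set t := par6 (l &&& v / 32) with ht'
    have ht : t < 2 := (par6_and l' _).2
    show S.Fused (cd z xs cs (v ^^^ t)) ↔ _
    have hvt : v ^^^ t < 2048 := psi_lt l' hv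
    cases hb : mNd.testBit v
    · have hdm : dm (cand i) v = mBase.testBit v := by simp [dm, hb]
      rw [hdm]
      obtain e | e : t = 0 ∨ t = 1 := by omega
      · rw [e, Nat.xor_zero]; exact F.fused_base D hreal hca v hv hb
      · have ho : v / 32 ≠ 0 := fun h => by rw [ht', h] at e; simp [par6] at e
        obtain ⟨h1, h2⟩ := base_flip ⟨v, hv⟩ hb ho
        rw [e, F.fused_base D hreal hca _ (e ▸ hvt) h2, h1]
    · obtain ⟨hbase, hmem', hnd1, hflip⟩ := (cover ⟨v, hv⟩).2.2.2.1 hb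
      simp only at hbase hmem' hnd1 hflip
      have hvv : mNd.testBit (v ^^^ t) = true ∧
          mHalf.testBit (v ^^^ t) = (if t = 1 then !mHalf.testBit v else mHalf.testBit v) := by
        obtain e | e : t = 0 ∨ t = 1 := by omega
        · rw [e]; simp [hb]
        · rw [e]; simp only [if_true]; exact ⟨hnd1, hflip⟩
      rw [hsol _ hvt hvv.1, div32_flip _ _ ht, hvv.2, bitz_xor, linMask_bit l' hmem']
      have hl' : (l'.1 &&& v / 32) = l &&& v / 32 := rfl
      rw [hl', ← ht']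
      simp only [dm, hbase, hb, Bool.false_or, Bool.true_and, bitz]
      have key : ∀ t : Fin 2, ∀ b c : Bool, ((if c = true then (1 : ZMod 2) else 0) + ((t.1 : ℕ) : ZMod 2) =
          (if (if t.1 = 1 then !b else b) = true then 0 else 1)) ↔ (b ^^ c) = true := by decide
      exact key ⟨t, ht⟩ _ _
  obtain rfl : i = 2 := by
    by_contra hne
    obtain ⟨b, hb, hne'⟩ := neighbour_facts ⟨i, hi⟩ hne
    simp only at hb hne'
    obtain ⟨n, hn, hnz⟩ := (hfused b.1 b.2).2 hb
    choose φ hφ using fun v : Fin 2048 =>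
      hsurj _ ((Subgroup.mem_normalizer_iff.1 hn (δ v.1)).1 (hmem v.1))
    have hφi : Function.Injective φ := fun v w e => hinj _ _
      (mul_left_cancel (mul_right_cancel ((hφ v).trans (e ▸ (hφ w).symm))))
    have hφb : ∀ v : Fin 2048, dm (cand i) (φ v).1 = dm (cand i) v.1 := fun v => Bool.eq_iff_iff.2 (by
      rw [← hfused _ (φ v).2, ← hfused _ v.2, ← hφ, S.fused_conj hn])
    have hφx : ∀ v : Fin 2048, (φ ⟨v.1 ^^^ 1, Nat.xor_lt_two_pow (n := 11) v.2 (by norm_num)⟩).1 = (φ v).1 ^^^ b.1 := by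
      intro v
      refine congrArg Fin.val (hinj _ ⟨_, Nat.xor_lt_two_pow (n := 11) (φ v).2 b.2⟩ ?_)
      rw [← hφ, hxor (φ v).1, ← hφ, ← hnz, hxor, hone, conj_mul]
    refine hne' (Finset.card_bij (fun v _ => φ v) (fun v hv => ?_) (fun v _ w _ e => hφi e) (fun w hw => ?_)).symm
    · simp only [Finset.mem_filter, Finset.mem_univ, true_and, Bool.and_eq_true] at hv ⊢
      refine ⟨(hφb v).trans hv.1, ?_⟩
      rw [← hφx v, hφb]
      exact hv.2
    · obtain ⟨v, rfl⟩ := Finite.injective_iff_surjective.1 hφi w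
      simp only [Finset.mem_filter, Finset.mem_univ, true_and, Bool.and_eq_true] at hw ⊢
      refine ⟨v, ⟨(hφb v).symm.trans hw.1, ?_⟩, rfl⟩
      have := hw.2
      rw [← hφx v, hφb] at this
      exact this
  exact ⟨δ, hmem, hxor, hinj, hsurj, hone, hfused⟩

end Frame11

end CfsgLib.Characterizations.CoType
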