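import Cfsg.Agent.Lib.Characterizations.CoType.Golay.AbelianData

/-!
# Groups of Conway type: coordinates on the subgroup of order `2¹¹`

A code `n < 2048` has the bit of `z` in position `0`, a point of the maximal singular subspace in positions
`1`-`4`, and a bivector in positions `5`-`10`.
-/

set_option autoImplicit false
set_option maxRecDepth 100000
set_option maxHeartbeats 4000000
set_option synthInstance.maxSize 8192

namespace CfsgLib.Characterizations.CoType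

/-- The combination of a list selected by the bits of a number. -/
def lmx : List ℕ → ℕ → ℕ
  | [], _ => 0
  | g :: l, n => (if n % 2 = 1 then g else 0) ^^^ lmx l (n / 2)

/-- A bit as a scalar. -/
def bitz (n i : ℕ) : ZMod 2 := if n.testBit i then 1 else 0

/-- The points of the maximal singular subspace. -/
def wvec (n : ℕ) : V :=
  bitz n 0 • u0 + bitz n 1 • P φA + bitz n 2 • P (iota lI) + bitz n 3 • P (iota lJ)

/-- A basis dual to the points. -/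
def yvec (n : ℕ) : V :=
  bitz n 0 • y0 + bitz n 1 • ![0, 0, 1, 0, 0, 1, 0, 0] + bitz n 2 • ![1, 0, 0, 0, 0, 0, 0, 0] +
    bitz n 3 • ![0, 0, 1, 0, 0, 0, 0, 0]

/-- The parity of the common bits of two four-bit numbers. -/
def par4 (a b : ℕ) : ZMod 2 := bitz (a &&& b) 0 + bitz (a &&& b) 1 + bitz (a &&& b) 2 + bitz (a &&& b) 3

/-- The pairs of indices. -/
def pairs6 : List (ℕ × ℕ) := [(0, 1), (0, 2), (0, 3), (1, 2), (1, 3), (2, 3)]

/-- Contraction of a bivector with a dual vector. -/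
def iotaW (o a : ℕ) : ℕ :=
  lmx (pairs6.map fun p => (if p.1 = a then 2 ^ p.2 else 0) ^^^ (if p.2 = a then 2 ^ p.1 else 0)) o

/-- The translation by a dual vector. -/
def Tm (a n : ℕ) : ℕ :=
  (if n.testBit (a + 1) then 1 else 0) ^^^ 2 * iotaW (n / 32) a ^^^ n

/-- Translation by a product of dual vectors. -/
def Tw : List ℕ → ℕ → ℕ → ℕ
  | [], _, n => n
  | a :: l, s, n => if s % 2 = 1 then Tm a (Tw l (s / 2) n) else Tw l (s / 2) n

/-- The action on points of the three generators. -/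
def genM : ℕ → List ℕ
  | 0 => [1, 3, 4, 8]
  | 1 => [3, 2, 4, 8]
  | _ => [1, 4, 8, 2]

/-- Their transposes. -/
def genS : ℕ → List ℕ
  | 0 => [3, 2, 4, 8]
  | 1 => [1, 3, 4, 8]
  | _ => [1, 8, 2, 4]

/-- The action on codes of the three generators, modulo the bit of `z`. -/
def genL : ℕ → List ℕ
  | 0 => [1, 2, 6, 8, 16, 34, 64, 128, 320, 640, 1024]
  | 1 => [1, 6, 4, 8, 16, 36, 320, 640, 256, 512, 1024]
  | _ => [1, 2, 8, 16, 4, 64, 128, 32, 1024, 256, 512]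

/-- The permutation behind the third generator. -/
def τ₃ : Equiv.Perm (Fin 8) :=
  Equiv.swap 1 3 * Equiv.swap 2 6 * Equiv.swap 3 7 * Equiv.swap 4 6

/-- The words moving the first bivector to the six. -/
def pairWord : ℕ → List ℕ
  | 0 => []
  | 1 => [2]
  | 2 => [2, 2]
  | 3 => [0, 1, 0, 2]
  | 4 => [0, 1, 0, 2, 2]
  | _ => [2, 0, 1, 0, 2]

/-- The matrix of a word. -/
def wordM : List ℕ → List ℕ
  | [] => [1, 2, 4, 8]
  | i :: w => (wordM w).map (lmx (genM i))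

/-- The images under commutation with the dual vectors of the six basic bivectors. -/
def dC (k c : ℕ) : ℕ :=
  (if (pairs6.getD k (0, 0)).1 = c then 2 ^ (pairs6.getD k (0, 0)).2 else 0) ^^^
    (if (pairs6.getD k (0, 0)).2 = c then 2 ^ (pairs6.getD k (0, 0)).1 else 0)

/-- The transposed permutation of a word. -/
def pairS (k c : ℕ) : ℕ :=
  ((List.range 4).map fun d => if ((wordM (pairWord k)).getD d 0).testBit c then 2 ^ d else 0).sum

theorem wvec_facts : (∀ n : Fin 16, InW (wvec n.1)) ∧ (∀ v : V, InW v → ∃ n : Fin 16, v = wvec n.1) ∧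
    wvec 1 = u0 ∧ wvec 2 = P φA ∧ wvec 4 = P (iota lI) ∧ wvec 8 = P (iota lJ) ∧
    (∀ m n : Fin 16, wvec (m.1 ^^^ n.1) = wvec m.1 + wvec n.1) := by
  decide +kernel

theorem yvec_facts : (∀ s n : Fin 16, B (yvec s.1) (wvec n.1) = par4 s.1 n.1) ∧
    (∀ m n : Fin 16, yvec (m.1 ^^^ n.1) = yvec m.1 + yvec n.1) ∧ yvec 1 7 = 1 ∧ B (yvec 1) (P φA) = 0 ∧
    (∀ c : Fin 4, c.1 ≠ 0 → yvec (2 ^ c.1) 7 = 0 ∧ dot (co (yvec (2 ^ c.1))) φA = if c.1 = 1 then 1 else 0) ∧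
    yvec 0 = 0 := by
  decide +kernel

theorem Tm_lin : ∀ c : Fin 4, ∀ n : Fin 2048,
    Tm c.1 n.1 = lmx ((List.range 11).map fun i => Tm c.1 (2 ^ i)) n.1 ∧ Tm c.1 n.1 < 2048 := by
  decide +kernel

theorem Tm_fixed : ∀ n : Fin 2048, (∀ c : Fin 4, Tm c.1 n.1 = n.1) → n.1 = 0 ∨ n.1 = 1 := by decide +kernel

theorem Tm_basis : (∀ c b : Fin 4, Tm c.1 (2 ^ (b.1 + 1)) = (if c.1 = b.1 then 1 else 0) ^^^ 2 ^ (b.1 + 1)) ∧
    (∀ c : Fin 4, Tm c.1 1 = 1) ∧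
    ∀ c : Fin 4, ∀ k : Fin 6, Tm c.1 (2 ^ (k.1 + 5)) = 2 * dC k.1 c.1 ^^^ 2 ^ (k.1 + 5) ∧ dC k.1 c.1 < 16 := by
  decide +kernel

theorem gen_facts : ∀ i : Fin 3, (∀ b : Fin 4, (genM i.1).getD b.1 0 < 16) ∧
    (∀ lam : Fin 16, ∃ mu : Fin 16, ∀ b : Fin 4, par4 mu.1 ((genM i.1).getD b.1 0) = bitz lam.1 b.1) ∧
    (∀ c : Fin 4, (genS i.1).getD c.1 0 < 16 ∧ ∀ n : Fin 16,
      par4 ((genS i.1).getD c.1 0) n.1 = bitz (lmx (genM i.1) n.1) c.1) ∧
    (∀ j : Fin 11, (genL i.1).getD j.1 0 < 2048 ∧ ∀ c : Fin 4,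
      Tw [0, 1, 2, 3] ((genS i.1).getD c.1 0) (2 ^ j.1) ^^^ 2 ^ j.1 < 32 ∧
      Tm c.1 ((genL i.1).getD j.1 0) = (genL i.1).getD j.1 0 ^^^
        (((Tw [0, 1, 2, 3] ((genS i.1).getD c.1 0) (2 ^ j.1) ^^^ 2 ^ j.1) % 2) ^^^
          2 * lmx (genM i.1) ((Tw [0, 1, 2, 3] ((genS i.1).getD c.1 0) (2 ^ j.1) ^^^ 2 ^ j.1) / 2))) := by
  decide +kernel

theorem tau3_facts : Equiv.Perm.sign τ₃ = 1 ∧ pm τ₃ φA = iota lI ∧ pm τ₃ (iota lI) = iota lJ ∧
    pm τ₃ (iota lJ) = φA := by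
  decide +kernel

theorem sie_choice : ∃ φ : W8, Ev φ ∧ dot φA φ = 1 ∧ dot (iota lI) φ = 0 ∧ dot (iota lJ) φ = 0 := by
  decide +kernel

theorem pairWord_facts : ∀ k : Fin 6, (∀ i ∈ pairWord k.1, i < 3) ∧ ∀ c : Fin 4,
    pairS k.1 c.1 < 16 ∧ (∀ n : Fin 16, par4 (pairS k.1 c.1) n.1 = bitz (lmx (wordM (pairWord k.1)) n.1) c.1) ∧
    ∃ d : Fin 4, pairS k.1 c.1 = 2 ^ d.1 ∧ lmx (wordM (pairWord k.1)) (dC 0 d.1) = dC k.1 c.1 := by
  decide +kernel

end CfsgLib.Characterizations.CoType
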