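import Cfsg.Agent.Lib.Characterizations.CoType.Golay.Abelian
import Cfsg.Agent.Lib.Characterizations.CoType.Golay.CoordsData

/-!
# Groups of Conway type: coordinates on the subgroup of order `2¹¹`, and the action of `C(z)` on them
-/

set_option autoImplicit false
set_option linter.style.haveILetI false
set_option linter.unusedSectionVars false
set_option maxRecDepth 4000

namespace CfsgLib.Characterizations.CoType

open CfsgLib.ThreeTransp.Extraspecial

variable {G : Type*} [Group G] [Finite G] {z : G} {Q : Subgroup G} {π : G → V}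

/-- The product of the listed elements selected by the bits of a number. -/
def wordVal {M : Type*} [Monoid M] : List M → ℕ → M
  | [], _ => 1
  | g :: l, n => (if n % 2 = 1 then g else 1) * wordVal l (n / 2)

theorem wordVal_zero {M : Type*} [Monoid M] : ∀ l : List M, wordVal l 0 = 1
  | [] => rfl
  | g :: l => by simp [wordVal, wordVal_zero l]

theorem wordVal_two_pow {M : Type*} [Monoid M] : ∀ (l : List M) (i : ℕ), i < l.length →
    wordVal l (2 ^ i) = l.getD i 1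
  | [], _, h => absurd h (Nat.not_lt_zero _)
  | g :: l, 0, _ => by simp [wordVal, wordVal_zero]
  | g :: l, i + 1, h => by
      have h1 : 2 ^ (i + 1) % 2 = 0 := by rw [pow_succ]; omega
      have h2 : 2 ^ (i + 1) / 2 = 2 ^ i := by rw [pow_succ]; omega
      simp only [wordVal, h1, h2, zero_ne_one, if_false, one_mul, List.getD_cons_succ]
      exact wordVal_two_pow l i (by simpa using h)

theorem xor_div_two (a b : ℕ) : (a ^^^ b) / 2 = a / 2 ^^^ b / 2 := by
  refine Nat.eq_of_testBit_eq fun i => ?_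
  simp [Nat.testBit_div_two]

theorem xor_mod_two (a b : ℕ) : (a ^^^ b) % 2 = 1 ↔ ¬ (a % 2 = 1 ↔ b % 2 = 1) := by
  have h := Nat.testBit_xor a b 0
  simp only [Nat.testBit_zero] at h
  rcases Nat.mod_two_eq_zero_or_one a with e | e <;> rcases Nat.mod_two_eq_zero_or_one b with e' | e' <;>
    simp_all

theorem wordVal_mem {K : Subgroup G} : ∀ {l : List G}, (∀ x ∈ l, x ∈ K) → ∀ n, wordVal l n ∈ K
  | [], _, _ => one_mem K
  | g :: l, h, n => by
      unfold wordVal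
      refine mul_mem ?_ (wordVal_mem (fun x hx => h x (List.mem_cons_of_mem _ hx)) _)
      split
      · exact h g List.mem_cons_self
      · exact one_mem K

theorem wordVal_xor {K : Subgroup G} (hc : ∀ x ∈ K, ∀ y ∈ K, x * y = y * x) (hs : ∀ x ∈ K, x * x = 1) :
    ∀ {l : List G}, (∀ x ∈ l, x ∈ K) → ∀ a b, wordVal l (a ^^^ b) = wordVal l a * wordVal l b
  | [], _, _, _ => by simp [wordVal]
  | g :: l, h, a, b => by
      have hl : ∀ x ∈ l, x ∈ K := fun x hx => h x (List.mem_cons_of_mem _ hx)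
      have hg := h g List.mem_cons_self
      simp only [wordVal, xor_div_two, wordVal_xor hc hs hl, xor_mod_two]
      have hcomm : ∀ n, wordVal l n * g = g * wordVal l n := fun n => hc _ (wordVal_mem hl n) _ hg
      by_cases ha : a % 2 = 1 <;> by_cases hb : b % 2 = 1 <;>
        simp only [ha, hb, iff_self, not_true_eq_false, if_false, if_true, iff_false, false_iff, not_false_eq_true,
          one_mul]
      · calc wordVal l (a / 2) * wordVal l (b / 2)
            = g * g * (wordVal l (a / 2) * wordVal l (b / 2)) := by rw [hs g hg, one_mul]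
          _ = g * (g * wordVal l (a / 2)) * wordVal l (b / 2) := by group
          _ = g * (wordVal l (a / 2) * g) * wordVal l (b / 2) := by rw [hcomm]
          _ = _ := by group
      · group
      · rw [← mul_assoc _ g, hcomm]; group

theorem wordVal_map {H : Type*} [Group H] (φ : G →* H) : ∀ (l : List G) n,
    φ (wordVal l n) = wordVal (l.map φ) n
  | [], _ => map_one φ
  | g :: l, n => by
      simp only [wordVal, List.map_cons, map_mul, wordVal_map φ l]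
      split <;> simp

theorem wordVal_lmx {K : Subgroup G} {base : List G} (hc : ∀ x ∈ K, ∀ y ∈ K, x * y = y * x)
    (hs : ∀ x ∈ K, x * x = 1) (hb : ∀ x ∈ base, x ∈ K) : ∀ (L : List ℕ) n,
    wordVal base (lmx L n) = wordVal (L.map (wordVal base)) n
  | [], _ => by simp [lmx, wordVal, wordVal_zero]
  | m :: L, n => by
      simp only [lmx, List.map_cons, wordVal, wordVal_xor hc hs hb, wordVal_lmx hc hs hb L]
      congr 1
      split
      · rfl
      · exact wordVal_zero _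

theorem bitz_even (c : ℕ) (b : ℕ) : bitz (2 * c) 0 = 0 ∧ bitz (2 * c) (b + 1) = bitz c b := by
  simp only [bitz, Nat.testBit_succ, show 2 * c / 2 = c by omega, Nat.testBit_zero]
  simp

/-- The points over the maximal singular subspace and the six bivectors. -/
structure Frame11 (S : Co z Q π) (xs cs : List G) : Prop where
  lx : xs.length = 4
  lc : cs.length = 6
  xs_mem : ∀ x ∈ xs, x ∈ S.xsub
  cs_mem : ∀ c ∈ cs, c ∈ S.asub
  xs_π : ∀ b : Fin 4, π (xs.getD b.1 1) = wvec (2 ^ b.1)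
  data : ∀ k : Fin 6, ∀ c : Fin 4, ∀ y ∈ Q, π y = yvec (2 ^ c.1) →
    y * cs.getD k.1 1 * y⁻¹ = cs.getD k.1 1 * wordVal xs (dC k.1 c.1)

namespace Co

variable (S : Co z Q π)

theorem xsub_comm : ∀ x ∈ S.xsub, ∀ y ∈ S.xsub, x * y = y * x := fun x hx y hy =>
  (S.comm_iff hx.1 hy.1).2 (inW_orth hx.2 hy.2)

theorem xsub_sq : ∀ x ∈ S.xsub, x * x = 1 := fun x hx => (S.q_iff x hx.1).1 (inW_singular hx.2)

variable {S} in
theorem xsub_stable {k : G} (hk : k * z = z * k) (h : ∀ x ∈ S.xsub, k * x * k⁻¹ ∈ S.xsub) :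
    ∀ c ∈ S.asub, k * c * k⁻¹ ∈ S.asub := by
  intro c hc
  refine S.mem_asub.2 fun x hx hw => ?_
  let f : ↥S.xsub → ↥S.xsub := fun y => ⟨k * y * k⁻¹, h y y.2⟩
  have hf : Function.Injective f := fun a b e => Subtype.ext (by
    have := congrArg Subtype.val e
    exact mul_left_cancel (mul_right_cancel this))
  obtain ⟨y, hy⟩ := (Finite.injective_iff_surjective.1 hf) ⟨x, hx, hw⟩
  have hy' : k * (y : G) * k⁻¹ = x := congrArg Subtype.val hy
  rw [← hy', conj_mul, S.mem_asub.1 hc y y.2.1 y.2.2, ← conj_mul]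

include S in
theorem π_wordVal {l : List G} {vl : List V} (h : List.Forall₂ (fun x v => x ∈ Q ∧ π x = v) l vl) :
    ∀ n, π (wordVal l n) = wordVal (M := Multiplicative V) (vl.map Multiplicative.ofAdd) n ∧
      wordVal l n ∈ Q := by
  induction h with
  | nil => exact fun _ => ⟨S.π_one, one_mem Q⟩
  | @cons x v l vl hxv _ ih =>
    intro n
    obtain ⟨h1, h2⟩ := ih (n / 2)
    simp only [wordVal, List.map_cons]
    split
    · refine ⟨?_, mul_mem hxv.1 h2⟩
      rw [S.π_mul _ hxv.1 _ h2, hxv.2, h1]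
      rfl
    · rw [one_mul, one_mul]; exact ⟨h1, h2⟩

end Co

namespace Co.Gd

variable {S : Co z Q π} {u g u₁ c₁ a : G} {L : R4 → R4 → ZMod 2} (D : S.Gd u g u₁ c₁ a L)

/-- An element of `C(z)` with a prescribed exact action on the points. -/
def Real (S : Co z Q π) (xs : List G) (m : List ℕ) : Prop :=
  ∃ k, k * z = z * k ∧ (∀ x ∈ S.xsub, k * x * k⁻¹ ∈ S.xsub) ∧
    ∀ b : Fin 4, k * xs.getD b.1 1 * k⁻¹ = wordVal xs (m.getD b.1 0)

include D

/-- Chosen lifts of the points. -/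
theorem exists_points : ∃ xs : List G, xs.length = 4 ∧ (∀ x ∈ xs, x ∈ S.xsub) ∧
    (∀ b : Fin 4, π (xs.getD b.1 1) = wvec (2 ^ b.1)) ∧ xs.getD 0 1 = z * u ∧ xs.getD 1 1 = z * u₁ := by
  obtain ⟨hw, -, w1, w2, -, -, -⟩ := wvec_facts
  obtain ⟨x3, h3, e3⟩ := S.π_surj (wvec 4)
  obtain ⟨x4, h4, e4⟩ := S.π_surj (wvec 8)
  have eu : π (z * u) = u0 := by rw [S.π_mul z S.extra.z_mem u D.p.u_mem, S.π_z, zero_add, D.p.π_u]
  have eu1 : π (z * u₁) = P φA := by
    rw [S.π_mul z S.extra.z_mem u₁ (D.p.u₁_mem D.d), S.π_z, zero_add, D.d.π_u₁]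
  refine ⟨[z * u, z * u₁, x3, x4], rfl, ?_, ?_, rfl, rfl⟩
  · simp only [List.mem_cons, List.not_mem_nil, or_false]
    rintro x (rfl | rfl | rfl | rfl)
    · exact mul_mem S.z_xsub D.u_xsub
    · exact mul_mem S.z_xsub D.u₁_xsub
    · exact ⟨h3, e3 ▸ hw ⟨4, by norm_num⟩⟩
    · exact ⟨h4, e4 ▸ hw ⟨8, by norm_num⟩⟩
  · intro b
    fin_cases b
    · exact eu.trans w1.symm
    · exact eu1.trans w2.symm
    · exact e3
    · exact e4

omit D in
theorem xi_facts {xs : List G} (hl : xs.length = 4) (hm : ∀ x ∈ xs, x ∈ S.xsub)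
    (hπ : ∀ b : Fin 4, π (xs.getD b.1 1) = wvec (2 ^ b.1)) (n : Fin 16) :
    wordVal xs n.1 ∈ S.xsub ∧ π (wordVal xs n.1) = wvec n.1 := by
  refine ⟨wordVal_mem hm _, ?_⟩
  obtain ⟨x0, x1, x2, x3, rfl⟩ : ∃ x0 x1 x2 x3, xs = [x0, x1, x2, x3] := by
    rcases xs with _ | ⟨a, _ | ⟨b, _ | ⟨c, _ | ⟨d, _ | ⟨e, l⟩⟩⟩⟩⟩ <;> simp at hl
    exact ⟨a, b, c, d, rfl⟩
  have h := (S.π_wordVal (l := [x0, x1, x2, x3]) (vl := [wvec 1, wvec 2, wvec 4, wvec 8])
    (List.Forall₂.cons ⟨(hm x0 (by simp)).1, hπ 0⟩ (List.Forall₂.cons ⟨(hm x1 (by simp)).1, hπ 1⟩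
      (List.Forall₂.cons ⟨(hm x2 (by simp)).1, hπ 2⟩ (List.Forall₂.cons ⟨(hm x3 (by simp)).1, hπ 3⟩
        List.Forall₂.nil)))) n.1).1
  rw [h]
  have key : ∀ n : Fin 16, Multiplicative.toAdd (wordVal (M := Multiplicative V)
      ([wvec 1, wvec 2, wvec 4, wvec 8].map Multiplicative.ofAdd) n.1) = wvec n.1 := by decide +kernel
  exact key n

variable {xs : List G}

omit D in
theorem xsub_cases (hl : xs.length = 4) (hm : ∀ x ∈ xs, x ∈ S.xsub)
    (hπ : ∀ b : Fin 4, π (xs.getD b.1 1) = wvec (2 ^ b.1)) {x : G} (hx : x ∈ S.xsub) :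
    ∃ (n : Fin 16) (s : ZMod 2), x = wordVal xs n.1 * zp z s := by
  obtain ⟨n, hn⟩ := wvec_facts.2.1 _ hx.2
  obtain ⟨h1, h2⟩ := xi_facts hl hm hπ n
  rcases S.π_eq h1.1 hx.1 (h2.trans hn.symm) with e | e
  · exact ⟨n, 0, by rw [e, zp_zero, mul_one]⟩
  · exact ⟨n, 1, by rw [e, zp_one]⟩

omit D in
theorem conj_point (hl : xs.length = 4) (hm : ∀ x ∈ xs, x ∈ S.xsub)
    (hπ : ∀ b : Fin 4, π (xs.getD b.1 1) = wvec (2 ^ b.1)) (n : Fin 16) (s : Fin 16) {y : G} (hy : y ∈ Q)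
    (hyπ : π y = yvec s.1) :
    y * wordVal xs n.1 * y⁻¹ = wordVal xs n.1 * zp z (par4 s.1 n.1) := by
  obtain ⟨h1, h2⟩ := xi_facts hl hm hπ n
  rw [S.conj_eq h1.1 hy, h2, hyπ, yvec_facts.1]

omit D in
/-- Exactness: a sign correction by an element of `Q`. -/
theorem real_of_act (hl : xs.length = 4) (hm : ∀ x ∈ xs, x ∈ S.xsub)
    (hπ : ∀ b : Fin 4, π (xs.getD b.1 1) = wvec (2 ^ b.1)) (i : Fin 3) {k : G} (hk : k * z = z * k)
    (hact : ∀ b : Fin 4, S.act k (wvec (2 ^ b.1)) = wvec ((genM i.1).getD b.1 0)) :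
    Real S xs (genM i.1) := by
  classical
  obtain ⟨hlt, hsolve, -, -⟩ := gen_facts i
  have hb : ∀ b : Fin 4, xs.getD b.1 1 ∈ S.xsub := fun b => hm _ (by
    rw [List.getD_eq_getElem _ _ (by rw [hl]; exact b.2)]; exact List.getElem_mem _)
  have hs : ∀ b : Fin 4, ∃ s, k * xs.getD b.1 1 * k⁻¹ = wordVal xs ((genM i.1).getD b.1 0) * zp z s := by
    intro b
    obtain ⟨h1, h2⟩ := xi_facts hl hm hπ ⟨_, hlt b⟩
    have hπk : π (k * xs.getD b.1 1 * k⁻¹) = π (wordVal xs ((genM i.1).getD b.1 0)) := by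
      rw [← S.act_π hk (hb b).1, hπ b, hact b, h2]
    rcases S.π_eq h1.1 (S.norm k hk _ (hb b).1) hπk.symm with e | e
    · exact ⟨0, by rw [e, zp_zero, mul_one]⟩
    · exact ⟨1, by rw [e, zp_one]⟩
  choose s hs using hs
  obtain ⟨lam, hlam⟩ : ∃ lam : Fin 16, ∀ b : Fin 4, bitz lam.1 b.1 = s b := by
    have : ∀ f : Fin 4 → ZMod 2, ∃ lam : Fin 16, ∀ b : Fin 4, bitz lam.1 b.1 = f b := by decide +kernel
    exact this s
  obtain ⟨mu, hmu⟩ := hsolve lam
  obtain ⟨y, hy, hyπ⟩ := S.π_surj (yvec mu.1)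
  have hyz := S.mem_cz hy
  have hex : ∀ b : Fin 4, y * k * xs.getD b.1 1 * (y * k)⁻¹ = wordVal xs ((genM i.1).getD b.1 0) := by
    intro b
    calc y * k * xs.getD b.1 1 * (y * k)⁻¹ = y * (k * xs.getD b.1 1 * k⁻¹) * y⁻¹ := by group
      _ = y * wordVal xs ((genM i.1).getD b.1 0) * y⁻¹ * (y * zp z (s b) * y⁻¹) := by rw [hs b]; group
      _ = wordVal xs ((genM i.1).getD b.1 0) * zp z (s b) * zp z (s b) := by
          rw [conj_point hl hm hπ ⟨_, hlt b⟩ mu hy hyπ, hmu b, hlam b, S.zp_comm _ hyz, mul_inv_cancel_right]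
      _ = _ := by rw [mul_assoc, ← S.zp_add, CharTwo.add_self_eq_zero, zp_zero, mul_one]
  have hkz : y * k * z = z * (y * k) := cz_mul hyz hk
  refine ⟨y * k, hkz, fun x hx => ?_, hex⟩
  obtain ⟨n, t, rfl⟩ := xsub_cases hl hm hπ hx
  rw [← conj_mul]
  refine mul_mem ?_ ?_
  · rw [show y * k * wordVal xs n.1 * (y * k)⁻¹ = MulAut.conj (y * k) (wordVal xs n.1) by rfl]
    have hmap := wordVal_map (MulAut.conj (y * k)).toMonoidHom xs n.1
    rw [MulEquiv.coe_toMonoidHom] at hmap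
    rw [hmap]
    refine wordVal_mem (fun w hw => ?_) _
    obtain ⟨w', hw', rfl⟩ := List.mem_map.1 hw
    obtain ⟨j, hj, rfl⟩ := List.getElem_of_mem hw'
    have := hex ⟨j, hl ▸ hj⟩
    rw [List.getD_eq_getElem _ _ hj] at this
    show y * k * xs[j] * (y * k)⁻¹ ∈ S.xsub
    rw [this]
    exact wordVal_mem hm _
  · rw [S.zp_comm t hkz, mul_inv_cancel_right]
    rcases two_cases t with e | e <;> rw [e]
    · rw [zp_zero]; exact one_mem _
    · rw [zp_one]; exact S.z_xsub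

omit D in
theorem real_points (hl : xs.length = 4) (hm : ∀ x ∈ xs, x ∈ S.xsub) {m : List ℕ} {k : G}
    (hex : ∀ b : Fin 4, k * xs.getD b.1 1 * k⁻¹ = wordVal xs (m.getD b.1 0)) (hml : m.length = 4) (n : ℕ) :
    k * wordVal xs n * k⁻¹ = wordVal xs (lmx m n) := by
  rw [wordVal_lmx (K := S.xsub) S.xsub_comm S.xsub_sq hm m n]
  have hmap := wordVal_map (MulAut.conj k).toMonoidHom xs n
  rw [MulEquiv.coe_toMonoidHom, MulAut.conj_apply] at hmap
  rw [hmap]
  congr 1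
  refine List.ext_getElem (by simp [hl, hml]) fun j hj hj' => ?_
  simp only [List.getElem_map, MulAut.conj_apply]
  have := hex ⟨j, by simpa [hl] using hj⟩
  simpa [List.getD_eq_getElem, hl, hml, (show j < 4 by simpa [hl] using hj)] using this

/-- The three generators are realised. -/
theorem real_gen (hl : xs.length = 4) (hm : ∀ x ∈ xs, x ∈ S.xsub)
    (hπ : ∀ b : Fin 4, π (xs.getD b.1 1) = wvec (2 ^ b.1)) : ∀ i : Fin 3, Real S xs (genM i.1) := by
  obtain ⟨-, -, w1, w2, w4, w8, wadd⟩ := wvec_facts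
  have w3 : wvec 3 = u0 + P φA := by
    have h := wadd ⟨1, by norm_num⟩ ⟨2, by norm_num⟩
    simp only [show (1 : ℕ) ^^^ 2 = 3 from rfl] at h
    rwa [w1, w2] at h
  have hcoI := co_P _ (iota_facts lI).1
  have hcoJ := co_P _ (iota_facts lJ).1
  intro i
  fin_cases i
  · obtain ⟨φ, hφ, d1, d2, d3⟩ := sie_choice
    obtain ⟨f, hf, hff⟩ := D.p.exists_sie hφ
    refine real_of_act hl hm hπ _ (D.p.sie_comm hf).1 fun b => ?_
    have key : ∀ v, v 7 = 0 → S.act f v = v + dot (co v) φ • u0 := fun v hv => by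
      rw [hff, ← M_one_perp φ hv, add_left_comm, add_self_V, add_zero]
    fin_cases b
    · show S.act f (wvec 1) = wvec 1
      rw [w1, key u0 (by decide), co_u0, show dot 0 φ = 0 by simp [dot], zero_smul, add_zero]
    · show S.act f (wvec 2) = wvec 3
      rw [w2, w3, key _ aA_facts.1, aA_facts.2.1, d1, one_smul, add_comm]
    · show S.act f (wvec 4) = wvec 4
      rw [w4, key _ hcoI.2.2, hcoI.1, d2, zero_smul, add_zero]
    · show S.act f (wvec 8) = wvec 8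
      rw [w8, key _ hcoJ.2.2, hcoJ.1, d3, zero_smul, add_zero]
  · set c := c₁ with hc
    have hcz := D.d.cz
    have hI := S.act_iso hcz
    set w := S.act c₁⁻¹ y0 with hw
    have hw7 : w 7 = 0 := by
      rw [hw, D.p.seven_c₁ D.d]
      decide +kernel
    obtain ⟨e', he', hef⟩ := D.p.exists_sie (ev_co w)
    have hez : c₁ * e' * c₁⁻¹ * z = z * (c₁ * e' * c₁⁻¹) :=
      cz_mul (cz_mul D.d.cz (D.p.sie_comm he').1) (cz_inv D.d.cz)
    refine real_of_act hl hm hπ _ hez fun b => ?_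
    have key : ∀ v, B v (P φA) = 0 → S.act (c₁ * e' * c₁⁻¹) v = v + B v y0 • P φA := by
      intro v hv
      have h := M_one_perp (co w) (v := S.act c₁⁻¹ v) (by rw [D.p.seven_c₁ D.d, hv])
      have hdot : dot (co (S.act c₁⁻¹ v)) (co w) = B v y0 := by
        rw [← perp_polar (by rw [D.p.seven_c₁ D.d, hv]) hw7, hw, (S.act_iso (cz_inv D.d.cz)).polar]
      rw [hdot, ← hef] at h
      have h2 := congrArg (S.act c₁) h
      rw [(S.act_iso D.d.cz).add, S.act_act_inv D.d.cz, (S.act_iso D.d.cz).map_smul, D.p.act_c₁ D.d] at h2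
      rw [S.act_conj D.d.cz (D.p.sie_comm he').1, ← h2, add_left_comm, add_self_V, add_zero]
    fin_cases b
    · show S.act _ (wvec 1) = wvec 3
      rw [w1, w3, key u0 (by decide +kernel), show B u0 y0 = 1 by decide +kernel, one_smul]
    · show S.act _ (wvec 2) = wvec 2
      rw [w2, key _ (B_self _), show B (P φA) y0 = 0 by decide +kernel, zero_smul, add_zero]
    · show S.act _ (wvec 4) = wvec 4
      rw [w4, key _ (by decide +kernel), show B (P (iota lI)) y0 = 0 by decide +kernel, zero_smul, add_zero]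
    · show S.act _ (wvec 8) = wvec 8
      rw [w8, key _ (by decide +kernel), show B (P (iota lJ)) y0 = 0 by decide +kernel, zero_smul, add_zero]
  · obtain ⟨hsign, t1, t2, t3⟩ := tau3_facts
    obtain ⟨k, hk, -, ψ, hψ, hkf⟩ := D.p.exists_lift hsign
    obtain ⟨f, hf, hff⟩ := D.p.exists_sie hψ
    refine real_of_act hl hm hπ _ (cz_mul (D.p.sie_comm hf).1 hk) fun b => ?_
    have key : ∀ m, Ev m → S.act (f * k) (P m) = P (pm τ₃ m) := by
      intro m hm'
      obtain ⟨c1, c2, c3⟩ := co_P _ (ev_pm hm' τ₃)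
      rw [S.act_mul (D.p.sie_comm hf).1 hk, hkf, M_P _ _ hm']
      have hN : N ψ (pm τ₃ m) 0 0 = P (pm τ₃ m) + dot (pm τ₃ m) ψ • u0 := by
        have h7 : N ψ (pm τ₃ m) 0 0 7 = 0 := (co_N hψ (ev_pm hm' τ₃) 0 0).2
        have hc : co (N ψ (pm τ₃ m) 0 0) = pm τ₃ m := by
          rw [(co_N hψ (ev_pm hm' τ₃) 0 0).1, zero_smul, add_zero]
        conv_lhs => rw [(perp_facts _ h7).2.1, hc]
        congr 2
        simp [N, P]
      rw [hN]
      have hv7 : (P (pm τ₃ m) + dot (pm τ₃ m) ψ • u0) 7 = 0 := by simp [c3, u0]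
      have hvco : co (P (pm τ₃ m) + dot (pm τ₃ m) ψ • u0) = pm τ₃ m := by
        rw [co_add, c1]
        rcases two_cases (dot (pm τ₃ m) ψ) with r | r <;> rw [r] <;> simp [co_zero, co_u0]
      have h := M_one_perp ψ hv7
      rw [hvco, ← hff] at h
      calc S.act f (P (pm τ₃ m) + dot (pm τ₃ m) ψ • u0)
          = S.act f (P (pm τ₃ m) + dot (pm τ₃ m) ψ • u0) + ((P (pm τ₃ m) + dot (pm τ₃ m) ψ • u0) +
              (P (pm τ₃ m) + dot (pm τ₃ m) ψ • u0)) := by rw [add_self_V, add_zero]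
        _ = dot (pm τ₃ m) ψ • u0 + (P (pm τ₃ m) + dot (pm τ₃ m) ψ • u0) := by rw [← add_assoc, h]
        _ = P (pm τ₃ m) := by rw [add_left_comm, add_self_V, add_zero]
    fin_cases b
    · show S.act _ (wvec 1) = wvec 1
      rw [w1, S.act_mul (D.p.sie_comm hf).1 hk, hkf, M_u0, hff, M_u0]
    · show S.act _ (wvec 2) = wvec 4
      rw [w2, w4, key _ std_A.1, t1]
    · show S.act _ (wvec 4) = wvec 8
      rw [w4, w8, key _ (iota_facts lI).1, t2]
    · show S.act _ (wvec 8) = wvec 2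
      rw [w8, w2, key _ (iota_facts lJ).1, t3]

omit D in
theorem real_word (hl : xs.length = 4) (hm : ∀ x ∈ xs, x ∈ S.xsub) (hgen : ∀ i : Fin 3, Real S xs (genM i.1)) :
    ∀ w : List ℕ, (∀ i ∈ w, i < 3) → Real S xs (wordM w)
  | [], _ => ⟨1, by simp, fun x hx => by simpa using hx, fun b => by
      rw [one_mul, inv_one, mul_one]
      fin_cases b <;> exact (wordVal_two_pow xs _ (by rw [hl]; norm_num)).symm⟩
  | i :: w, hw => by
      obtain ⟨k, hk, hkX, hex⟩ := hgen ⟨i, hw i List.mem_cons_self⟩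
      obtain ⟨k', hk', hkX', hex'⟩ := real_word hl hm hgen w fun j hj => hw j (List.mem_cons_of_mem _ hj)
      have hlen : ∀ w : List ℕ, (wordM w).length = 4 := fun w => by induction w <;> simp [wordM, *]
      refine ⟨k * k', cz_mul hk hk', fun x hx => ?_, fun b => ?_⟩
      · rw [show k * k' * x * (k * k')⁻¹ = k * (k' * x * k'⁻¹) * k⁻¹ by group]
        exact hkX _ (hkX' x hx)
      · rw [show k * k' * xs.getD b.1 1 * (k * k')⁻¹ = k * (k' * xs.getD b.1 1 * k'⁻¹) * k⁻¹ by group, hex' b,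
          real_points hl hm hex (by unfold genM; split <;> rfl) _]
        simp only [wordM]
        rw [List.getD_eq_getElem _ _ (by rw [hlen]; exact b.2), List.getD_eq_getElem _ _ (by
          rw [List.length_map, hlen]; exact b.2), List.getElem_map]

omit D in
/-- Dual vectors pulled back. -/
theorem pull (hl : xs.length = 4) (hm : ∀ x ∈ xs, x ∈ S.xsub)
    (hπ : ∀ b : Fin 4, π (xs.getD b.1 1) = wvec (2 ^ b.1)) {m : List ℕ} (hml : m.length = 4)
    (hlt : ∀ n : Fin 16, lmx m n.1 < 16) {k : G} (hk : k * z = z * k)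
    (hex : ∀ b : Fin 4, k * xs.getD b.1 1 * k⁻¹ = wordVal xs (m.getD b.1 0)) (c : Fin 4) (s : Fin 16)
    (hS : ∀ n : Fin 16, par4 s.1 n.1 = bitz (lmx m n.1) c.1) {y y' : G} (hy : y ∈ Q)
    (hyπ : π y = yvec (2 ^ c.1)) (hy' : y' ∈ Q) (hy'π : π y' = yvec s.1) {e : G} (he : e ∈ S.asub)
    (hy'e : y' * e * y'⁻¹ ∈ S.asub) : y * (k * e * k⁻¹) * y⁻¹ = k * (y' * e * y'⁻¹) * k⁻¹ := by
  have hk' := cz_inv hk
  have hq := S.norm k⁻¹ hk' y hy
  have hd : InW (π (k⁻¹ * y * k⁻¹⁻¹ * y'⁻¹)) := by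
    refine inW_perp _ fun w hw => ?_
    obtain ⟨n, rfl⟩ := wvec_facts.2.1 w hw
    obtain ⟨hn1, hn2⟩ := xi_facts hl hm hπ n
    have hact : S.act k (wvec n.1) = wvec (lmx m n.1) := by
      rw [← hn2, S.act_π hk hn1.1, real_points hl hm hex hml, (xi_facts hl hm hπ ⟨_, hlt n⟩).2]
    have hbit : par4 (2 ^ c.1) (lmx m n.1) = bitz (lmx m n.1) c.1 := by
      have : ∀ c : Fin 4, ∀ t : Fin 16, par4 (2 ^ c.1) t.1 = bitz t.1 c.1 := by decide +kernel
      exact this c ⟨_, hlt n⟩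
    rw [S.π_mul _ hq _ (inv_mem hy'), S.π_inv hy', B_add_left, ← S.act_π hk' hy, hy'π, hyπ,
      yvec_facts.1, hS n, ← (S.act_iso hk).polar (S.act k⁻¹ _), S.act_act_inv hk, hact,
      yvec_facts.1 ⟨_, Nat.pow_lt_pow_right (by norm_num) c.2⟩ ⟨_, hlt n⟩, hbit, CharTwo.add_self_eq_zero]
  set x := k⁻¹ * y * k⁻¹⁻¹ * y'⁻¹ with hx
  have hxm : x ∈ S.xsub := ⟨mul_mem hq (inv_mem hy'), hd⟩
  have hcomm := S.mem_asub.1 hy'e x hxm.1 hxm.2
  calc y * (k * e * k⁻¹) * y⁻¹ = k * (x * (y' * e * y'⁻¹) * x⁻¹) * k⁻¹ := by rw [hx]; group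
    _ = k * (y' * e * y'⁻¹) * k⁻¹ := by rw [← hcomm, mul_inv_cancel_right]

/-- Commutation of the axis with the dual vectors. -/
theorem axis_data (c : Fin 4) {y : G} (hy : y ∈ Q) (hyπ : π y = yvec (2 ^ c.1)) :
    y * a * y⁻¹ = a * (if c.1 = 0 then z * u₁ else if c.1 = 1 then z * u else 1) := by
  have hA := D.axis
  obtain ⟨-, haE, -, -, haz, -, -⟩ := D.p.axis_params D.d hA
  have hau : a * u = u * a := (D.p.sie_comm hA.mem).2
  have hau₁ : a * u₁ = u₁ * a := (D.p.inE_cz D.d haE).2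
  obtain ⟨-, -, f7, fB, frest, -⟩ := yvec_facts
  have fin : ∀ t, t * a = a * t → y * t = t * y → t * t = 1 → a * y * a⁻¹ = y * t → y * a * y⁻¹ = a * t := by
    intro t h1 h2 h3 h4
    have hti : t⁻¹ = t := inv_eq_of_mul_eq_one_right h3
    have h5 : a * y = y * t * a := mul_inv_eq_iff_eq_mul.1 h4
    calc y * a * y⁻¹ = (y * t * y⁻¹)⁻¹ * (y * t * a) * y⁻¹ := by group
      _ = t * (a * y) * y⁻¹ := by rw [← h5, h2, mul_inv_cancel_right, hti]
      _ = a * t := by rw [mul_assoc, mul_inv_cancel_right, h1]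
  by_cases hc : c.1 = 0
  · rw [if_pos hc]
    rw [hc, pow_zero] at hyπ
    have hval : a * y * a⁻¹ = y * (z * u₁) := by
      obtain ⟨-, -, -, -, φ, hφ, hφf, -, hval⟩ := D.p.inE_action D.d haE
      have hB : B (π y) (P φA) = 0 := by rw [hyπ]; exact fB
      have hy' := S.norm _ (cz_inv D.d.cz) y hy
      have hπy' : π (c₁⁻¹ * y * c₁⁻¹⁻¹) = S.act c₁⁻¹ (π y) := (S.act_π (cz_inv D.d.cz) hy).symm
      have hn : S.act a y1 + y1 = u0 := by
        rw [hA.form, M_one_perp φA y1_facts.1, show dot (co y1) φA = 1 by decide +kernel, one_smul]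
      have hk : dot (co (π (c₁⁻¹ * y * c₁⁻¹⁻¹))) φ = 1 := by
        rw [hπy', hval _ hB, hn, B_u0, hyπ, f7]
      have h := D.p.pair_formula haE.1 hφ hφf hy' (by rw [hπy', D.p.seven_c₁ D.d, hB])
      rw [hk, zp_one, zp_one] at h
      calc a * y * a⁻¹ = c₁ * (c₁⁻¹ * a * c₁ * (c₁⁻¹ * y * c₁⁻¹⁻¹) * (c₁⁻¹ * a * c₁)⁻¹) * c₁⁻¹ := by group
        _ = y * (c₁ * z * c₁⁻¹ * (c₁ * u * c₁⁻¹)) := by rw [h]; group
        _ = _ := by rw [D.d.conj, D.d.cz, mul_inv_cancel_right]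
    refine fin _ (Commute.mul_right haz hau₁).eq.symm ?_ ?_ hval
    · refine (S.comm_iff hy (mul_mem S.extra.z_mem (D.p.u₁_mem D.d))).2 ?_
      rw [S.π_mul _ S.extra.z_mem _ (D.p.u₁_mem D.d), S.π_z, zero_add, D.d.π_u₁, hyπ, fB]
    · calc z * u₁ * (z * u₁) = z * (u₁ * z) * u₁ := by group
        _ = 1 := by rw [D.p.u₁z D.d, ← mul_assoc, S.extra.z_sq, one_mul, D.p.u₁u₁ D.d]
  · rw [if_neg hc]
    obtain ⟨h7, hd⟩ := frest c hc
    have h := D.p.pair_formula hA.mem std_A.1 hA.form hy (by rw [hyπ]; exact h7)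
    rw [hyπ, hd] at h
    by_cases hc1 : c.1 = 1
    · rw [if_pos hc1]
      rw [if_pos hc1, zp_one, zp_one] at h
      refine fin _ (Commute.mul_right haz hau).eq.symm ?_ ?_ h
      · refine (S.comm_iff hy (mul_mem S.extra.z_mem D.p.u_mem)).2 ?_
        rw [S.π_mul _ S.extra.z_mem _ D.p.u_mem, S.π_z, zero_add, D.p.π_u, hyπ, B_u0, h7]
      · calc z * u * (z * u) = z * (u * z) * u := by group
          _ = 1 := by rw [D.p.uz, ← mul_assoc, S.extra.z_sq, one_mul, D.p.uu]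
    · rw [if_neg hc1]
      rw [if_neg hc1, zp_zero, zp_zero, one_mul, mul_one] at h
      exact fin 1 (by simp) (by simp) (one_mul 1) (by rw [mul_one]; exact h)

/-- The coordinates exist. -/
theorem exists_frame11 : ∃ xs cs : List G, Frame11 S xs cs ∧ xs.getD 0 1 = z * u ∧ cs.getD 0 1 = a ∧
    ∀ i : Fin 3, Real S xs (genM i.1) := by
  classical
  obtain ⟨xs, hl, hm, hπ, e0, e1⟩ := D.exists_points
  have hgen := D.real_gen hl hm hπ
  have haA : a ∈ S.asub := D.sie_asub D.axis.mem (by decide +kernel) D.axis.form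
  have hax : ∀ d : Fin 4, ∀ y ∈ Q, π y = yvec (2 ^ d.1) → y * a * y⁻¹ = a * wordVal xs (dC 0 d.1) := by
    intro d y hy hyπ
    rw [D.axis_data d hy hyπ]
    congr 1
    fin_cases d
    · show z * u₁ = wordVal xs (2 ^ 1)
      rw [wordVal_two_pow xs 1 (by rw [hl]; norm_num), e1]
    · show z * u = wordVal xs (2 ^ 0)
      rw [wordVal_two_pow xs 0 (by rw [hl]; norm_num), e0]
    all_goals exact (wordVal_zero xs).symm
  have hk : ∀ j : Fin 6, ∃ c ∈ S.asub, (j.1 = 0 → c = a) ∧ ∀ d : Fin 4, ∀ y ∈ Q, π y = yvec (2 ^ d.1) →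
      y * c * y⁻¹ = c * wordVal xs (dC j.1 d.1) := by
    intro j
    by_cases hj : j.1 = 0
    · exact ⟨a, haA, fun _ => rfl, fun d y hy hyπ => by rw [hj]; exact hax d y hy hyπ⟩
    obtain ⟨hw, hS⟩ := pairWord_facts j
    obtain ⟨k, hk, hkX, hex⟩ := real_word hl hm hgen _ hw
    refine ⟨k * a * k⁻¹, Co.xsub_stable hk hkX a haA, fun h => absurd h hj, fun d y hy hyπ => ?_⟩
    obtain ⟨hlt, hpar, d', hd', hdC⟩ := hS d
    have hlen : ∀ w : List ℕ, (wordM w).length = 4 := fun w => by induction w <;> simp [wordM, *]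
    have hlt' : ∀ n : Fin 16, lmx (wordM (pairWord j.1)) n.1 < 16 := by
      have : ∀ j : Fin 6, ∀ n : Fin 16, lmx (wordM (pairWord j.1)) n.1 < 16 := by decide +kernel
      exact this j
    obtain ⟨y', hy', hy'π⟩ := S.π_surj (yvec (pairS j.1 d.1))
    have h' := hax d' y' hy' (by rw [hy'π, hd'])
    have hmem : y' * a * y'⁻¹ ∈ S.asub := by
      rw [h']; exact mul_mem haA (S.xsub_le_asub (wordVal_mem hm _))
    rw [pull hl hm hπ (hlen _) hlt' hk hex d ⟨_, hlt⟩ hpar hy hyπ hy' hy'π haA hmem, h', ← conj_mul,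
      real_points hl hm hex (hlen _), hdC]
  choose c hc hc0 hcd using hk
  refine ⟨xs, List.ofFn c, ⟨hl, by simp, hm, fun x hx => ?_, hπ, fun j d y hy hyπ => ?_⟩, e0, ?_, hgen⟩
  · obtain ⟨j, rfl⟩ := List.mem_ofFn.1 hx
    exact hc j
  · rw [List.getD_eq_getElem _ _ (by simp [j.2]), List.getElem_ofFn]
    exact hcd j d y hy hyπ
  · rw [List.getD_eq_getElem _ _ (by simp), List.getElem_ofFn]
    exact hc0 _ rfl

end Co.Gd

/-- The base of the coordinates. -/
def base11 (z : G) (xs cs : List G) : List G := z :: (xs ++ cs)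

namespace Frame11

variable {S : Co z Q π} {u g u₁ c₁ a : G} {L : R4 → R4 → ZMod 2} {xs cs : List G} (F : Frame11 S xs cs)
  (D : S.Gd u g u₁ c₁ a L)

include F in
theorem base_mem : ∀ x ∈ base11 z xs cs, x ∈ S.asub := by
  intro x hx
  simp only [base11, List.mem_cons, List.mem_append] at hx
  rcases hx with rfl | hx | hx
  exacts [S.xsub_le_asub S.z_xsub, S.xsub_le_asub (F.xs_mem x hx), F.cs_mem x hx]

include F D in
theorem el_xor (m n : ℕ) :
    wordVal (base11 z xs cs) (m ^^^ n) = wordVal (base11 z xs cs) m * wordVal (base11 z xs cs) n :=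
  wordVal_xor (K := S.asub) (fun _ hx _ hy => D.asub_comm hx hy) (fun _ hx => D.asub_sq hx) F.base_mem m n

include F in
theorem el_small : ∀ n : Fin 16, wordVal (base11 z xs cs) (2 * n.1) = wordVal xs n.1 := by
  obtain ⟨x0, x1, x2, x3, rfl⟩ : ∃ x0 x1 x2 x3, xs = [x0, x1, x2, x3] := by
    have hl := F.lx
    rcases xs with _ | ⟨a, _ | ⟨b, _ | ⟨c, _ | ⟨d, _ | ⟨e, l⟩⟩⟩⟩⟩ <;> simp at hl
    exact ⟨a, b, c, d, rfl⟩
  intro n
  have : ∀ m, m = n.1 → (2 * m) % 2 = 0 ∧ (2 * m) / 2 = m ∧ m / 2 / 2 / 2 / 2 = 0 := fun m e => by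
    have := n.2; omega
  obtain ⟨h1, h2, h3⟩ := this n.1 rfl
  simp only [base11, List.cons_append, List.nil_append, wordVal, h1, h2, h3, wordVal_zero, zero_ne_one, if_false,
    one_mul, mul_one]

include F D in
/-- Conjugation by a dual vector is the translation. -/
theorem el_Tm (c : Fin 4) {y : G} (hy : y ∈ Q) (hyπ : π y = yvec (2 ^ c.1)) (n : Fin 2048) :
    y * wordVal (base11 z xs cs) n.1 * y⁻¹ = wordVal (base11 z xs cs) (Tm c.1 n.1) := by
  rw [(Tm_lin c n).1, wordVal_lmx (K := S.asub) (fun _ hx _ hy => D.asub_comm hx hy) (fun _ hx => D.asub_sq hx)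
    F.base_mem]
  have hmap := wordVal_map (MulAut.conj y).toMonoidHom (base11 z xs cs) n.1
  rw [MulEquiv.coe_toMonoidHom, MulAut.conj_apply] at hmap
  rw [hmap]
  congr 1
  have hlen : (base11 z xs cs).length = 11 := by simp [base11, F.lx, F.lc]
  obtain ⟨hb, h1, hc6⟩ := Tm_basis
  have el2 : ∀ i, i < 11 → wordVal (base11 z xs cs) (2 ^ i) = (base11 z xs cs).getD i 1 := fun i hi =>
    wordVal_two_pow _ i (by rw [hlen]; exact hi)
  refine List.ext_getElem (by simp [hlen]) fun j hj hj' => ?_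
  simp only [List.getElem_map, MulAut.conj_apply, List.getElem_range]
  have hj11 : j < 11 := by simpa [hlen] using hj
  rw [← List.getD_eq_getElem (base11 z xs cs) 1 (by rw [hlen]; exact hj11)]
  rcases Nat.lt_or_ge j 1 with hj0 | hj0
  · obtain rfl : j = 0 := by omega
    have : wordVal (base11 z xs cs) 1 = z := by simp [base11, wordVal, wordVal_zero]
    rw [pow_zero, h1 c, ← el2 0 hj11, pow_zero, this, S.mem_cz hy, mul_inv_cancel_right]
  rcases Nat.lt_or_ge j 5 with hj5 | hj5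
  · obtain ⟨b, rfl⟩ : ∃ b, j = b + 1 := ⟨j - 1, by omega⟩
    have hb4 : b < 4 := by omega
    have hg : (base11 z xs cs).getD (b + 1) 1 = xs.getD b 1 := by
      rw [base11, List.getD_cons_succ, List.getD_eq_getElem _ _ (by simp [F.lx]; omega),
        List.getD_eq_getElem _ _ (by rw [F.lx]; exact hb4), List.getElem_append_left]
    rw [hg, hb c ⟨b, hb4⟩, F.el_xor D, el2 _ hj11, hg]
    have hxs := F.xs_mem _ (show xs.getD b 1 ∈ xs by
      rw [List.getD_eq_getElem _ _ (by rw [F.lx]; exact hb4)]; exact List.getElem_mem _)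
    have h := S.conj_eq hxs.1 hy
    have hbit : par4 (2 ^ c.1) (2 ^ b) = if c.1 = b then 1 else 0 := by
      have : ∀ c b : Fin 4, par4 (2 ^ c.1) (2 ^ b.1) = if c.1 = b.1 then 1 else 0 := by decide +kernel
      exact this c ⟨b, hb4⟩
    have hπb : π (xs.getD b 1) = wvec (2 ^ b) := F.xs_π ⟨b, hb4⟩
    rw [hyπ, hπb, yvec_facts.1 ⟨_, Nat.pow_lt_pow_right (by norm_num) c.2⟩ ⟨_, Nat.pow_lt_pow_right (by norm_num) hb4⟩,
      hbit] at h
    rw [h]
    show _ = _
    have hcomm : Commute (xs.getD b 1) z := S.mem_cz hxs.1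
    by_cases hcb : c.1 = b
    · rw [if_pos hcb, if_pos hcb, zp_one]
      have : wordVal (base11 z xs cs) 1 = z := by simp [base11, wordVal, wordVal_zero]
      rw [this, hcomm.eq]
    · rw [if_neg hcb, if_neg hcb, zp_zero, wordVal_zero, one_mul, mul_one]
  · obtain ⟨k, rfl⟩ : ∃ k, j = k + 5 := ⟨j - 5, by omega⟩
    have hk6 : k < 6 := by omega
    obtain ⟨he, hlt⟩ := hc6 c ⟨k, hk6⟩
    have hg : (base11 z xs cs).getD (k + 5) 1 = cs.getD k 1 := by
      rw [base11, List.getD_cons_succ, List.getD_eq_getElem _ _ (by simp [F.lx, F.lc]; omega),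
        List.getD_eq_getElem _ _ (by rw [F.lc]; exact hk6),
        List.getElem_append_right (by rw [F.lx]; omega)]
      congr 1
      rw [F.lx]; omega
    rw [hg, he, F.el_xor D, el2 _ hj11, hg, F.data ⟨k, hk6⟩ c y hy hyπ,
      F.el_small ⟨_, hlt⟩]
    exact D.asub_comm (F.cs_mem _ (by rw [List.getD_eq_getElem _ _ (by rw [F.lc]; exact hk6)]; exact List.getElem_mem _))
      (S.xsub_le_asub (wordVal_mem F.xs_mem _))

include F D in
theorem el_inj : ∀ m n : Fin 2048, wordVal (base11 z xs cs) m.1 = wordVal (base11 z xs cs) n.1 → m = n := by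
  intro m n h
  have hd : wordVal (base11 z xs cs) (m.1 ^^^ n.1) = 1 := by
    rw [F.el_xor D, h, D.asub_sq (wordVal_mem F.base_mem _)]
  -- an element killed by every translation
  have key : ∀ d, d < 2048 → wordVal (base11 z xs cs) d = 1 → d = 0 := by
    have step : ∀ d, d < 32 → wordVal (base11 z xs cs) d = 1 → d = 0 := by
      intro d hd32 hd
      obtain ⟨e, n, he, hn, rfl⟩ : ∃ e n, e < 2 ∧ n < 16 ∧ d = e ^^^ 2 * n := by
        refine ⟨d % 2, d / 2, Nat.mod_lt _ (by norm_num), by omega, ?_⟩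
        have : ∀ d : Fin 32, d.1 = d.1 % 2 ^^^ 2 * (d.1 / 2) := by decide +kernel
        exact this ⟨d, hd32⟩
      rw [F.el_xor D, F.el_small ⟨n, hn⟩] at hd
      have hz : wordVal (base11 z xs cs) e ∈ Q ∧ π (wordVal (base11 z xs cs) e) = 0 := by
        obtain rfl | rfl : e = 0 ∨ e = 1 := by omega
        · rw [wordVal_zero]; exact ⟨one_mem Q, S.π_one⟩
        · have : wordVal (base11 z xs cs) 1 = z := by simp [base11, wordVal, wordVal_zero]
          rw [this]; exact ⟨S.extra.z_mem, S.π_z⟩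
      obtain ⟨hx, hxπ⟩ := Co.Gd.xi_facts F.lx F.xs_mem F.xs_π ⟨n, hn⟩
      have hw := congrArg π hd
      rw [S.π_mul _ hz.1 _ hx.1, hz.2, hxπ, zero_add, S.π_one] at hw
      have hn0 : n = 0 := by
        have : ∀ n : Fin 16, wvec n.1 = 0 → n.1 = 0 := by decide +kernel
        exact this ⟨n, hn⟩ hw
      subst hn0
      rw [wordVal_zero, mul_one] at hd
      obtain rfl | rfl : e = 0 ∨ e = 1 := by omega
      · rfl
      · have h1 : wordVal (base11 z xs cs) 1 = z := by simp [base11, wordVal, wordVal_zero]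
        exact absurd (h1 ▸ hd) S.extra.z_ne
    intro d hd11 hd
    have hfix : ∀ c : Fin 4, Tm c.1 d ^^^ d = 0 := fun c => by
      obtain ⟨y, hy, hyπ⟩ := S.π_surj (yvec (2 ^ c.1))
      have h := F.el_Tm D c hy hyπ ⟨d, hd11⟩
      rw [hd, mul_one, mul_inv_cancel] at h
      refine step _ ?_ (by rw [F.el_xor D, hd, ← h, one_mul])
      have : ∀ c : Fin 4, ∀ d : Fin 2048, Tm c.1 d.1 ^^^ d.1 < 32 := by decide +kernel
      exact this c ⟨d, hd11⟩
    rcases Tm_fixed ⟨d, hd11⟩ (fun c => Nat.xor_eq_zero_iff.1 (hfix c)) with e | e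
    · exact e
    · exact step d (by simp only at e; omega) hd
  exact Fin.ext (Nat.xor_eq_zero_iff.1 (key _ (Nat.xor_lt_two_pow (n := 11) m.2 n.2) hd))

include F D in
theorem el_surj {x : G} (hx : x ∈ S.asub) : ∃ n : Fin 2048, x = wordVal (base11 z xs cs) n.1 := by
  let f : Fin 2048 → ↥S.asub := fun n => ⟨_, wordVal_mem F.base_mem n.1⟩
  have hf : Function.Bijective f := (Nat.bijective_iff_injective_and_card f).2
    ⟨fun m n e => F.el_inj D m n (congrArg Subtype.val e), by rw [Nat.card_fin, D.card_asub]; norm_num⟩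
  obtain ⟨n, hn⟩ := hf.2 ⟨x, hx⟩
  exact ⟨n, (congrArg Subtype.val hn).symm⟩

include F D in
theorem el_Tw : ∀ (l : List ℕ), (∀ c ∈ l, c < 4) → ∀ (ys : List G),
    List.Forall₂ (fun c y => y ∈ Q ∧ π y = yvec (2 ^ c)) l ys → ∀ (s : ℕ) (n : Fin 2048), Tw l s n.1 < 2048 ∧
      wordVal ys s * wordVal (base11 z xs cs) n.1 * (wordVal ys s)⁻¹ = wordVal (base11 z xs cs) (Tw l s n.1)
  | [], _, _, .nil, _, n => ⟨n.2, by simp [wordVal, Tw]⟩
  | c :: l, hl, y :: ys, .cons h h', s, n => by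
      obtain ⟨hlt, ih⟩ := el_Tw l (fun i hi => hl i (List.mem_cons_of_mem _ hi)) ys h' (s / 2) n
      simp only [Tw, wordVal]
      split
      · have hc := hl c List.mem_cons_self
        refine ⟨(Tm_lin ⟨c, hc⟩ ⟨_, hlt⟩).2, ?_⟩
        calc y * wordVal ys (s / 2) * wordVal (base11 z xs cs) n.1 * (y * wordVal ys (s / 2))⁻¹
            = y * (wordVal ys (s / 2) * wordVal (base11 z xs cs) n.1 * (wordVal ys (s / 2))⁻¹) * y⁻¹ := by group
          _ = _ := by rw [ih]; exact F.el_Tm D ⟨c, hc⟩ h.1 h.2 ⟨_, hlt⟩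
      · exact ⟨hlt, by rw [one_mul]; exact ih⟩

include F D in
/-- The three generators act by their matrices, up to the bit of `z`. -/
theorem el_gen (i : Fin 3) (hreal : Co.Gd.Real S xs (genM i.1)) :
    ∃ k, k * z = z * k ∧ (∀ x ∈ S.xsub, k * x * k⁻¹ ∈ S.xsub) ∧ ∀ j : Fin 11, ∃ e, e < 2 ∧
      k * wordVal (base11 z xs cs) (2 ^ j.1) * k⁻¹ = wordVal (base11 z xs cs) ((genL i.1).getD j.1 0 ^^^ e) := by
  obtain ⟨k, hk, hkX, hex⟩ := hreal
  obtain ⟨hlt, -, hS, hL⟩ := gen_facts i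
  refine ⟨k, hk, hkX, fun j => ?_⟩
  have hml : (genM i.1).length = 4 := by unfold genM; split <;> rfl
  have hlt16 : ∀ n : Fin 16, lmx (genM i.1) n.1 < 16 := by
    have : ∀ i : Fin 3, ∀ n : Fin 16, lmx (genM i.1) n.1 < 16 := by decide +kernel
    exact this i
  obtain ⟨hLlt, hLc⟩ := hL j
  have hj11 : 2 ^ j.1 < 2048 := by
    calc 2 ^ j.1 < 2 ^ 11 := Nat.pow_lt_pow_right (by norm_num) j.2
      _ = 2048 := by norm_num
  set el := wordVal (base11 z xs cs) with hel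
  have hemem : el (2 ^ j.1) ∈ S.asub := wordVal_mem F.base_mem _
  have himg : k * el (2 ^ j.1) * k⁻¹ ∈ S.asub := Co.xsub_stable hk hkX _ hemem
  obtain ⟨n, hn⟩ := F.el_surj D himg
  choose y hy hyπ using fun c : Fin 4 => S.π_surj (yvec (2 ^ c.1))
  have hfix : ∀ c : Fin 4, Tm c.1 (n.1 ^^^ (genL i.1).getD j.1 0) = n.1 ^^^ (genL i.1).getD j.1 0 := by
    intro c
    obtain ⟨hsl, hpar⟩ := hS c
    obtain ⟨hd32, hTmL⟩ := hLc c
    set s := (genS i.1).getD c.1 0
    set δ := Tw [0, 1, 2, 3] s (2 ^ j.1) ^^^ 2 ^ j.1 with hδ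
    set ys := [y 0, y 1, y 2, y 3]
    have hys : List.Forall₂ (fun c w => w ∈ Q ∧ π w = yvec (2 ^ c)) [0, 1, 2, 3] ys :=
      List.Forall₂.cons ⟨hy 0, hyπ 0⟩ (List.Forall₂.cons ⟨hy 1, hyπ 1⟩ (List.Forall₂.cons ⟨hy 2, hyπ 2⟩
        (List.Forall₂.cons ⟨hy 3, hyπ 3⟩ List.Forall₂.nil)))
    obtain ⟨-, hTw⟩ := F.el_Tw D [0, 1, 2, 3] (by simp) ys hys s ⟨_, hj11⟩
    have hYπ : π (wordVal ys s) = yvec s ∧ wordVal ys s ∈ Q := by
      obtain ⟨h1, h2⟩ := S.π_wordVal (l := ys) (vl := [yvec 1, yvec 2, yvec 4, yvec 8])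
        (List.Forall₂.cons ⟨hy 0, hyπ 0⟩ (List.Forall₂.cons ⟨hy 1, hyπ 1⟩ (List.Forall₂.cons ⟨hy 2, hyπ 2⟩
          (List.Forall₂.cons ⟨hy 3, hyπ 3⟩ List.Forall₂.nil)))) s
      refine ⟨h1.trans ?_, h2⟩
      have : ∀ s : Fin 16, Multiplicative.toAdd (wordVal (M := Multiplicative V)
          ([yvec 1, yvec 2, yvec 4, yvec 8].map Multiplicative.ofAdd) s.1) = yvec s.1 := by decide +kernel
      exact this ⟨s, hsl⟩
    have h1 := Co.Gd.pull F.lx F.xs_mem F.xs_π hml hlt16 hk hex c ⟨s, hsl⟩ hpar (hy c) (hyπ c) hYπ.2 hYπ.1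
      hemem (by rw [hTw]; exact wordVal_mem F.base_mem _)
    rw [hn, hTw, F.el_Tm D c (hy c) (hyπ c) n] at h1
    have hsplit : Tw [0, 1, 2, 3] s (2 ^ j.1) = δ ^^^ 2 ^ j.1 := by rw [hδ, Nat.xor_assoc, Nat.xor_self, Nat.xor_zero]
    have hδsplit : δ = δ % 2 ^^^ 2 * (δ / 2) := by
      have : ∀ d : Fin 32, d.1 = d.1 % 2 ^^^ 2 * (d.1 / 2) := by decide +kernel
      exact this ⟨δ, hd32⟩
    have hδ16 : δ / 2 < 16 := by omega
    have hz1 : ∀ e, e < 2 → k * el e * k⁻¹ = el e := by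
      intro e he
      obtain rfl | rfl : e = 0 ∨ e = 1 := by omega
      · rw [hel, wordVal_zero, mul_one, mul_inv_cancel]
      · have : el 1 = z := by simp [hel, base11, wordVal, wordVal_zero]
        rw [this, hk, mul_inv_cancel_right]
    have hrhs : k * el (Tw [0, 1, 2, 3] s (2 ^ j.1)) * k⁻¹ =
        el ((δ % 2 ^^^ 2 * lmx (genM i.1) (δ / 2)) ^^^ n.1) := by
      rw [hsplit, hel, F.el_xor D, ← conj_mul, ← hel, hn]
      conv_lhs => arg 1; rw [hδsplit, hel, F.el_xor D, ← conj_mul, F.el_small ⟨_, hδ16⟩,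
        Co.Gd.real_points F.lx F.xs_mem hex hml, ← F.el_small ⟨_, hlt16 ⟨_, hδ16⟩⟩, ← hel,
        hz1 _ (Nat.mod_lt _ (by norm_num))]
      rw [hel, ← F.el_xor D, ← F.el_xor D]
    rw [hrhs] at h1
    have hb : (δ % 2 ^^^ 2 * lmx (genM i.1) (δ / 2)) ^^^ n.1 < 2048 := by
      refine Nat.xor_lt_two_pow (n := 11) (Nat.xor_lt_two_pow (n := 11) (by omega) ?_) n.2
      have := hlt16 ⟨_, hδ16⟩
      simp only at this
      omega
    have h2 := congrArg Fin.val (F.el_inj D ⟨_, (Tm_lin c n).2⟩ ⟨_, hb⟩ h1)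
    simp only at h2
    have hlin : ∀ p q : ℕ, p < 2048 → q < 2048 → Tm c.1 (p ^^^ q) = Tm c.1 p ^^^ Tm c.1 q := by
      intro p q hp hq
      refine congrArg Fin.val (F.el_inj D ⟨_, (Tm_lin c ⟨_, Nat.xor_lt_two_pow (n := 11) hp hq⟩).2⟩
        ⟨_, Nat.xor_lt_two_pow (n := 11) (Tm_lin c ⟨p, hp⟩).2 (Tm_lin c ⟨q, hq⟩).2⟩ ?_)
      rw [← F.el_Tm D c (hy c) (hyπ c) ⟨_, Nat.xor_lt_two_pow (n := 11) hp hq⟩, F.el_xor D, ← conj_mul,
        F.el_Tm D c (hy c) (hyπ c) ⟨p, hp⟩, F.el_Tm D c (hy c) (hyπ c) ⟨q, hq⟩, ← F.el_xor D]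
    rw [hlin _ _ n.2 hLlt, h2, hTmL]
    simp only [Nat.xor_assoc, Nat.xor_comm, Nat.xor_left_comm, Nat.xor_self, Nat.xor_zero]
  rcases Tm_fixed ⟨_, Nat.xor_lt_two_pow (n := 11) n.2 hLlt⟩ hfix with e | e <;> simp only at e
  · refine ⟨0, by norm_num, ?_⟩
    rw [hn, Nat.xor_zero, Nat.xor_eq_zero_iff.1 e]
  · refine ⟨1, by norm_num, ?_⟩
    rw [hn]
    congr 1
    calc n.1 = (genL i.1).getD j.1 0 ^^^ (n.1 ^^^ (genL i.1).getD j.1 0) := by
          rw [Nat.xor_comm n.1, ← Nat.xor_assoc, Nat.xor_self, Nat.zero_xor]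
      _ = _ := by rw [e]

end Frame11

end CfsgLib.Characterizations.CoType
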