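import Cfsg.Agent.Lib.Characterizations.CoType.Golay.Classes

/-!
# Groups of Conway type: arithmetic restrictions on the conjugates of `z`
-/

set_option autoImplicit false
set_option linter.style.haveILetI false
set_option linter.unusedSectionVars false
set_option maxRecDepth 4000

namespace CfsgLib.Characterizations.CoType

open CfsgLib.ThreeTransp.Extraspecial

variable {G : Type*} [Group G] [Finite G] {z : G} {Q : Subgroup G} {π : G → V}

namespace Co

variable (S : Co z Q π)

theorem fused_mem (hz : z ∈ S.asub) {x : G} (h : S.Fused x) : x ∈ S.asub := by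
  obtain ⟨n, hn, rfl⟩ := h
  exact (Subgroup.mem_normalizer_iff.1 hn z).1 hz

/-- Fixed points of an element of prime order. -/
theorem exists_fixed_pow {p : ℕ} [Fact p.Prime] (hcard : Nat.card ↥S.asub = 2 ^ 11) {n : G}
    (hn : n ∈ Subgroup.normalizer (S.asub : Set G)) (ho : orderOf n = p) :
    ∃ k ≤ 11, 2048 % p = 2 ^ k % p ∧ Nat.card ↥(S.asub ⊓ Subgroup.centralizer ({n} : Set G)) = 2 ^ k := by
  set N := Subgroup.normalizer (S.asub : Set G)
  let n' : ↥N := ⟨n, hn⟩
  letI : MulAction ↥(Subgroup.zpowers n') ↥S.asub :=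
    MulAction.compHom ↥S.asub ((Subgroup.normalizerMonoidHom S.asub).comp (Subgroup.zpowers n').subtype)
  have hp : IsPGroup p ↥(Subgroup.zpowers n') := IsPGroup.of_card (n := 1) (by
    rw [Nat.card_zpowers, pow_one, ← ho]; exact (Subgroup.orderOf_mk n hn).symm ▸ rfl)
  have hmod := hp.card_modEq_card_fixedPoints ↥S.asub
  have hfix : Nat.card (MulAction.fixedPoints ↥(Subgroup.zpowers n') ↥S.asub) =
      Nat.card ↥(S.asub ⊓ Subgroup.centralizer ({n} : Set G)) := by
    have hiff : ∀ x : ↥S.asub, x ∈ MulAction.fixedPoints ↥(Subgroup.zpowers n') ↥S.asub ↔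
        (x : G) * n = n * x := by
      intro x
      constructor
      · intro h
        have h1 : n * (x : G) * n⁻¹ = x := congrArg Subtype.val (h ⟨n', Subgroup.mem_zpowers _⟩)
        exact (mul_inv_eq_iff_eq_mul.1 h1).symm
      · rintro h ⟨m, hm⟩
        obtain ⟨i, rfl⟩ := Subgroup.mem_zpowers_iff.1 hm
        refine Subtype.ext ?_
        show ((n' ^ i : ↥N) : G) * (x : G) * ((n' ^ i : ↥N) : G)⁻¹ = x
        rw [SubgroupClass.coe_zpow, ((show Commute n (x : G) from h.symm).zpow_left i).eq, mul_inv_cancel_right]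
    refine Nat.card_congr
      { toFun := fun x => ⟨(x : ↥S.asub), Subgroup.mem_inf.2 ⟨x.1.2,
          Subgroup.mem_centralizer_singleton_iff.2 ((hiff _).1 x.2)⟩⟩
        invFun := fun x => ⟨⟨x, (Subgroup.mem_inf.1 x.2).1⟩,
          (hiff _).2 (Subgroup.mem_centralizer_singleton_iff.1 (Subgroup.mem_inf.1 x.2).2)⟩
        left_inv := fun x => rfl
        right_inv := fun x => rfl }
  have hdvd : Nat.card ↥(S.asub ⊓ Subgroup.centralizer ({n} : Set G)) ∣ 2 ^ 11 :=
    hcard ▸ Subgroup.card_dvd_of_le inf_le_left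
  obtain ⟨k, hk, hke⟩ := (Nat.dvd_prime_pow Nat.prime_two).1 hdvd
  rw [hfix, hcard, hke] at hmod
  exact ⟨k, hk, hmod, hke⟩

end Co

namespace Co.Gd

variable {S : Co z Q π} {u g u₁ c₁ a : G} {L : R4 → R4 → ZMod 2} (D : S.Gd u g u₁ c₁ a L)
include D

theorem prime_absurd {p : ℕ} [Fact p.Prime] (hp2 : p ≠ 2)
    (hdvd : p ∣ Nat.card ↥(Subgroup.normalizer (S.asub : Set G)))
    (hk : ∀ k ≤ 11, 2048 % p = 2 ^ k % p → k = 11) : False := by
  obtain ⟨n, hn⟩ := exists_prime_orderOf_dvd_card' p hdvd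
  have ho : orderOf (n : G) = p := (Subgroup.orderOf_coe n).trans hn
  obtain ⟨k, h1, h2, h3⟩ := S.exists_fixed_pow D.card_asub n.2 ho
  obtain rfl := hk k h1 h2
  have heq : S.asub ⊓ Subgroup.centralizer ({(n : G)} : Set G) = S.asub :=
    Subgroup.eq_of_le_of_card_ge inf_le_left (by rw [h3, D.card_asub])
  have hnc : (n : G) ∈ Subgroup.centralizer (S.asub : Set G) := Subgroup.mem_centralizer_iff.2 fun x hx => by
    have hx' : x ∈ S.asub ⊓ Subgroup.centralizer ({(n : G)} : Set G) := heq.symm ▸ hx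
    exact Subgroup.mem_centralizer_singleton_iff.1 (Subgroup.mem_inf.1 hx').2
  rw [D.centralizer_asub] at hnc
  have h2' : p ∣ 2 := ho ▸ orderOf_dvd_of_pow_eq_one (by rw [pow_two]; exact D.asub_sq hnc)
  exact hp2 ((Nat.prime_dvd_prime_iff_eq (Fact.out : p.Prime) Nat.prime_two).1 h2')

end Co.Gd

namespace Frame11

variable {S : Co z Q π} {u g u₁ c₁ a : G} {L : R4 → R4 → ZMod 2} {xs cs : List G} (F : Frame11 S xs cs)
  (D : S.Gd u g u₁ c₁ a L)

include F D

theorem card_fused_dvd :
    Nat.card {v : Fin 2048 // S.Fused (cd z xs cs v.1)} ∣ Nat.card ↥(Subgroup.normalizer (S.asub : Set G)) := by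
  set N := Subgroup.normalizer (S.asub : Set G)
  set K := (Subgroup.centralizer ({z} : Set G)).subgroupOf N
  choose n hn hne using fun v : {v : Fin 2048 // S.Fused (cd z xs cs v.1)} => v.2
  let Φ : {v : Fin 2048 // S.Fused (cd z xs cs v.1)} → ↥N ⧸ K := fun v => QuotientGroup.mk ⟨n v, hn v⟩
  have hK : ∀ a b : ↥N, (QuotientGroup.mk a : ↥N ⧸ K) = QuotientGroup.mk b ↔
      (a : G) * z * (a : G)⁻¹ = b * z * (b : G)⁻¹ := by
    intro a b
    rw [QuotientGroup.eq, Subgroup.mem_subgroupOf, Subgroup.mem_centralizer_singleton_iff]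
    simp only [Subgroup.coe_mul, Subgroup.coe_inv]
    constructor
    · intro h
      calc (a : G) * z * (a : G)⁻¹ = a * (z * ((a : G)⁻¹ * b)) * (b : G)⁻¹ := by group
        _ = a * ((a : G)⁻¹ * b * z) * (b : G)⁻¹ := by rw [h]
        _ = _ := by group
    · intro h
      calc (a : G)⁻¹ * b * z = (a : G)⁻¹ * (b * z * (b : G)⁻¹) * b := by group
        _ = z * ((a : G)⁻¹ * b) := by rw [← h]; group
  have hΦ : Function.Bijective Φ := by
    refine ⟨fun v w e => ?_, fun q => ?_⟩
    · have := (hK _ _).1 e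
      simp only [hne] at this
      exact Subtype.ext (F.el_inj D _ _ this)
    · obtain ⟨m, rfl⟩ := QuotientGroup.mk_surjective q
      obtain ⟨v, hv⟩ := F.el_surj D (S.fused_mem D.z_asub ⟨m, m.2, rfl⟩)
      refine ⟨⟨v, ⟨m, m.2, hv⟩⟩, (hK _ _).2 ?_⟩
      simp only [hne]
      exact hv.symm
  rw [Nat.card_congr (Equiv.ofBijective Φ hΦ), ← Subgroup.index_eq_card]
  exact Subgroup.index_dvd_card K

theorem card_pred (R : ℕ → Bool) (h : ∀ v < 2048, S.Fused (cd z xs cs v) ↔ R v = true) :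
    Nat.card {v : Fin 2048 // S.Fused (cd z xs cs v.1)} = (Finset.univ.filter fun v : Fin 2048 => R v.1).card := by
  classical
  rw [Nat.card_eq_fintype_card, Fintype.card_subtype]
  exact congrArg Finset.card (Finset.filter_congr fun v _ => h v.1 v.2)

end Frame11

end CfsgLib.Characterizations.CoType
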