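import Cfsg.Agent.Lib.Characterizations.CoType.Golay.FusionData
import Cfsg.Agent.Lib.Sporadic.LargeFischer.Hexa.ToddModel

/-!
# Groups of Conway type: linear forms on the codes meeting the conjugates of `z` in 352 points

These are carried by a linear map onto the 276 pairs of the model of the Todd module.
-/

set_option autoImplicit false
set_option maxRecDepth 100000
set_option maxHeartbeats 4000000

namespace CfsgLib.Characterizations.CoType

open CfsgLib.Sporadic.LargeFischer

/-- The product of two numbers as bit vectors of the given length. -/
def dotR : ℕ → ℕ → ℕ → Bool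
  | 0, _, _ => false
  | k + 1, l, v => (l.testBit k && v.testBit k) ^^ dotR k l v

/-- Combination step of the counting transform. -/
def whJoin : ℕ × List ℕ → ℕ × List ℕ → ℕ × List ℕ
  | (na, la), (nb, lb) => (na + nb, List.zipWith (· + ·) la lb ++ List.zipWith (fun a b => a + (nb - b)) la lb)

/-- The counting transform of a mask. -/
def wh (M : ℕ → Bool) : ℕ → ℕ → ℕ × List ℕ
  | 0, o => (if M o then 1 else 0, [0])
  | k + 1, o => whJoin (wh M k o) (wh M k (o + 2 ^ k))

/-- The map onto the model. -/
def psiD : List ℕ := [395, 2000, 6, 1204, 956, 1248, 144, 1120, 974, 1262, 734]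

/-- Its inverse. -/
def psiE : List ℕ := [1495, 690, 694, 548, 224, 316, 638, 160, 1504, 1054, 962]

theorem psi_table : ((List.range 2048).zip (wh (dm (cand 2)) 11 0).2).all
    (fun p => (p.2 == 352) == Hexa.inDm (lmx psiD p.1)) = true := by
  decide +kernel

theorem psi_inverse : (List.range 2048).all
    (fun n => decide (lmx psiD n < 2048) && decide (lmx psiE n < 2048) && lmx psiD (lmx psiE n) == n &&
      lmx psiE (lmx psiD n) == n) = true := by
  decide +kernel

end CfsgLib.Characterizations.CoType
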