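import Cfsg.Agent.Lib.Characterizations.CoType.Golay.FusionData

/-!
# Groups of Conway type: solving the linear equations for the halves
-/

set_option autoImplicit false
set_option maxRecDepth 100000
set_option maxHeartbeats 4000000

namespace CfsgLib.Characterizations.CoType

theorem bitz_xor (a b i : ℕ) : bitz (a ^^^ b) i = bitz a i + bitz b i := by
  simp only [bitz, Nat.testBit_xor]
  cases a.testBit i <;> cases b.testBit i <;> decide

theorem bitz_zero (i : ℕ) : bitz 0 i = 0 := by simp [bitz]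

/-- The value of a linear form. -/
def mev (X : ℕ → ZMod 2) (m : ℕ) : ZMod 2 := ∑ i ∈ Finset.range 97, bitz m i * X i

theorem mev_xor (X : ℕ → ZMod 2) (a b : ℕ) : mev X (a ^^^ b) = mev X a + mev X b := by
  simp only [mev, bitz_xor, add_mul, Finset.sum_add_distrib]

theorem mev_zero (X : ℕ → ZMod 2) : mev X 0 = 0 := by simp [mev, bitz_zero]

theorem mev_two_pow (X : ℕ → ZMod 2) {i : ℕ} (h : i < 97) : mev X (2 ^ i) = X i := by
  rw [mev, Finset.sum_eq_single i]
  · simp [bitz]
  · intro j _ hj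
    simp [bitz, Ne.symm hj]
  · simp [h]

theorem cast_bit_xor : ∀ a b : Fin 2, a.1 ^^^ b.1 < 2 ∧ (((a.1 ^^^ b.1 : ℕ) : ZMod 2) = (a.1 : ZMod 2) + b.1) := by
  decide

theorem mev_lmx (X : ℕ → ZMod 2) {ms es : List ℕ} (h : List.Forall₂ (fun m (e : ℕ) => e < 2 ∧ mev X m = (e : ZMod 2)) ms es) :
    ∀ v, lmx es v < 2 ∧ mev X (lmx ms v) = (lmx es v : ℕ) := by
  induction h with
  | nil => intro v; simp [lmx, mev_zero]
  | @cons m e ms es hme _ ih =>
    intro v
    obtain ⟨h1, h2⟩ := ih (v / 2)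
    simp only [lmx]
    split
    · obtain ⟨k1, k2⟩ := cast_bit_xor ⟨e, hme.1⟩ ⟨_, h1⟩
      exact ⟨k1, by rw [mev_xor, hme.2, h2]; exact k2.symm⟩
    · simp only [Nat.zero_xor]; exact ⟨h1, h2⟩

/-- The free bits of a number. -/
def freeBits (n : ℕ) : List ℕ := (List.range 8).map fun i => if n.testBit i then 1 else 0

/-- A free mask. -/
def freeMask (m : ℕ) : ℕ := lmx (freeList.map (2 ^ ·)) m

theorem rows_ok : ∀ r ∈ elimRows, r.1 < 64 ∧ (∀ i ∈ r.2.2.2, i < eqList.length) ∧
    (r.2.2.2.map fun i => eqMask (eqList.getD i (0, 0))).foldr (· ^^^ ·) 0 = 2 ^ r.1 ^^^ freeMask r.2.1 ∧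
    (r.2.2.2.map fun i => eqC (eqList.getD i (0, 0))).sum % 2 = r.2.2.1 := by
  decide +kernel

theorem free_facts : (∀ o ∈ freeList, o < 64) ∧ freeList.length = 8 ∧
    (∀ o ∈ ndList, o ∈ freeList ∨ o ∈ elimRows.map (·.1)) := by
  decide +kernel

theorem choice_ok : ∀ n : Fin 256, (choiceTab.getD n.1 (0, 0)).1 < 4 ∧ (choiceTab.getD n.1 (0, 0)).2 < 64 ∧
    (∀ i : Fin 8, (cand (choiceTab.getD n.1 (0, 0)).1 ^^^ linMask (choiceTab.getD n.1 (0, 0)).2).testBit
      (freeList.getD i.1 0) = n.1.testBit i.1) ∧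
    (∀ r ∈ elimRows, bitz (cand (choiceTab.getD n.1 (0, 0)).1 ^^^ linMask (choiceTab.getD n.1 (0, 0)).2) r.1 =
      (r.2.2.1 : ZMod 2) + (lmx (freeBits n.1) r.2.1 : ℕ)) := by
  decide +kernel

theorem bits_surj : ∀ f : Fin 8 → ZMod 2, ∃ n : Fin 256, ∀ i : Fin 8, bitz n.1 i.1 = f i := by
  decide +kernel

/-- The solutions of the equations. -/
theorem h_solve (X : ℕ → ZMod 2) (heq : ∀ q ∈ eqList, mev X (eqMask q) = (eqC q : ℕ)) :
    ∃ i < 4, ∃ l < 64, ∀ o ∈ ndList, X o = bitz (cand i ^^^ linMask l) o := by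
  obtain ⟨hfree, hlen, hcov⟩ := free_facts
  obtain ⟨n, hn⟩ := bits_surj fun i => X (freeList.getD i.1 0)
  obtain ⟨h1, h2, h3, h4⟩ := choice_ok n
  refine ⟨_, h1, _, h2, fun o ho => ?_⟩
  rcases hcov o ho with hf | hf
  · obtain ⟨j, hj, rfl⟩ := List.getElem_of_mem hf
    have e := h3 ⟨j, hlen ▸ hj⟩
    have e' := hn ⟨j, hlen ▸ hj⟩
    rw [← List.getD_eq_getElem freeList 0 hj, ← e']
    simp only [bitz, e]
  · obtain ⟨r, hr, rfl⟩ := List.mem_map.1 hf
    obtain ⟨hp, hidx, hmask, hc⟩ := rows_ok r hr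
    have hsum : ∀ l : List ℕ, (∀ i ∈ l, i < eqList.length) →
        mev X ((l.map fun i => eqMask (eqList.getD i (0, 0))).foldr (· ^^^ ·) 0) =
          (((l.map fun i => eqC (eqList.getD i (0, 0))).sum : ℕ) : ZMod 2) := by
      intro l hl
      induction l with
      | nil => simp [mev_zero]
      | cons i l ih =>
        have hi := hl i List.mem_cons_self
        simp only [List.map_cons, List.foldr_cons, List.sum_cons, mev_xor, Nat.cast_add]
        rw [ih fun j hj => hl j (List.mem_cons_of_mem _ hj), heq _ (by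
          rw [List.getD_eq_getElem _ _ hi]; exact List.getElem_mem hi)]
    have hs := hsum _ hidx
    rw [hmask, mev_xor, mev_two_pow X (by omega : r.1 < 97), ← ZMod.natCast_mod _ 2, hc] at hs
    have hforall : List.Forall₂ (fun m (e : ℕ) => e < 2 ∧ mev X m = (e : ZMod 2)) (freeList.map (2 ^ ·)) (freeBits n.1) := by
      refine List.forall₂_iff_get.2 ⟨by simp [freeBits, hlen], fun j hj hj' => ?_⟩
      have hj8 : j < 8 := by simpa [hlen] using hj
      have := hn ⟨j, hj8⟩
      simp only [freeBits, List.get_eq_getElem, List.getElem_map, List.getElem_range]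
      rw [mev_two_pow X (by have := hfree _ (List.getElem_mem (by simpa using hj)); omega)]
      rw [List.getD_eq_getElem freeList 0 (by simpa using hj)] at this
      rw [← this]
      simp only [bitz]
      cases n.1.testBit j <;> simp
    rw [freeMask, (mev_lmx X hforall r.2.1).2] at hs
    rw [h4 r hr, ← hs, add_assoc, CharTwo.add_self_eq_zero, add_zero]

end CfsgLib.Characterizations.CoType
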