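import Cfsg.Agent.Lib.Characterizations.CoType.Golay.Dual
import Cfsg.Agent.Lib.Characterizations.CoType.Golay.FusionSolve

/-!
# Groups of Conway type: transposes of linear maps on codes preserving the conjugates of `z`
-/

set_option autoImplicit false
set_option maxRecDepth 4000

namespace CfsgLib.Characterizations.CoType

open CfsgLib.Sporadic.LargeFischer

theorem dotR_congr : ∀ (k l v w : ℕ), (∀ i < k, v.testBit i = w.testBit i) → dotR k l v = dotR k l w
  | 0, _, _, _, _ => rfl
  | k + 1, l, v, w, h => by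
      simp only [dotR, h k (Nat.lt_succ_self k), dotR_congr k l v w fun i hi => h i (Nat.lt_succ_of_lt hi)]

theorem dotR_comm : ∀ k l v : ℕ, dotR k l v = dotR k v l
  | 0, _, _ => rfl
  | k + 1, l, v => by simp only [dotR, dotR_comm k l v, Bool.and_comm]

theorem dotR_congr_left (k l l' v : ℕ) (h : ∀ i < k, l.testBit i = l'.testBit i) : dotR k l v = dotR k l' v := by
  rw [dotR_comm k l, dotR_comm k l', dotR_congr k v l l' h]

theorem dotR_xor : ∀ k l a b : ℕ, dotR k l (a ^^^ b) = (dotR k l a ^^ dotR k l b)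
  | 0, _, _, _ => rfl
  | k + 1, l, a, b => by
      simp only [dotR, dotR_xor k, Nat.testBit_xor]
      cases l.testBit k <;> cases a.testBit k <;> cases b.testBit k <;> cases dotR k l a <;> cases dotR k l b <;> rfl

theorem dotR_zero : ∀ k l : ℕ, dotR k l 0 = false
  | 0, _ => rfl
  | k + 1, l => by simp [dotR, dotR_zero k]

theorem dotR_pow : ∀ k l i : ℕ, i < k → dotR k l (2 ^ i) = l.testBit i
  | 0, _, _, h => absurd h (Nat.not_lt_zero _)
  | k + 1, l, i, h => by
      rcases Nat.lt_succ_iff_lt_or_eq.1 h with h' | rfl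
      · simp only [dotR, Nat.testBit_two_pow_of_ne (Nat.ne_of_lt h'), Bool.and_false, Bool.false_xor, dotR_pow k l i h']
      · have : dotR i l (2 ^ i) = dotR i l 0 :=
          dotR_congr i l _ _ fun j hj => by simp [Nat.testBit_two_pow_of_ne (Nat.ne_of_gt hj)]
        simp [dotR, this, dotR_zero]

/-- The number with prescribed bits. -/
def ofB : ℕ → (ℕ → Bool) → ℕ
  | 0, _ => 0
  | k + 1, b => (if b k then 2 ^ k else 0) ^^^ ofB k b

theorem ofB_lt : ∀ (k : ℕ) (b : ℕ → Bool), ofB k b < 2 ^ k
  | 0, _ => by simp [ofB]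
  | k + 1, b => by
      simp only [ofB]
      refine Nat.xor_lt_two_pow ?_ ((ofB_lt k b).trans (Nat.pow_lt_pow_succ (by norm_num)))
      split
      · exact Nat.pow_lt_pow_succ (by norm_num)
      · positivity

theorem ofB_bit : ∀ (k : ℕ) (b : ℕ → Bool) (i : ℕ), i < k → (ofB k b).testBit i = b i
  | 0, _, _, h => absurd h (Nat.not_lt_zero _)
  | k + 1, b, i, h => by
      simp only [ofB, Nat.testBit_xor]
      rcases Nat.lt_succ_iff_lt_or_eq.1 h with h' | rfl
      · rw [ofB_bit k b i h']
        split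
        · simp [Nat.testBit_two_pow_of_ne (Nat.ne_of_gt h')]
        · simp
      · rw [Nat.testBit_lt_two_pow (ofB_lt i b)]
        cases b i <;> simp

theorem eq_of_low {a b : ℕ} (ha : a < 2 ^ 11) (hb : b < 2 ^ 11) (h : ∀ i < 11, a.testBit i = b.testBit i) : a = b :=
  Nat.eq_of_testBit_eq fun i => by
    by_cases hi : i < 11
    · exact h i hi
    · rw [Nat.testBit_lt_two_pow (ha.trans_le (Nat.pow_le_pow_right (by norm_num) (by omega))),
        Nat.testBit_lt_two_pow (hb.trans_le (Nat.pow_le_pow_right (by norm_num) (by omega)))]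

theorem span_bits : ∀ v : Fin 2048, lmx ((List.range 11).map fun j => 2 ^ j) v.1 = v.1 := by decide +kernel

theorem ext_bits {g h : ℕ → Bool} (h0 : g 0 = h 0)
    (hg : ∀ a b, a < 2048 → b < 2048 → g (a ^^^ b) = (g a ^^ g b))
    (hh : ∀ a b, a < 2048 → b < 2048 → h (a ^^^ b) = (h a ^^ h b))
    (hb : ∀ i < 11, g (2 ^ i) = h (2 ^ i)) : ∀ v < 2048, g v = h v := by
  have key : ∀ l : List ℕ, (∀ m ∈ l, m < 2048 ∧ g m = h m) → ∀ n, lmx l n < 2048 ∧ g (lmx l n) = h (lmx l n) := by
    intro l
    induction l with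
    | nil => intro _ n; simp [lmx, h0]
    | cons m l ih =>
      intro hl n
      obtain ⟨h1, h2⟩ := ih (fun x hx => hl x (List.mem_cons_of_mem _ hx)) (n / 2)
      obtain ⟨k1, k2⟩ := hl m List.mem_cons_self
      simp only [lmx]
      split
      · exact ⟨Nat.xor_lt_two_pow (n := 11) k1 h1, by rw [hg _ _ k1 h1, hh _ _ k1 h1, k2, h2]⟩
      · simp only [Nat.zero_xor]; exact ⟨h1, h2⟩
  intro v hv
  rw [show v = lmx ((List.range 11).map fun j => 2 ^ j) v from (span_bits ⟨v, hv⟩).symm]
  refine (key _ (fun m hm => ?_) v).2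
  obtain ⟨i, hi, rfl⟩ := List.mem_map.1 hm
  have hi' := List.mem_range.1 hi
  exact ⟨by simpa using Nat.pow_lt_pow_right (show 1 < 2 by norm_num) hi', hb i hi'⟩

/-- The transpose. -/
def fstar (f : ℕ → ℕ) (l : ℕ) : ℕ := ofB 11 fun i => dotR 11 l (f (2 ^ i))

theorem fstar_lt (f : ℕ → ℕ) (l : ℕ) : fstar f l < 2048 := ofB_lt 11 _

/-- A linear map of the codes. -/
structure Lin (f : ℕ → ℕ) : Prop where
  lt : ∀ v < 2048, f v < 2048
  add : ∀ a b, a < 2048 → b < 2048 → f (a ^^^ b) = f a ^^^ f b

theorem Lin.zero {f : ℕ → ℕ} (h : Lin f) : f 0 = 0 := by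
  have := h.add 0 0 (by norm_num) (by norm_num)
  rwa [Nat.xor_self, Nat.xor_self] at this

theorem fstar_dot {f : ℕ → ℕ} (h : Lin f) (l : ℕ) : ∀ v < 2048, dotR 11 (fstar f l) v = dotR 11 l (f v) := by
  refine ext_bits (by rw [h.zero, dotR_zero, dotR_zero]) (fun a b _ _ => dotR_xor 11 _ a b)
    (fun a b ha hb => by rw [h.add a b ha hb, dotR_xor]) fun i hi => ?_
  rw [dotR_pow 11 _ i hi, fstar, ofB_bit 11 _ i hi]

theorem fstar_xor (f : ℕ → ℕ) (a b : ℕ) : fstar f (a ^^^ b) = fstar f a ^^^ fstar f b := by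
  refine eq_of_low (fstar_lt _ _) (Nat.xor_lt_two_pow (fstar_lt _ _) (fstar_lt _ _)) fun i hi => ?_
  rw [Nat.testBit_xor, fstar, fstar, fstar, ofB_bit 11 _ i hi, ofB_bit 11 _ i hi, ofB_bit 11 _ i hi,
    dotR_comm 11 (a ^^^ b), dotR_xor, dotR_comm 11 _ a, dotR_comm 11 _ b]

theorem fstar_comp {a b c : ℕ → ℕ} (ha : Lin a) (hb : Lin b) (hc : ∀ v < 2048, c v = a (b v)) (l : ℕ) :
    fstar c l = fstar b (fstar a l) := by
  refine eq_of_low (fstar_lt _ _) (fstar_lt _ _) fun i hi => ?_
  have hp : 2 ^ i < 2048 := by simpa using Nat.pow_lt_pow_right (show 1 < 2 by norm_num) hi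
  rw [fstar, ofB_bit 11 _ i hi, fstar, ofB_bit 11 _ i hi, hc _ hp, fstar_dot ha _ _ (hb.lt _ hp)]

theorem fstar_id {f : ℕ → ℕ} (hf : ∀ v < 2048, f v = v) {l : ℕ} (hl : l < 2048) : fstar f l = l := by
  refine eq_of_low (fstar_lt _ _) hl fun i hi => ?_
  rw [fstar, ofB_bit 11 _ i hi, hf _ (by simpa using Nat.pow_lt_pow_right (show 1 < 2 by norm_num) hi),
    dotR_pow 11 _ i hi]

theorem fstar_faithful {f : ℕ → ℕ} (h : Lin f) (hs : ∀ l < 2048, fstar f l = l) : ∀ v < 2048, f v = v := by
  intro v hv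
  refine eq_of_low (h.lt v hv) hv fun i hi => ?_
  have hp : 2 ^ i < 2048 := by simpa using Nat.pow_lt_pow_right (show 1 < 2 by norm_num) hi
  have e := fstar_dot h (2 ^ i) v hv
  rw [hs _ hp, dotR_comm 11 _ v, dotR_comm 11 _ (f v), dotR_pow 11 v i hi, dotR_pow 11 (f v) i hi] at e
  exact e.symm

/-! ### The counting transform -/

/-- The number of members meeting a form. -/
def cntD (M : ℕ → Bool) (k o l : ℕ) : ℕ := ((Finset.range (2 ^ k)).filter fun v => M (o + v) && dotR k l v).card

theorem cntD_le (M : ℕ → Bool) (k o l : ℕ) :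
    cntD M k o l ≤ ((Finset.range (2 ^ k)).filter fun v => M (o + v)).card :=
  Finset.card_le_card fun v hv => by
    simp only [Finset.mem_filter, Bool.and_eq_true] at hv ⊢
    exact ⟨hv.1, hv.2.1⟩

theorem wh_spec (M : ℕ → Bool) : ∀ k o, (wh M k o).1 = ((Finset.range (2 ^ k)).filter fun v => M (o + v)).card ∧
    (wh M k o).2 = (List.range (2 ^ k)).map (cntD M k o)
  | 0, o => by
      refine ⟨?_, ?_⟩
      · simp only [wh, pow_zero, Finset.range_one, Finset.filter_singleton, add_zero]
        split <;> simp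
      · simp [wh, cntD, dotR]
  | k + 1, o => by
      obtain ⟨h1, h2⟩ := wh_spec M k o
      obtain ⟨h3, h4⟩ := wh_spec M k (o + 2 ^ k)
      have hpow : 2 ^ (k + 1) = 2 ^ k + 2 ^ k := by rw [pow_succ]; ring
      have hsum : ∀ (R : ℕ → Bool), ((Finset.range (2 ^ (k + 1))).filter fun v => R v).card =
          ((Finset.range (2 ^ k)).filter fun v => R v).card +
            ((Finset.range (2 ^ k)).filter fun v => R (2 ^ k + v)).card := by
        intro R
        simp only [Finset.card_filter, hpow, Finset.sum_range_add]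
      refine ⟨?_, ?_⟩
      · simp only [wh, whJoin, h1, h3, hsum fun v => M (o + v), add_assoc]
      simp only [wh, whJoin, h2, h4, h3, List.zipWith_map, List.zipWith_self, hpow, List.range_add, List.map_append,
        List.map_map]
      have hlow : ∀ l v : ℕ, v < 2 ^ k → dotR (k + 1) l v = dotR k l v ∧
          dotR (k + 1) l (2 ^ k + v) = (l.testBit k ^^ dotR k l v) := by
        intro l v hv
        have e : 2 ^ k + v = 2 ^ k ^^^ v := (CfsgLib.SmallGroups.Golay.two_pow_xor hv).symm
        have hz : dotR k l (2 ^ k) = false := by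
          rw [dotR_congr k l _ 0 fun j hj => by simp [Nat.testBit_two_pow_of_ne (Nat.ne_of_gt hj)], dotR_zero]
        constructor
        · simp [dotR, Nat.testBit_lt_two_pow hv]
        · rw [e]
          simp [dotR, dotR_xor, Nat.testBit_xor, Nat.testBit_lt_two_pow hv, hz]
      congr 1
      · refine List.map_congr_left fun l hl => ?_
        have hl' := List.mem_range.1 hl
        simp only [cntD, hsum fun v => M (o + v) && dotR (k + 1) l v, ← add_assoc]
        congr 1 <;> refine congrArg Finset.card (Finset.filter_congr fun v hv => ?_)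
        · rw [(hlow l v (Finset.mem_range.1 hv)).1]
        · rw [(hlow l v (Finset.mem_range.1 hv)).2, Nat.testBit_lt_two_pow hl', Bool.false_xor]
      · refine List.map_congr_left fun l hl => ?_
        have hl' := List.mem_range.1 hl
        have e : 2 ^ k + l = 2 ^ k ^^^ l := (CfsgLib.SmallGroups.Golay.two_pow_xor hl').symm
        have hbit : (2 ^ k + l).testBit k = true := by
          rw [e, Nat.testBit_xor, Nat.testBit_two_pow_self, Nat.testBit_lt_two_pow hl']; rfl
        have hlowl : ∀ v, dotR k (2 ^ k + l) v = dotR k l v := fun v => dotR_congr_left k _ _ v fun j hj => by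
          rw [e, Nat.testBit_xor, Nat.testBit_two_pow_of_ne (Nat.ne_of_gt hj), Bool.false_xor]
        simp only [Function.comp, cntD, hsum fun v => M (o + v) && dotR (k + 1) (2 ^ k + l) v, ← add_assoc]
        congr 1
        · refine congrArg Finset.card (Finset.filter_congr fun v hv => ?_)
          rw [(hlow _ v (Finset.mem_range.1 hv)).1, hlowl]
        · have hsplit := Finset.card_filter_add_card_filter_not
            (s := (Finset.range (2 ^ k)).filter fun v => M (o + 2 ^ k + v)) (fun v => dotR k l v = true)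
          simp only [Finset.filter_filter] at hsplit
          simp only [Bool.and_eq_true] at hsplit ⊢
          have hA : ((Finset.range (2 ^ k)).filter fun v => M (o + 2 ^ k + v) = true ∧
              dotR (k + 1) (2 ^ k + l) (2 ^ k + v) = true) =
              (Finset.range (2 ^ k)).filter fun v => M (o + 2 ^ k + v) = true ∧ ¬ dotR k l v = true :=
            Finset.filter_congr fun v hv => by
              rw [(hlow _ v (Finset.mem_range.1 hv)).2, hbit, hlowl]
              cases dotR k l v <;> simp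
          rw [hA]
          omega

theorem cnt_iff {l : ℕ} (hl : l < 2048) :
    Hexa.inDm (lmx psiD l) = true ↔ cntD (dm (cand 2)) 11 0 l = 352 := by
  have h := List.all_eq_true.1 psi_table (l, cntD (dm (cand 2)) 11 0 l) (by
    rw [(wh_spec _ 11 0).2, List.zip_map_right]
    exact List.mem_map.2 ⟨(l, l), by
      rw [List.mem_iff_getElem]
      exact ⟨l, by simpa using hl, by simp⟩, rfl⟩)
  simp only [beq_iff_eq] at h
  rw [← h]
  simp

/-- Transposes of maps preserving the conjugates of `z` preserve the forms of weight `352`. -/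
theorem cnt_fstar {f : ℕ → ℕ} (h : Lin f) (hinj : ∀ a b, a < 2048 → b < 2048 → f a = f b → a = b)
    (hD : ∀ v < 2048, dm (cand 2) (f v) = dm (cand 2) v) (l : ℕ) :
    cntD (dm (cand 2)) 11 0 (fstar f l) = cntD (dm (cand 2)) 11 0 l := by
  let φ : Fin 2048 → Fin 2048 := fun v => ⟨f v.1, h.lt _ v.2⟩
  have hφ : Function.Injective φ := fun v w e => Fin.ext (hinj _ _ v.2 w.2 (congrArg Fin.val e))
  refine Finset.card_bij (fun v _ => f v) (fun v hv => ?_) (fun v hv w hw e => ?_) fun w hw => ?_
  · simp only [Finset.mem_filter, Finset.mem_range, Nat.zero_add, Bool.and_eq_true] at hv ⊢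
    exact ⟨h.lt v hv.1, (hD v hv.1).trans hv.2.1, (fstar_dot h l v hv.1).symm.trans hv.2.2⟩
  · simp only [Finset.mem_filter, Finset.mem_range] at hv hw
    exact hinj _ _ hv.1 hw.1 e
  · simp only [Finset.mem_filter, Finset.mem_range, Nat.zero_add, Bool.and_eq_true] at hw ⊢
    obtain ⟨v, hv⟩ := Finite.injective_iff_surjective.1 hφ ⟨w, hw.1⟩
    have hv' : f v.1 = w := congrArg Fin.val hv
    exact ⟨v.1, ⟨v.2, by rw [← hD _ v.2, hv']; exact hw.2.1, by rw [fstar_dot h l _ v.2, hv']; exact hw.2.2⟩, hv'⟩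

end CfsgLib.Characterizations.CoType
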