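import Cfsg.Agent.Lib.Characterizations.CoType.Golay.Lambda

/-!
# Groups of Conway type: normalising the family

Composing the coordinates with an odd isometry exchanges the two families.
-/

set_option autoImplicit false
set_option linter.style.haveILetI false
set_option linter.unusedSectionVars false
set_option maxRecDepth 4000

namespace CfsgLib.Characterizations.CoType

open CfsgLib.ThreeTransp.Extraspecial Co

variable {G : Type*} [Group G] [Finite G] {z : G} {Q : Subgroup G} {π : G → V}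

/-- The transposition of the points `4` and `6`. -/
def tw : Equiv.Perm (Fin 8) := Equiv.swap 4 6

/-- The exchange of the last two coordinates. -/
def swR (r : R4) : R4 := ![r 0, r 1, r 3, r 2]

set_option maxRecDepth 100000 in
theorem tw_facts : (∀ v, M tw 0 (M tw 0 v) = v) ∧ (∀ v, q (M tw 0 v) = q v) ∧ M tw 0 (P φA) = P φA ∧
    M tw 0 y0 = y0 ∧ M tw 0 y1 7 = 0 ∧ dot (co (M tw 0 y1)) φA = 1 ∧
    (∀ m, Ev m → proj (pm tw m) = swR (proj m)) ∧ swR lI = lI' ∧ swR lJ = lJ' ∧ swR lI' = lI ∧ swR lJ' = lJ := by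
  decide +kernel

theorem swR_add (r s : R4) : swR (r + s) = swR r + swR s := by
  funext i; fin_cases i <;> rfl

theorem swR_swR (r : R4) : swR (swR r) = r := by
  funext i; fin_cases i <;> rfl

theorem dR_swR (r s : R4) : dR (swR r) (swR s) = dR r s := by simp [dR, swR]; ring

namespace Co

/-- The configuration with the pairing vanishing on the first line and not on the second. -/
structure Gd (S : Co z Q π) (u g u₁ c₁ a : G) (L : R4 → R4 → ZMod 2) : Prop where
  p : S.Pair u g
  d : S.Duo u g u₁ c₁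
  axis : Pair.Axis S g c₁ a
  pairing : ∀ e f, Pair.InE S g u c₁ e → Pair.InF S g u₁ f →
    e * f * e⁻¹ = zp z (L (Pair.mu S f) (Pair.nu S e)) * zp a (dR (Pair.mu S f) (Pair.nu S e)) * f
  add_left : ∀ r r' s, L (r + r') s = L r s + L r' s
  add_right : ∀ r s s', L r (s + s') = L r s + L r s'
  good : L lI lI = 0 ∧ L lI lJ = 0 ∧ L lJ lI = 0 ∧ L lJ lJ = 0
  bad : ¬ (L lI' lI' = 0 ∧ L lI' lJ' = 0 ∧ L lJ' lI' = 0 ∧ L lJ' lJ' = 0)

theorem exists_gd (S : Co z Q π) :
    ∃ (π' : G → V) (S' : Co z Q π') (u g u₁ c₁ a : G) (L : R4 → R4 → ZMod 2), S'.Gd u g u₁ c₁ a L := by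
  obtain ⟨u, g, p⟩ := S.exists_pair
  obtain ⟨u₁, c₁, d⟩ := p.exists_duo
  obtain ⟨a, hA⟩ := p.exists_axis' d
  obtain ⟨L, hL, hl, hr, ⟨k1, k2, k3, k4, k5⟩ | ⟨k1, k2, k3, k4, k5⟩⟩ := p.dichotomy d hA
  · exact ⟨π, S, u, g, u₁, c₁, a, L, p, d, hA, hL, hl, hr, ⟨k1, k2, k3, k4⟩, k5⟩
  -- twist the coordinates
  obtain ⟨t1, t2, t3, t4, t5, t6, t7, t8, t9, t10, t11⟩ := tw_facts
  let π' : G → V := fun x => M tw 0 (π x)
  have hinj : Function.Injective (M tw 0) := Function.LeftInverse.injective t1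
  have hz0 : ∀ v, M tw 0 v = 0 ↔ v = 0 := fun v =>
    ⟨fun e => hinj (e.trans (Iso.map_zero ⟨M_add tw 0, t2, hinj⟩).symm),
      fun e => by rw [e]; exact Iso.map_zero ⟨M_add tw 0, t2, hinj⟩⟩
  have S' : Co z Q π' :=
    { extra := S.extra
      norm := S.norm
      cent_le := S.cent_le
      card_cent := S.card_cent
      π_mul := fun x hx y hy => by
        show M tw 0 (π (x * y)) = _
        rw [S.π_mul x hx y hy, M_add]
      π_surj := fun v => by
        obtain ⟨x, hx, e⟩ := S.π_surj (M tw 0 v)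
        exact ⟨x, hx, by show M tw 0 (π x) = v; rw [e, t1]⟩
      π_ker := fun x hx => by
        show M tw 0 (π x) = 0 ↔ _
        rw [hz0, S.π_ker x hx]
      q_iff := fun x hx => by
        show q (M tw 0 (π x)) = 0 ↔ _
        rw [t2, S.q_iff x hx]
      act_id := fun c hc h => S.act_id c hc fun x hx => hinj (h x hx)
      fused := S.fused
      into := S.into }
  have hu' : π' u = u0 := by show M tw 0 (π u) = u0; rw [p.π_u, M_u0]
  have p' : S'.Pair u g := ⟨p.u_mem, hu', p.conj, p.w_mem, by show M tw 0 (π _) = u0; rw [p.π_w, M_u0]⟩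
  have d' : S'.Duo u g u₁ c₁ := ⟨d.cz, d.conj, by show M tw 0 (π u₁) = P φA; rw [d.π_u₁, t3]⟩
  have hact : ∀ c, c * z = z * c → ∀ v, S'.act c (M tw 0 v) = M tw 0 (S.act c v) := fun c hc v => by
    obtain ⟨x, hx, rfl⟩ := S.π_surj v
    show S'.act c (π' x) = _
    rw [S'.act_π hc hx, S.act_π hc hx]
  have hpm : ∀ v, co (M tw 0 v) = pm tw (co v) := fun v => by
    rw [(co_M ev_zero tw v).1, smul_zero, add_zero]
  have hA' : Pair.Axis S' g c₁ a := by
    refine ⟨hA.mem, hA.mem', fun v => ?_, hA.sq⟩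
    conv_lhs => rw [← t1 v]
    rw [hact a (p.sie_comm hA.mem).1, hA.form]
    have hφ := std_A.1
    have i1 : Iso (M tw 0) := ⟨M_add tw 0, t2, hinj⟩
    have i2 : Iso (M 1 φA) := by
      have h := S.act_iso (p.sie_comm hA.mem).1
      rwa [show S.act a = M 1 φA from funext hA.form] at h
    rw [form_comp i2 i1 hφ ev_zero (fun _ => rfl) (fun _ => rfl) v,
      form_comp i1 (show Iso (M (1 * tw) (pm 1 0 + φA)) by
        have : (M 1 φA ∘ M tw 0) = M (1 * tw) (pm 1 0 + φA) :=
          funext fun w => form_comp i2 i1 hφ ev_zero (fun _ => rfl) (fun _ => rfl) w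
        rw [← this]; exact i2.comp i1) ev_zero (ev_add (ev_pm ev_zero _) hφ) (fun _ => rfl) (fun _ => rfl) v]
    congr 1
    · decide +kernel
    · decide +kernel
  have hmu : ∀ f, f ∈ S.sie g → Pair.mu S' f = swR (Pair.mu S f) := fun f hf => by
    have hfz := (p.sie_comm hf).1
    rw [Pair.mu, Pair.mu]
    conv_lhs => rw [← t4, hact f hfz, ← M_add, hpm]
    rw [t7 _ (ev_co _)]
  have hnu : ∀ e, Pair.InE S g u c₁ e → Pair.nu S' e = swR (Pair.nu S e) := fun e he => by
    have hez := (p.inE_cz d he).1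
    obtain ⟨-, -, -, hline, -⟩ := p.inE_action d he
    have hI := S.act_iso hez
    rw [Pair.nu, Pair.nu]
    conv_lhs => rw [← t1 y1, hact e hez, ← M_add, hpm]
    rw [t7 _ (ev_co _)]
    congr 1
    set v := M tw 0 y1 + y1
    have hv : B v (P φA) = 0 := by
      rw [B_add_left, perp_polar t5 aA_facts.1, aA_facts.2.1, t6, y1_facts.2, CharTwo.add_self_eq_zero]
    have e1 : M tw 0 y1 = y1 + v := by rw [add_left_comm, add_self_V, add_zero]
    rw [e1, hI.add, show S.act e y1 + S.act e v + (y1 + v) = (S.act e y1 + y1) + (S.act e v + v) by abel,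
      hline v hv, co_add, proj_add]
    rcases two_cases (B v (S.act e y1 + y1)) with r | r <;> rw [r]
    · rw [zero_smul, co_zero, show proj 0 = 0 from by decide, add_zero]
    · rw [one_smul, aA_facts.2.1, proj_φA, add_zero]
  refine ⟨π', S', u, g, u₁, c₁, a, fun r s => L (swR r) (swR s), p', d', hA', fun e f he hf => ?_,
    fun r r' s => by simp only [swR_add, hl], fun r s s' => by simp only [swR_add, hr], ?_, ?_⟩
  · rw [hmu f hf.1, hnu e he, swR_swR, swR_swR, dR_swR]
    exact hL e f he hf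
  · simp only [t8, t9]; exact ⟨k1, k2, k3, k4⟩
  · simp only [t10, t11]; exact k5

end Co

end CfsgLib.Characterizations.CoType
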