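import Cfsg.Agent.Lib.Characterizations.CoType.Golay.AbelianData
import Cfsg.Agent.Lib.Characterizations.CoType.Golay.Twist

/-!
# Groups of Conway type: the other maximal singular subspace through two points
-/

set_option autoImplicit false
set_option maxRecDepth 100000
set_option maxHeartbeats 4000000
set_option synthInstance.maxSize 8192
set_option synthInstance.maxHeartbeats 1000000

namespace CfsgLib.Characterizations.CoType

attribute [local instance 10000] List.decidableBAll List.decidableBEx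

/-- The code of the second family. -/
def coW' : List W8 :=
  [0, φA, iota lI', iota lJ', φA + iota lI', φA + iota lJ', iota lI' + iota lJ', φA + iota lI' + iota lJ']

/-- The second maximal singular subspace. -/
def InW' (v : V) : Prop := v 7 = 0 ∧ co v ∈ coW'

instance : DecidablePred InW' := fun _ => inferInstanceAs (Decidable (_ ∧ _))

/-- Permutations fixing `φA` moving the lines. -/
def lineTaus : List (Equiv.Perm (Fin 8)) :=
  [1, Equiv.swap 5 6 * Equiv.swap 6 7, Equiv.swap 5 7 * Equiv.swap 7 6]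

theorem inW'_facts : (∀ v : V, InW (M tw 0 v) ↔ InW' v) ∧
    (∀ v : V, InW' v → dot (co v) φA = 0 ∧ dR (proj (co v)) lI' = 0 ∧ dR (proj (co v)) lJ' = 0) ∧
    (Finset.univ.filter InW').card = 16 ∧ dR lI' lI' = 0 ∧ dR lI' lJ' = 0 ∧ dR lJ' lI' = 0 ∧ dR lJ' lJ' = 0 := by
  decide +kernel

theorem lineTaus_facts : ∀ τ ∈ lineTaus, Equiv.Perm.sign τ = 1 ∧ pm τ φA = φA := by decide +kernel

/-- A pair of orthogonal singular parameters reaches one of the two codes. -/
theorem line_cases : ∀ r s : R4, qR r = 0 → qR s = 0 → dR r s = 0 → r ≠ 0 → s ≠ 0 → r ≠ s → ∃ τ ∈ lineTaus,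
    (∀ m : W8, Ev m → dot m φA = 0 → dR (proj m) r = 0 → dR (proj m) s = 0 → pm τ m ∈ coW) ∨
    (∀ m : W8, Ev m → dot m φA = 0 → dR (proj m) r = 0 → dR (proj m) s = 0 → pm τ m ∈ coW') := by
  decide +kernel

theorem line_params : Ev (iota lI) ∧ Ev (iota lJ) ∧ iota lI ∈ coW ∧ iota lJ ∈ coW ∧ iota lI + iota lJ ∈ coW ∧
    ∀ k : ZMod 2, iota lI ≠ k • φA ∧ iota lJ ≠ k • φA ∧ iota lI + iota lJ ≠ k • φA := by
  decide +kernel

theorem coW_count : coW.length = 8 := rfl

end CfsgLib.Characterizations.CoType
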