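import Cfsg.Agent.Lib.Characterizations.CoType.Golay.Abelian
import Cfsg.Agent.Lib.Characterizations.CoType.Golay.FlipData

/-!
# Groups of Conway type: an element normalising the subgroup of order `2¹¹` and moving `z` to `u`
-/

set_option autoImplicit false
set_option linter.style.haveILetI false
set_option linter.unusedSectionVars false
set_option maxRecDepth 4000

namespace CfsgLib.Characterizations.CoType

open CfsgLib.ThreeTransp.Extraspecial

variable {G : Type*} [Group G] [Finite G] {z : G} {Q : Subgroup G} {π : G → V}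

namespace Co

variable (S : Co z Q π)

include S in
/-- The coordinates composed with an odd isometry. -/
theorem twist : Co z Q (fun x => M tw 0 (π x)) := by
  obtain ⟨t1, t2, -⟩ := tw_facts
  have hinj : Function.Injective (M tw 0) := Function.LeftInverse.injective t1
  have hz0 : ∀ v, M tw 0 v = 0 ↔ v = 0 := fun v =>
    ⟨fun e => hinj (e.trans (Iso.map_zero ⟨M_add tw 0, t2, hinj⟩).symm),
      fun e => by rw [e]; exact Iso.map_zero ⟨M_add tw 0, t2, hinj⟩⟩
  exact
    { extra := S.extra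
      norm := S.norm
      cent_le := S.cent_le
      card_cent := S.card_cent
      π_mul := fun x hx y hy => by rw [S.π_mul x hx y hy, M_add]
      π_surj := fun v => by
        obtain ⟨x, hx, e⟩ := S.π_surj (M tw 0 v)
        exact ⟨x, hx, by rw [e, t1]⟩
      π_ker := fun x hx => by rw [hz0, S.π_ker x hx]
      q_iff := fun x hx => by rw [t2, S.q_iff x hx]
      act_id := fun c hc h => S.act_id c hc fun x hx => hinj (h x hx)
      fused := S.fused
      into := S.into }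

/-- The bound on the centraliser of a maximal elementary abelian subgroup of `Q`. -/
theorem card_asub_le : Nat.card ↥S.asub ≤ 2048 := by
  classical
  choose t ψ hψ hf using fun c : ↥S.asub => S.exists_form_asub c.2
  let key : ↥S.asub → Fin 8 × {m : W8 // m ∈ coW} := fun c => (t c, ⟨ψ c, hψ c⟩)
  let rep : Fin 8 × {m : W8 // m ∈ coW} → ↥S.asub := fun k => if h : ∃ c, key c = k then h.choose else 1
  have hrep : ∀ c, key (rep (key c)) = key c := fun c => by
    have h : ∃ d, key d = key c := ⟨c, rfl⟩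
    simp only [rep, dif_pos h]
    exact h.choose_spec
  have hmem : ∀ c : ↥S.asub, ((c * (rep (key c))⁻¹ : ↥S.asub) : G) ∈ S.xsub := fun c => by
    set d := rep (key c) with hd
    obtain ⟨e1, e2⟩ := Prod.ext_iff.1 (hrep c)
    have e2' : ψ d = ψ c := congrArg Subtype.val e2
    have h := Form.mul S c.2 (inv_mem d.2) (hψ c) (hψ d) (hf c) (Form.inv S d.2 (hψ d) (hf d))
    rw [show t d = t c from e1, e2', (trFun_laws (t c)).1, add_self_W] at h
    exact Form.mem_xsub S (mul_mem c.2 (inv_mem d.2)) h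
  let Φ : ↥S.asub → ↥S.xsub × (Fin 8 × {m : W8 // m ∈ coW}) := fun c => (⟨_, hmem c⟩, key c)
  have hinj : Function.Injective Φ := fun c c' e => by
    obtain ⟨e1, e2⟩ := Prod.ext_iff.1 e
    have e3 : c * (rep (key c))⁻¹ = c' * (rep (key c'))⁻¹ :=
      Subtype.ext (congrArg (fun w : ↥S.xsub => (w : G)) e1)
    rw [show key c = key c' from e2] at e3
    exact mul_right_cancel e3
  have h := Nat.card_le_card_of_injective Φ hinj
  rw [Nat.card_prod, Nat.card_prod, S.card_xsub, Nat.card_fin] at h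
  have h8 : Nat.card {m : W8 // m ∈ coW} = 8 := by
    rw [Nat.card_eq_fintype_card, Fintype.card_subtype]; decide +kernel
  rw [h8] at h
  exact h

/-- The preimage of the second subspace. -/
def xsub' (S : Co z Q π) : Subgroup G := (twist S).xsub

theorem mem_xsub' {x : G} : x ∈ S.xsub' ↔ x ∈ Q ∧ InW' (π x) := and_congr_right fun _ => inW'_facts.1 _

namespace Gd

variable {S} {u g u₁ c₁ a : G} {L : R4 → R4 → ZMod 2} (D : S.Gd u g u₁ c₁ a L)
include D

/-- Two non-commuting elements centralising the second subgroup. -/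
theorem exists_noncomm : ∃ e ∈ Subgroup.centralizer (S.xsub' : Set G),
    ∃ f ∈ Subgroup.centralizer (S.xsub' : Set G), e * f ≠ f * e := by
  obtain ⟨-, hperp, -, d1, d2, d3, d4⟩ := inW'_facts
  obtain ⟨r, s, hr, hs, hL⟩ : ∃ r s, (r = lI' ∨ r = lJ') ∧ (s = lI' ∨ s = lJ') ∧ L r s = 1 := by
    by_contra h
    push Not at h
    have h0 : ∀ r s, (r = lI' ∨ r = lJ') → (s = lI' ∨ s = lJ') → L r s = 0 := fun r s hr hs =>
      (two_cases _).resolve_right (h r s hr hs)
    exact D.bad ⟨h0 _ _ (Or.inl rfl) (Or.inl rfl), h0 _ _ (Or.inl rfl) (Or.inr rfl),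
      h0 _ _ (Or.inr rfl) (Or.inl rfl), h0 _ _ (Or.inr rfl) (Or.inr rfl)⟩
  have hd : dR r s = 0 := by rcases hr with rfl | rfl <;> rcases hs with rfl | rfl <;> assumption
  obtain ⟨f, hf, hμ⟩ := D.p.exists_inF D.d r
  obtain ⟨e, he, hν⟩ := D.p.exists_inE D.d s
  have hzero : ∀ x ∈ S.xsub', x ∈ Q ∧ π x 7 = 0 ∧ dot (co (π x)) φA = 0 ∧
      ∀ t, (t = lI' ∨ t = lJ') → dR (proj (co (π x))) t = 0 := fun x hx => by
    obtain ⟨hxQ, hw⟩ := S.mem_xsub'.1 hx
    obtain ⟨k1, k2, k3⟩ := hperp _ hw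
    exact ⟨hxQ, hw.1, k1, fun t ht => by rcases ht with rfl | rfl <;> assumption⟩
  refine ⟨e, Subgroup.mem_centralizer_iff.2 fun x hx => ?_, f, Subgroup.mem_centralizer_iff.2 fun x hx => ?_,
    fun hc => ?_⟩
  · obtain ⟨hxQ, h7, hA, ht⟩ := hzero x hx
    refine (mul_inv_eq_iff_eq_mul.1 ?_).symm
    rw [D.p.inE_pair D.d he hxQ h7 hA, hν, ht s hs, zp_zero, zp_zero, one_mul, mul_one]
  · obtain ⟨hxQ, h7, hA, ht⟩ := hzero x hx
    refine (mul_inv_eq_iff_eq_mul.1 ?_).symm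
    rw [D.p.inF_pair D.d hf hxQ h7 hA, hμ, ht r hr, zp_zero, zp_zero, one_mul, mul_one]
  · have h := D.pairing e f he hf
    rw [hμ, hν, hL, hd, zp_one, zp_zero, mul_one, hc, mul_inv_cancel_right] at h
    exact S.extra.z_ne (mul_eq_right.1 h.symm)

theorem mu_iota {f : G} (hf : f ∈ S.sie g) {φ : W8} (hφ : Ev φ) (hff : ∀ v, S.act f v = M 1 φ v) :
    Pair.mu S f = proj φ := by
  rw [Pair.mu, hff, (y0_move φ hφ).1]

/-- The flip. -/
theorem exists_flip : ∃ n ∈ Subgroup.normalizer (S.asub : Set G), n * z * n⁻¹ = u ∧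
    n⁻¹ * a * n ∈ S.xsub ∧ n⁻¹ * (z * a) * n ∈ S.xsub := by
  classical
  set X1 := S.asub ⊓ S.sie g with hX1
  set w := g⁻¹ * z * g with hw
  have haA : a ∈ S.asub := D.sie_asub D.axis.mem (by decide +kernel) D.axis.form
  obtain ⟨-, -, -, -, haz, -, haQ⟩ := D.p.axis_params D.d D.axis
  have haX : a ∈ X1 := Subgroup.mem_inf.2 ⟨haA, D.axis.mem⟩
  have hzX : z ∈ X1 := Subgroup.mem_inf.2 ⟨D.z_asub, D.p.z_sie⟩
  have huX : u ∈ X1 := Subgroup.mem_inf.2 ⟨S.xsub_le_asub D.u_xsub, D.p.u_sie⟩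
  have hgu : g⁻¹ * u * g = z := by rw [← D.p.conj]; group
  set y := g⁻¹ * a * g with hy
  have hyQ : y ∈ Q := (mem_sie.1 D.axis.mem).2
  have hyy : y * y = 1 := by
    rw [hy, show g⁻¹ * a * g * (g⁻¹ * a * g) = g⁻¹ * (a * a) * g by group, D.axis.sq]; group
  have hww : w * w = 1 := by
    rw [hw, show g⁻¹ * z * g * (g⁻¹ * z * g) = g⁻¹ * (z * z) * g by group, S.extra.z_sq]; group
  have back : ∀ {t : G}, g⁻¹ * a * g = t → a = g * t * g⁻¹ := fun e => by rw [← e]; group
  have hy0 : π y ≠ 0 := fun e => by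
    rcases (S.π_ker y hyQ).1 e with h | h
    · exact haQ (by rw [back h, mul_one, mul_inv_cancel]; exact one_mem Q)
    · exact haQ (by rw [back h, D.p.conj]; exact D.p.u_mem)
  have hne : π y ≠ π w := fun e => by
    rcases S.π_eq D.p.w_mem hyQ e.symm with h | h
    · exact haQ (by rw [back h, show g * w * g⁻¹ = z by rw [hw]; group]; exact S.extra.z_mem)
    · refine haQ ?_
      rw [back h, show g * (w * z) * g⁻¹ = z * (g * z * g⁻¹) by rw [hw]; group, D.p.conj]
      exact mul_mem S.extra.z_mem D.p.u_mem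
  obtain ⟨c0, hc0, hc0w, hc0y⟩ := D.p.exists_to_std D.d D.p.w_mem hyQ hww hyy (by
    calc w * y = g⁻¹ * (z * a) * g := by rw [hw, hy]; group
      _ = y * w := by rw [← haz, hw, hy]; group) (by rw [D.p.π_w]; decide) hy0 hne
  -- the image of the first part in `Q`
  let F : G → G := fun f => c0 * (g⁻¹ * f * g) * c0⁻¹
  have Fmul : ∀ f f', F (f * f') = F f * F f' := fun f f' => by simp only [F]; group
  have hFu : F z = u := by rw [← hc0w]
  have hFa : F a = u₁ := by rw [← hc0y]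
  have hFz : F u = z := by
    show c0 * (g⁻¹ * u * g) * c0⁻¹ = z
    rw [hgu, hc0, mul_inv_cancel_right]
  have hFQ : ∀ f ∈ X1, F f ∈ Q := fun f hf => S.norm c0 hc0 _ (mem_sie.1 (Subgroup.mem_inf.1 hf).2).2
  have hFc : ∀ f ∈ X1, ∀ f' ∈ X1, F f * F f' = F f' * F f := fun f hf f' hf' => by
    rw [← Fmul, ← Fmul, D.asub_comm (Subgroup.mem_inf.1 hf).1 (Subgroup.mem_inf.1 hf').1]
  have hFsq : ∀ f ∈ X1, F f * F f = 1 := fun f hf => by
    rw [← Fmul, D.asub_sq (Subgroup.mem_inf.1 hf).1]; simp [F]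
  have h7 : ∀ f ∈ X1, π (F f) 7 = 0 := fun f hf =>
    D.p.π_of_comm (hFQ f hf) (by rw [← hFu]; exact hFc f hf z hzX)
  have hdA : ∀ f ∈ X1, dot (co (π (F f))) φA = 0 := fun f hf => by
    have h := (S.comm_iff (hFQ f hf) (D.p.u₁_mem D.d)).1 (by rw [← hFa]; exact hFc f hf a haX)
    rwa [D.d.π_u₁, perp_polar (h7 f hf) aA_facts.1, aA_facts.2.1] at h
  let pr0 : G → R4 := fun f => proj (co (π (F f)))
  have hdR : ∀ f ∈ X1, ∀ f' ∈ X1, dR (pr0 f) (pr0 f') = 0 := fun f hf f' hf' => by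
    have h := (S.comm_iff (hFQ f hf) (hFQ f' hf')).1 (hFc f hf f' hf')
    rwa [perp_polar (h7 f hf) (h7 f' hf'), dot_proj (ev_co _) (ev_co _) (hdA f hf) (hdA f' hf')] at h
  have hqR : ∀ f ∈ X1, qR (pr0 f) = 0 := fun f hf => by
    show qR (proj _) = 0
    rw [(proj_facts _ (ev_co _) (hdA f hf)).1, ← (perp_facts _ (h7 f hf)).1]
    exact (S.q_iff _ (hFQ f hf)).2 (hFsq f hf)
  have hsmall : ∀ f ∈ X1, ∀ φ, Ev φ → (∀ v, S.act f v = M 1 φ v) → pr0 f = 0 → ∃ k : ZMod 2, φ = k • φA := by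
    intro f hf φ hφ hff h0
    -- `F f` lies over the span of `u0` and `P φA`
    obtain ⟨i, j, k, hijk⟩ : ∃ i j k : ZMod 2, F f = zp z i * zp u j * zp u₁ k := by
      obtain ⟨k, j, hkj⟩ : ∃ k j : ZMod 2, π (F f) = k • P φA + j • u0 := by
        have hv := (perp_facts _ (h7 f hf)).2.1
        rcases (proj_facts _ (ev_co _) (hdA f hf)).2.1 h0 with e | e <;> rw [e] at hv
        · exact ⟨0, π (F f) 6, by rw [hv, show P (0 : W8) = 0 by decide, zero_smul]; simp [u0]⟩
        · exact ⟨1, π (F f) 6, by rw [one_smul]; exact hv⟩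
      have hu1 : ∀ t, zp u₁ t ∈ Q ∧ π (zp u₁ t) = t • P φA := fun t => by
        rcases two_cases t with e | e <;> rw [e]
        · rw [zp_zero, zero_smul]; exact ⟨one_mem Q, S.π_one⟩
        · rw [zp_one, one_smul]; exact ⟨D.p.u₁_mem D.d, D.d.π_u₁⟩
      have hm : zp u j * zp u₁ k ∈ Q := mul_mem (D.p.up_mem j) (hu1 k).1
      rcases S.π_eq hm (hFQ f hf) (by
        rw [S.π_mul _ (D.p.up_mem j) _ (hu1 k).1, D.p.up_π, (hu1 k).2, hkj, add_comm]) with e | e
      · exact ⟨0, j, k, by rw [e, zp_zero, one_mul]⟩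
      · exact ⟨1, j, k, by rw [e, zp_one, ← S.extra.z_comm hm, mul_assoc]⟩
    have hf' : f = zp u i * zp z j * zp a k := by
      have : ∀ x t, F (zp x t) = zp (F x) t := fun x t => by
        rcases two_cases t with e | e <;> rw [e] <;> simp [zp_zero, zp_one, F]
      have h : F f = F (zp u i * zp z j * zp a k) := by rw [hijk, Fmul, Fmul, this, this, this, hFz, hFu, hFa]
      simp only [F] at h
      exact mul_left_cancel (mul_right_cancel (mul_left_cancel (mul_right_cancel h)))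
    refine ⟨k, (M_unique (σ := 1) (τ := 1) hφ (by
      rcases two_cases k with e | e <;> rw [e]
      · rw [zero_smul]; exact ev_zero
      · rw [one_smul]; exact std_A.1) fun v => ?_).2⟩
    have hq : zp u i * zp z j ∈ Q := mul_mem (D.p.up_mem i) (S.zp_mem j)
    rw [← hff, hf']
    rcases two_cases k with e | e <;> rw [e]
    · rw [zp_zero, mul_one, zero_smul, S.act_Q hq, evM_zero]
    · rw [zp_one, one_smul, S.act_mul (S.mem_cz hq) haz, S.act_Q hq, D.axis.form]
  obtain ⟨lI1, lJ1, wI, wJ, wIJ, hne3⟩ := line_params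
  obtain ⟨fI, hfI, -, hfIA, hfIf⟩ := D.exists_sie_form wI
  obtain ⟨fJ, hfJ, -, hfJA, hfJf⟩ := D.exists_sie_form wJ
  have hI : fI ∈ X1 := Subgroup.mem_inf.2 ⟨hfIA, hfI.1⟩
  have hJ : fJ ∈ X1 := Subgroup.mem_inf.2 ⟨hfJA, hfJ.1⟩
  have fI1 : ∀ v, S.act fI v = M 1 (iota lI) v := fun v => by rw [hfIf, trPerm_facts.1]
  have fJ1 : ∀ v, S.act fJ v = M 1 (iota lJ) v := fun v => by rw [hfJf, trPerm_facts.1]
  have hrne : pr0 fI ≠ 0 := fun e => by
    obtain ⟨k, hk⟩ := hsmall fI hI _ lI1 fI1 e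
    exact (hne3 k).1 hk
  have hsne : pr0 fJ ≠ 0 := fun e => by
    obtain ⟨k, hk⟩ := hsmall fJ hJ _ lJ1 fJ1 e
    exact (hne3 k).2.1 hk
  have hrs : pr0 fI ≠ pr0 fJ := fun e => by
    obtain ⟨k, hk⟩ := hsmall _ (mul_mem hI hJ) _ (ev_add lI1 lJ1)
      (D.p.sie_mul_form hfI.1 hfJ.1 lI1 lJ1 fI1 fJ1) (by
        show proj _ = 0
        rw [Fmul, S.π_mul _ (hFQ _ hI) _ (hFQ _ hJ), co_add, proj_add]
        show pr0 fI + pr0 fJ = 0
        rw [e]; exact funext fun _ => CharTwo.add_self_eq_zero _)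
    exact (hne3 k).2.2 hk
  obtain ⟨τ, hτ, hcase⟩ := line_cases _ _ (hqR _ hI) (hqR _ hJ) (hdR _ hI _ hJ) hrne hsne hrs
  obtain ⟨c1, hc1, -, ψ, hψ, hc1f⟩ := D.p.exists_lift (lineTaus_facts τ hτ).1
  set k := g * (c1 * c0)⁻¹ with hk
  have hkz : k * z * k⁻¹ = u := by
    have h1 := cz_inv (cz_mul hc1 hc0)
    rw [hk, ← D.p.conj]
    calc g * (c1 * c0)⁻¹ * z * (g * (c1 * c0)⁻¹)⁻¹ = g * ((c1 * c0)⁻¹ * z * (c1 * c0)) * g⁻¹ := by group
      _ = g * z * g⁻¹ := by rw [h1]; group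
  have himg : ∀ f ∈ X1, k⁻¹ * f * k ∈ Q ∧ π (k⁻¹ * f * k) 7 = 0 ∧
      co (π (k⁻¹ * f * k)) = pm τ (co (π (F f))) := fun f hf => by
    have e : k⁻¹ * f * k = c1 * F f * c1⁻¹ := by simp only [hk, F]; group
    rw [e, ← S.act_π hc1 (hFQ f hf), hc1f]
    exact ⟨S.norm c1 hc1 _ (hFQ f hf), by rw [(co_M hψ τ _).2, h7 f hf],
      by rw [(co_M hψ τ _).1, h7 f hf, zero_smul, add_zero]⟩
  have hX32 : 32 ≤ Nat.card ↥X1 := by
    choose f hfF _ hfA hff using fun ψ : {m : W8 // m ∈ coW} => D.exists_sie_form ψ.2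
    have hzu : ∀ i j, zp z i * zp u j ∈ X1 := fun i j => by
      refine mul_mem ?_ ?_
      · rcases two_cases i with e | e <;> rw [e]
        · rw [zp_zero]; exact one_mem _
        · rw [zp_one]; exact hzX
      · rcases two_cases j with e | e <;> rw [e]
        · rw [zp_zero]; exact one_mem _
        · rw [zp_one]; exact huX
    let Φ : {m : W8 // m ∈ coW} × ZMod 2 × ZMod 2 → ↥X1 := fun k =>
      ⟨zp z k.2.1 * zp u k.2.2 * f k.1, mul_mem (hzu _ _) (Subgroup.mem_inf.2 ⟨hfA _, (hfF _).1⟩)⟩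
    have hinj : Function.Injective Φ := by
      rintro ⟨m, i, j⟩ ⟨m', i', j'⟩ e
      have e' : zp z i * zp u j * f m = zp z i' * zp u j' * f m' := congrArg Subtype.val e
      have act' : ∀ i j m v, S.act (zp z i * zp u j * f m) v = M (trPerm 7) (m : W8) v := fun i j m v => by
        rw [S.act_mul (S.mem_cz (mul_mem (S.zp_mem i) (D.p.up_mem j))) (D.p.sie_comm (hfF m).1).1,
          S.act_Q (mul_mem (S.zp_mem i) (D.p.up_mem j)), hff]
      obtain rfl : m = m' := Subtype.ext (M_unique (coW_facts.1 _ m.2).1 (coW_facts.1 _ m'.2).1 fun v => by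
        rw [← act' i j m v, e', act']).2
      obtain ⟨rfl, rfl⟩ := D.p.mix_inj (mul_right_cancel e')
      rfl
    refine le_trans ?_ (Nat.card_le_card_of_injective Φ hinj)
    rw [Nat.card_prod, Nat.card_prod, Nat.card_zmod, show Nat.card {m : W8 // m ∈ coW} = 8 by
      rw [Nat.card_eq_fintype_card, Fintype.card_subtype]; decide +kernel]
  -- the conjugate of the target lies in `A`
  have hgen : ∀ X : Subgroup G, Nat.card ↥X ≤ 32 → Nat.card ↥(Subgroup.centralizer (X : Set G)) ≤ 2048 →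
      (∀ f ∈ X1, k⁻¹ * f * k ∈ X) → (∀ c ∈ Subgroup.centralizer (X : Set G), k * c * k⁻¹ ∈ S.asub) ∧
        ∀ b ∈ S.asub, k⁻¹ * b * k ∈ Subgroup.centralizer (X : Set G) := by
    intro X hX hC hin
    let j : ↥X1 → ↥X := fun f => ⟨_, hin f f.2⟩
    have hj : Function.Injective j := fun f f' e => Subtype.ext (by
      have := congrArg Subtype.val e
      exact mul_left_cancel (mul_right_cancel this))
    have hjs : Function.Surjective j := ((Nat.bijective_iff_injective_and_card j).2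
      ⟨hj, le_antisymm (Nat.card_le_card_of_injective j hj) (hX.trans hX32)⟩).2
    have hback : ∀ b ∈ S.asub, k⁻¹ * b * k ∈ Subgroup.centralizer (X : Set G) := fun b hb =>
      Subgroup.mem_centralizer_iff.2 fun x hx => by
        obtain ⟨f, hf⟩ := hjs ⟨x, hx⟩
        have hf' : k⁻¹ * (f : G) * k = x := congrArg Subtype.val hf
        rw [← hf']
        calc k⁻¹ * (f : G) * k * (k⁻¹ * b * k) = k⁻¹ * ((f : G) * b) * k := by group
          _ = k⁻¹ * b * k * (k⁻¹ * f * k) := by rw [D.asub_comm (Subgroup.mem_inf.1 f.2).1 hb]; group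
    let i : ↥S.asub → ↥(Subgroup.centralizer (X : Set G)) := fun b => ⟨_, hback b b.2⟩
    have hi : Function.Injective i := fun f f' e => Subtype.ext (by
      have := congrArg Subtype.val e
      exact mul_left_cancel (mul_right_cancel this))
    have his : Function.Surjective i := ((Nat.bijective_iff_injective_and_card i).2
      ⟨hi, le_antisymm (Nat.card_le_card_of_injective i hi) (hC.trans (by rw [D.card_asub]; norm_num))⟩).2
    refine ⟨fun c hc => ?_, hback⟩
    obtain ⟨b, hb⟩ := his ⟨c, hc⟩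
    have hb' : k⁻¹ * (b : G) * k = c := congrArg Subtype.val hb
    rw [show k * c * k⁻¹ = b by rw [← hb']; group]
    exact b.2
  have hcrit : ∀ f ∈ X1, Ev (co (π (F f))) ∧ dot (co (π (F f))) φA = 0 ∧ dR (pr0 f) (pr0 fI) = 0 ∧
      dR (pr0 f) (pr0 fJ) = 0 := fun f hf => ⟨ev_co _, hdA f hf, hdR f hf _ hI, hdR f hf _ hJ⟩
  rcases hcase with hc | hc
  · have hin : ∀ f ∈ X1, k⁻¹ * f * k ∈ S.xsub := fun f hf => by
      obtain ⟨k1, k2, k3⟩ := himg f hf
      obtain ⟨e1, e2, e3, e4⟩ := hcrit f hf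
      exact ⟨k1, k2, by rw [k3]; exact hc _ e1 e2 e3 e4⟩
    obtain ⟨h1, h2⟩ := hgen S.xsub (le_of_eq S.card_xsub) S.card_asub_le hin
    refine ⟨k, Subgroup.mem_normalizer_iff.2 fun b => ⟨fun hb => h1 b hb, fun hb => ?_⟩, hkz, hin a haX,
      hin _ (mul_mem hzX haX)⟩
    have := h2 _ hb
    rwa [show k⁻¹ * (k * b * k⁻¹) * k = b by group] at this
  · exfalso
    have hin : ∀ f ∈ X1, k⁻¹ * f * k ∈ S.xsub' := fun f hf => by
      obtain ⟨k1, k2, k3⟩ := himg f hf
      obtain ⟨e1, e2, e3, e4⟩ := hcrit f hf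
      exact S.mem_xsub'.2 ⟨k1, k2, by rw [k3]; exact hc _ e1 e2 e3 e4⟩
    obtain ⟨h1, -⟩ := hgen S.xsub' (le_of_eq (twist S).card_xsub) (twist S).card_asub_le hin
    obtain ⟨e, he, f, hf, hne'⟩ := D.exists_noncomm
    have := D.asub_comm (h1 e he) (h1 f hf)
    rw [conj_mul, conj_mul] at this
    exact hne' (mul_left_cancel (mul_right_cancel this))

end Gd

end Co

end CfsgLib.Characterizations.CoType
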