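import Cfsg.Agent.Lib.Characterizations.CoType.Data

/-!
# Groups of Conway type: finite facts about a pair of orthogonal singular points

`R4` is a complement of `φA` in its perp among the even vectors modulo complements.
-/

set_option autoImplicit false
set_option maxRecDepth 100000

namespace CfsgLib.Characterizations.CoType

/-- The four-dimensional space `φA^⊥/φA`. -/
abbrev R4 := Fin 4 → ZMod 2

/-- The chosen complement of `φA` in `φA^⊥`. -/
def iota (r : R4) : W8 := r 0 • pr 1 2 + r 1 • pr 2 3 + r 2 • pr 4 5 + r 3 • pr 5 6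

/-- Projection onto the complement along `φA`. -/
def proj (m : W8) : R4 :=
  ![m 1 + m 0, m 3 + m 0, m 4, m 6]

/-- The pairing on `R4`. -/
def dR (r s : R4) : ZMod 2 := r 0 * s 1 + r 1 * s 0 + r 2 * s 3 + r 3 * s 2

/-- The quadratic form on `R4`. -/
def qR (r : R4) : ZMod 2 := r 0 + r 1 + r 0 * r 1 + r 2 + r 3 + r 2 * r 3

theorem proj_add (m m' : W8) : proj (m + m') = proj m + proj m' := by
  funext i; fin_cases i <;> simp [proj] <;> ring

theorem iota_facts : ∀ r : R4, Ev (iota r) ∧ dot (iota r) φA = 0 ∧ proj (iota r) = r ∧ qe (iota r) = qR r := by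
  decide +kernel

theorem proj_facts : ∀ m : W8, Ev m → dot m φA = 0 → qR (proj m) = qe m ∧
    (proj m = 0 → m = 0 ∨ m = φA) ∧ (m = iota (proj m) ∨ m = iota (proj m) + φA) := by
  decide +kernel

theorem dot_iota : ∀ r s : R4, dot (iota r) (iota s) = dR r s := by decide +kernel

theorem proj_φA : proj φA = 0 := by decide +kernel

theorem dot_proj {m m' : W8} (hm : Ev m) (hm' : Ev m') (h : dot m φA = 0) (h' : dot m' φA = 0) :
    dot m m' = dR (proj m) (proj m') := by
  have hsum := (iota_facts (proj m + proj m')).2.2.1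
  have e1 := (proj_facts _ (ev_add hm hm') (by rw [dot_add, h, h', add_zero])).1
  rw [qe_add m m' hm hm', proj_add, ← (proj_facts m hm h).1, ← (proj_facts m' hm' h').1] at e1
  have key : ∀ r s : R4, qR (r + s) = qR r + qR s + dR r s := by decide +kernel
  rw [key] at e1
  exact (add_left_cancel e1).symm

theorem dR_nondeg : ∀ r : R4, (∀ s, dR r s = 0) → r = 0 := by decide +kernel

theorem dR_symm (r s : R4) : dR r s = dR s r := by simp [dR]; ring

theorem dR_add (r r' s : R4) : dR (r + r') s = dR r s + dR r' s := by simp [dR]; ring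

theorem qR_add : ∀ r s : R4, qR (r + s) = qR r + qR s + dR r s := by decide +kernel

/-- A vector orthogonal to every vector orthogonal to `u0` and `P φA` lies in their span. -/
theorem perp_span : ∀ v : V, (∀ w : V, w 7 = 0 → dot (co w) φA = 0 → B v w = 0) →
    v = 0 ∨ v = u0 ∨ v = P φA ∨ v = P φA + u0 := by
  decide +kernel

/-- A parameter orthogonal to `φA^⊥` is `0` or `φA`. -/
theorem perp_param : ∀ φ : W8, Ev φ → (∀ r : R4, dot (iota r) φ = 0) → dot φA φ = 0 → φ = 0 ∨ φ = φA := by
  decide +kernel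

theorem aA_facts : P φA 7 = 0 ∧ co (P φA) = φA ∧ q (P φA) = 0 ∧ P φA ≠ 0 ∧ P φA ≠ u0 ∧ B (P φA) u0 = 0 ∧
    co (P φA + u0) = φA := by
  decide +kernel

/-- The first line of the first family. -/
def lI : R4 := ![1, 0, 1, 0]

/-- The second line of the first family. -/
def lJ : R4 := ![0, 1, 0, 1]

/-- The first line of the second family. -/
def lI' : R4 := ![1, 0, 0, 1]

/-- The second line of the second family. -/
def lJ' : R4 := ![0, 1, 1, 0]

/-- A bilinear map from its sixteen values. -/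
def bil (a : R4) (b : R4) (c : R4) (d : R4) (r s : R4) : ZMod 2 :=
  r 0 * (a 0 * s 0 + a 1 * s 1 + a 2 * s 2 + a 3 * s 3) + r 1 * (b 0 * s 0 + b 1 * s 1 + b 2 * s 2 + b 3 * s 3) +
    r 2 * (c 0 * s 0 + c 1 * s 1 + c 2 * s 2 + c 3 * s 3) + r 3 * (d 0 * s 0 + d 1 * s 1 + d 2 * s 2 + d 3 * s 3)

/-- The vector representing a row under the pairing. -/
def rep (a : R4) : R4 := ![a 1, a 0, a 3, a 2]

theorem rep_spec : ∀ a s : R4, dR (rep a) s = a 0 * s 0 + a 1 * s 1 + a 2 * s 2 + a 3 * s 3 := by decide +kernel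

/-- The map represented by a bilinear map. -/
def repMap (a b c d r : R4) : R4 := r 0 • rep a + r 1 • rep b + r 2 • rep c + r 3 • rep d

theorem repMap_spec (a b c d r s : R4) : dR (repMap a b c d r) s = bil a b c d r s := by
  simp only [repMap, dR, rep, bil, Pi.add_apply, Pi.smul_apply, smul_eq_mul, Matrix.cons_val_zero,
    Matrix.cons_val_one, Matrix.cons_val]
  ring

/-- Row by row: the images of the basis vectors. -/
def rowsOK (a b c d : R4) : Bool :=
  decide (qR (rep a) = qR ![1, 0, 0, 0] ∧ qR (rep b) = qR ![0, 1, 0, 0] ∧ qR (rep c) = qR ![0, 0, 1, 0] ∧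
    qR (rep d) = qR ![0, 0, 0, 1])

set_option maxHeartbeats 4000000 in
theorem family_choice : ∀ a b c d : R4, rowsOK a b c d = true →
    (∀ r, qR (repMap a b c d r) = qR r) → (∀ r, qR (repMap a b c d r + r) = qR r) →
    (bil a b c d lI lI = 0 ∧ bil a b c d lI lJ = 0 ∧ bil a b c d lJ lI = 0 ∧ bil a b c d lJ lJ = 0 ∧
      ¬ (bil a b c d lI' lI' = 0 ∧ bil a b c d lI' lJ' = 0 ∧ bil a b c d lJ' lI' = 0 ∧ bil a b c d lJ' lJ' = 0)) ∨
    (bil a b c d lI' lI' = 0 ∧ bil a b c d lI' lJ' = 0 ∧ bil a b c d lJ' lI' = 0 ∧ bil a b c d lJ' lJ' = 0 ∧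
      ¬ (bil a b c d lI lI = 0 ∧ bil a b c d lI lJ = 0 ∧ bil a b c d lJ lI = 0 ∧ bil a b c d lJ lJ = 0)) := by
  decide +kernel

end CfsgLib.Characterizations.CoType

namespace CfsgLib.Characterizations.CoType

/-- The double perp of a point among the even vectors. -/
theorem line_of_perp : ∀ m : W8, Ev m → m ≠ 0 → ∀ ψ : W8, Ev ψ → (∀ w, Ev w → dot w m = 0 → dot w ψ = 0) →
    ψ = 0 ∨ ψ = m := by
  intro m hm _ ψ hψ h
  obtain ⟨r, hr⟩ : ∃ r : ZMod 2, ∀ w, Ev w → dot w ψ = r * dot w m := by
    by_cases hz : ∀ w, Ev w → dot w m = 0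
    · exact ⟨0, fun w hw => by rw [zero_mul, h w hw (hz w hw)]⟩
    · push Not at hz
      obtain ⟨w1, hw1, hd1⟩ := hz
      have hd1' : dot w1 m = 1 := (two_cases _).resolve_left hd1
      refine ⟨dot w1 ψ, fun w hw => ?_⟩
      rcases two_cases (dot w m) with e | e
      · rw [e, mul_zero, h w hw e]
      · rw [e, mul_one]
        have := h (w + w1) (ev_add hw hw1) (by rw [dot_add, e, hd1', CharTwo.add_self_eq_zero])
        rw [dot_add] at this
        exact CharTwo.add_eq_zero.1 this
  rcases two_cases r with e | e <;> subst e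
  · exact Or.inl (dot_nondeg hψ ev_zero fun w hw => by rw [hr w hw, zero_mul]; simp [dot])
  · exact Or.inr (dot_nondeg hψ hm fun w hw => by rw [hr w hw, one_mul])

end CfsgLib.Characterizations.CoType
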