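import Cfsg.Agent.Lib.Characterizations.CoType.Separate
import Cfsg.Agent.Lib.Characterizations.CoType.Golay.FrameData

/-!
# Groups of Conway type: two orthogonal points of `Q` and their conjugates of `Q`

`F` is the part of `g Q g⁻¹ ∩ C(z)` centralising `u₁`, `E` the part of `g₁ Q g₁⁻¹ ∩ C(z)` centralising `u`,
where `g₁ = c₁ g` and `u₁ = c₁ u c₁⁻¹` lies over `P φA`.
-/

set_option autoImplicit false
set_option linter.style.haveILetI false
set_option linter.unusedSectionVars false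
set_option maxRecDepth 4000

namespace CfsgLib.Characterizations.CoType

open CfsgLib.ThreeTransp.Extraspecial

variable {G : Type*} [Group G] [Finite G] {z : G} {Q : Subgroup G} {π : G → V}

namespace Co

/-- A second point of `Q` over `P φA`, as a conjugate of the first. -/
structure Duo (S : Co z Q π) (u g u₁ c₁ : G) : Prop where
  cz : c₁ * z = z * c₁
  conj : c₁ * u * c₁⁻¹ = u₁
  π_u₁ : π u₁ = P φA

theorem Pair.exists_duo {S : Co z Q π} {u g : G} (p : S.Pair u g) : ∃ u₁ c₁, S.Duo u g u₁ c₁ := by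
  obtain ⟨c, hc, hcv⟩ := S.transitive (u := u0) (v := P φA) (by decide) (by decide) aA_facts.2.2.2.1 aA_facts.2.2.1
  exact ⟨_, c, hc, rfl, by rw [← S.act_π hc p.u_mem, p.π_u, hcv]⟩

/-- A test vector for the parameters of the second conjugate. -/
def y1 : V := P (pr 0 4)

theorem y1_facts : y1 7 = 0 ∧ B y1 (P φA) = 1 := by decide +kernel

namespace Pair

variable {S : Co z Q π} {u g u₁ c₁ : G} (p : S.Pair u g)

/-- The elements at `u` centralising `u₁`. -/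
def InF (S : Co z Q π) (g u₁ f : G) : Prop := f ∈ S.sie g ∧ f * u₁ = u₁ * f

/-- The elements at `u₁` centralising `u`. -/
def InE (S : Co z Q π) (g u c₁ e : G) : Prop := c₁⁻¹ * e * c₁ ∈ S.sie g ∧ e * u = u * e

/-- Parameter at `u`. -/
noncomputable def mu (S : Co z Q π) (f : G) : R4 := proj (co (S.act f y0 + y0))

/-- Parameter at `u₁`. -/
noncomputable def nu (S : Co z Q π) (e : G) : R4 := proj (co (S.act e y1 + y1))

include p

variable (d : S.Duo u g u₁ c₁)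
include d

theorem u₁_mem : u₁ ∈ Q := by rw [← d.conj]; exact S.norm c₁ d.cz u p.u_mem

theorem u₁u₁ : u₁ * u₁ = 1 := by rw [← d.conj, conj_mul, p.uu]; group

theorem u₁z : u₁ * z = z * u₁ := S.mem_cz (p.u₁_mem d)

theorem uu₁ : u * u₁ = u₁ * u := (S.comm_iff p.u_mem (p.u₁_mem d)).2 (by
  rw [p.π_u, d.π_u₁, B_comm, aA_facts.2.2.2.2.2.1])

theorem act_c₁ : S.act c₁ u0 = P φA := by
  rw [← p.π_u, S.act_π d.cz p.u_mem, d.conj, d.π_u₁]

theorem act_c₁_inv : S.act c₁⁻¹ (P φA) = u0 := by rw [← p.act_c₁ d, S.act_inv_act d.cz]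

theorem seven_c₁ (v : V) : S.act c₁⁻¹ v 7 = B v (P φA) := by
  rw [← B_u0 (S.act c₁⁻¹ v), ← p.act_c₁_inv d, (S.act_iso (cz_inv d.cz)).polar]

theorem conj_zp_u (t : ZMod 2) : c₁ * zp u t * c₁⁻¹ = zp u₁ t := by
  rcases two_cases t with e | e <;> subst e
  · rw [zp_zero, zp_zero, mul_one, mul_inv_cancel]
  · rw [zp_one, zp_one, d.conj]

/-! ### The part at `u` -/

theorem inF_form {f : G} (hf : InF S g u₁ f) : ∃ φ, Ev φ ∧ (∀ v, S.act f v = M 1 φ v) ∧ dot φ φA = 0 ∧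
    mu S f = proj φ := by
  obtain ⟨φ, hφ, hff⟩ := p.sie_form hf.1
  refine ⟨φ, hφ, hff, ?_, by rw [mu, hff, (y0_move φ hφ).1]⟩
  have h := p.pair_formula hf.1 hφ hff (p.u₁_mem d) (by rw [d.π_u₁]; exact aA_facts.1)
  rw [hf.2, mul_inv_cancel_right, d.π_u₁, aA_facts.2.1] at h
  have h' : zp z 0 * zp u 0 = zp z (dot φA φ) * zp u (dot φA φ) := by
    rw [zp_zero, zp_zero, one_mul]; exact (left_eq_mul.1 h).symm
  rw [dot_comm]
  exact (p.mix_inj h').1.symm

theorem inF_pair {f : G} (hf : InF S g u₁ f) {x : G} (hx : x ∈ Q) (h7 : π x 7 = 0)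
    (hA : dot (co (π x)) φA = 0) :
    f * x * f⁻¹ = x * (zp z (dR (proj (co (π x))) (mu S f)) * zp u (dR (proj (co (π x))) (mu S f))) := by
  obtain ⟨φ, hφ, hff, hd, hμ⟩ := p.inF_form d hf
  rw [hμ, ← dot_proj (ev_co _) hφ hA hd]
  exact p.pair_formula hf.1 hφ hff hx h7

theorem inF_sq {f : G} (hf : InF S g u₁ f) : f * f = zp u (qR (mu S f)) := by
  obtain ⟨φ, hφ, hff, hd, hμ⟩ := p.inF_form d hf
  rw [hμ, (proj_facts φ hφ hd).1]
  exact p.sie_sq hf.1 hφ hff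

theorem inF_mul {f f' : G} (hf : InF S g u₁ f) (hf' : InF S g u₁ f') :
    InF S g u₁ (f * f') ∧ mu S (f * f') = mu S f + mu S f' := by
  refine ⟨⟨mul_mem hf.1 hf'.1, (Commute.mul_left hf.2 hf'.2).eq⟩, ?_⟩
  obtain ⟨φ, hφ, hff, -, hμ⟩ := p.inF_form d hf
  obtain ⟨φ', hφ', hff', -, hμ'⟩ := p.inF_form d hf'
  rw [hμ, hμ', mu, p.sie_mul_form hf.1 hf'.1 hφ hφ' hff hff', (y0_move _ (ev_add hφ hφ')).1, proj_add]

theorem exists_inF (r : R4) : ∃ f, InF S g u₁ f ∧ mu S f = r := by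
  obtain ⟨h1, h2, h3, -⟩ := iota_facts r
  obtain ⟨f, hf, hff⟩ := p.exists_sie h1
  refine ⟨f, ⟨hf, ?_⟩, by rw [mu, hff, (y0_move _ h1).1, h3]⟩
  apply mul_inv_eq_iff_eq_mul.1
  rw [p.pair_formula hf h1 hff (p.u₁_mem d) (by rw [d.π_u₁]; exact aA_facts.1), d.π_u₁, aA_facts.2.1,
    dot_comm, h2, zp_zero, zp_zero, one_mul, mul_one]

/-! ### The part at `u₁` -/

theorem inE_cz {e : G} (he : InE S g u c₁ e) : e * z = z * e ∧ e * u₁ = u₁ * e := by
  obtain ⟨h1, h2⟩ := p.sie_comm he.1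
  constructor
  · have h := cz_mul (cz_mul d.cz h1) (cz_inv d.cz)
    rwa [show c₁ * (c₁⁻¹ * e * c₁) * c₁⁻¹ = e by group] at h
  · rw [← d.conj]
    calc e * (c₁ * u * c₁⁻¹) = c₁ * (c₁⁻¹ * e * c₁ * u) * c₁⁻¹ := by group
      _ = c₁ * u * c₁⁻¹ * e := by rw [h2]; group

theorem inE_action {e : G} (he : InE S g u c₁ e) :
    (S.act e y1 + y1) 7 = 0 ∧ dot (co (S.act e y1 + y1)) φA = 0 ∧ q (S.act e y1 + y1) = qR (nu S e) ∧
      (∀ v, B v (P φA) = 0 → S.act e v + v = B v (S.act e y1 + y1) • P φA) ∧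
      ∃ φ, Ev φ ∧ (∀ v, S.act (c₁⁻¹ * e * c₁) v = M 1 φ v) ∧ qe φ = qR (nu S e) ∧
        ∀ v, B v (P φA) = 0 → dot (co (S.act c₁⁻¹ v)) φ = B v (S.act e y1 + y1) := by
  obtain ⟨hez, heu₁⟩ := p.inE_cz d he
  have hcz' := cz_inv d.cz
  obtain ⟨φ, hφ, hff⟩ := p.sie_form he.1
  have hconj : ∀ v, S.act e v = S.act c₁ (M 1 φ (S.act c₁⁻¹ v)) := fun v => by
    rw [← hff, ← S.act_conj d.cz (p.sie_comm he.1).1]
    congr 1; group
  have hI := S.act_iso hez
  set n := S.act e y1 + y1 with hn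
  have hfixa : S.act e (P φA) = P φA := by rw [← d.π_u₁, S.act_π hez (p.u₁_mem d), heu₁, mul_inv_cancel_right]
  have hfixu : S.act e u0 = u0 := by rw [← p.π_u, S.act_π hez p.u_mem, he.2, mul_inv_cancel_right]
  have hna : B n (P φA) = 0 := by
    rw [hn, B_add_left]
    conv_lhs => arg 1; rw [← hfixa]
    rw [hI.polar, CharTwo.add_self_eq_zero]
  have hn7 : n 7 = 0 := by
    rw [← B_u0 n, hn, B_add_left]
    conv_lhs => arg 1; rw [← hfixu]
    rw [hI.polar, CharTwo.add_self_eq_zero]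
  have hnd : dot (co n) φA = 0 := by
    have := perp_polar hn7 aA_facts.1
    rw [aA_facts.2.1, hna] at this
    exact this.symm
  have hline : ∀ v, B v (P φA) = 0 → S.act e v + v = dot (co (S.act c₁⁻¹ v)) φ • P φA := fun v hv => by
    have h := M_one_perp φ (v := S.act c₁⁻¹ v) (by rw [p.seven_c₁ d, hv])
    have h2 := congrArg (S.act c₁) h
    rw [(S.act_iso d.cz).add, S.act_act_inv d.cz, (S.act_iso d.cz).map_smul, p.act_c₁ d, ← hconj] at h2
    exact h2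
  have hval : ∀ v, B v (P φA) = 0 → dot (co (S.act c₁⁻¹ v)) φ = B v n := fun v hv => by
    have h := hI.polar v y1
    have e1 : S.act e v = v + dot (co (S.act c₁⁻¹ v)) φ • P φA := by
      rw [← hline v hv, add_comm (S.act e v), ← add_assoc, add_self_V, zero_add]
    have e2 : S.act e y1 = y1 + n := by rw [hn, add_comm (S.act e y1), ← add_assoc, add_self_V, zero_add]
    rw [e1, e2] at h
    have hr : ∀ x y w, B x (y + w) = B x y + B x w := fun x y w => by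
      rw [B_comm, B_add_left, B_comm y, B_comm w]
    rcases two_cases (dot (co (S.act c₁⁻¹ v)) φ) with t | t <;> rw [t] at h ⊢
    · rw [zero_smul, add_zero, hr] at h
      exact (add_eq_left.1 h).symm
    · rw [one_smul, B_add_left, hr v y1 n, hr (P φA) y1 n, B_comm (P φA) y1, y1_facts.2, B_comm (P φA) n, hna, add_zero,
        add_assoc] at h
      exact CharTwo.add_eq_zero.1 (by rw [add_comm]; exact add_eq_left.1 h)
  have hq : qe φ = qR (nu S e) := by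
    have hw7 : S.act c₁⁻¹ y1 7 = 1 := by rw [p.seven_c₁ d, y1_facts.2]
    obtain ⟨-, -, h3⟩ := M_one_co hφ (S.act c₁⁻¹ y1)
    rw [hw7, one_mul, ← (S.act_iso d.cz).quad, (S.act_iso d.cz).add, S.act_act_inv d.cz, ← hconj, ← hn,
      (perp_facts n hn7).1] at h3
    rw [← h3, nu, (proj_facts _ (ev_co _) hnd).1]
  exact ⟨hn7, hnd, by rw [(perp_facts n hn7).1, nu, (proj_facts _ (ev_co _) hnd).1],
    fun v hv => by rw [hline v hv, hval v hv], φ, hφ, hff, hq, hval⟩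

theorem inE_pair {e : G} (he : InE S g u c₁ e) {x : G} (hx : x ∈ Q) (h7 : π x 7 = 0)
    (hA : dot (co (π x)) φA = 0) :
    e * x * e⁻¹ = x * (zp z (dR (proj (co (π x))) (nu S e)) * zp u₁ (dR (proj (co (π x))) (nu S e))) := by
  obtain ⟨hn7, hnd, -, -, φ, hφ, hff, -, hval⟩ := p.inE_action d he
  have hB : B (π x) (P φA) = 0 := by rw [perp_polar h7 aA_facts.1, aA_facts.2.1, hA]
  have hx' := S.norm _ (cz_inv d.cz) x hx
  have hπ : π (c₁⁻¹ * x * c₁⁻¹⁻¹) = S.act c₁⁻¹ (π x) := (S.act_π (cz_inv d.cz) hx).symm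
  have hk : dot (co (π (c₁⁻¹ * x * c₁⁻¹⁻¹))) φ = dR (proj (co (π x))) (nu S e) := by
    rw [hπ, hval _ hB, perp_polar h7 hn7, dot_proj (ev_co _) (ev_co _) hA hnd]; rfl
  have h := p.pair_formula he.1 hφ hff hx' (by rw [hπ, p.seven_c₁ d, hB])
  rw [hk] at h
  calc e * x * e⁻¹ = c₁ * (c₁⁻¹ * e * c₁ * (c₁⁻¹ * x * c₁⁻¹⁻¹) * (c₁⁻¹ * e * c₁)⁻¹) * c₁⁻¹ := by group
    _ = x * (c₁ * zp z (dR (proj (co (π x))) (nu S e)) * c₁⁻¹ *
          (c₁ * zp u (dR (proj (co (π x))) (nu S e)) * c₁⁻¹)) := by rw [h]; group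
    _ = _ := by rw [p.conj_zp_u d, S.zp_comm _ d.cz, mul_inv_cancel_right]

theorem inE_sq {e : G} (he : InE S g u c₁ e) : e * e = zp u₁ (qR (nu S e)) := by
  obtain ⟨-, -, -, -, φ, hφ, hff, hq, -⟩ := p.inE_action d he
  rw [← p.conj_zp_u d, ← hq, ← p.sie_sq he.1 hφ hff]; group

theorem inE_mul {e e' : G} (he : InE S g u c₁ e) (he' : InE S g u c₁ e') :
    InE S g u c₁ (e * e') ∧ nu S (e * e') = nu S e + nu S e' := by
  have hmem : c₁⁻¹ * (e * e') * c₁ ∈ S.sie g := by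
    have := mul_mem he.1 he'.1
    rwa [show c₁⁻¹ * e * c₁ * (c₁⁻¹ * e' * c₁) = c₁⁻¹ * (e * e') * c₁ by group] at this
  refine ⟨⟨hmem, (Commute.mul_left he.2 he'.2).eq⟩, ?_⟩
  obtain ⟨hn7, hnd, -, hline, -⟩ := p.inE_action d he
  obtain ⟨hn7', hnd', -, -, -⟩ := p.inE_action d he'
  set n' := S.act e' y1 + y1 with hn'
  have hIe := S.act_iso (p.inE_cz d he).1
  have hB : B n' (P φA) = 0 := by rw [perp_polar hn7' aA_facts.1, aA_facts.2.1, hnd']
  have e1 : S.act e' y1 = y1 + n' := by rw [hn', add_comm (S.act e' y1), ← add_assoc, add_self_V, zero_add]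
  have e2 : S.act (e * e') y1 + y1 = (S.act e y1 + y1) + n' + (S.act e n' + n') := by
    rw [S.act_mul (p.inE_cz d he).1 (p.inE_cz d he').1, e1, hIe.add]
    calc S.act e y1 + S.act e n' + y1 = S.act e y1 + S.act e n' + y1 + (n' + n') := by rw [add_self_V, add_zero]
      _ = _ := by abel
  simp only [nu]
  rw [← hn', e2, hline n' hB, co_add, co_add, proj_add, proj_add]
  rcases two_cases (B n' (S.act e y1 + y1)) with t | t <;> rw [t]
  · rw [zero_smul, co_zero, show proj 0 = 0 from by decide, add_zero]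
  · rw [one_smul, aA_facts.2.1, proj_φA, add_zero]

theorem exists_inE (r : R4) : ∃ e, InE S g u c₁ e ∧ nu S e = r := by
  obtain ⟨h1, h2, h3, -⟩ := iota_facts r
  obtain ⟨hPc, -, hP7⟩ := co_P _ h1
  have hBa : B (P (iota r)) (P φA) = 0 := by rw [perp_polar hP7 aA_facts.1, aA_facts.2.1, hPc, h2]
  set w := S.act c₁⁻¹ (P (iota r)) with hw
  have hw7 : w 7 = 0 := by rw [hw, p.seven_c₁ d, hBa]
  obtain ⟨e', he', hef⟩ := p.exists_sie (ev_co w)
  have hcomm : c₁ * e' * c₁⁻¹ * u = u * (c₁ * e' * c₁⁻¹) := by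
    have hu' := S.norm _ (cz_inv d.cz) u p.u_mem
    have hπ : π (c₁⁻¹ * u * c₁⁻¹⁻¹) = S.act c₁⁻¹ u0 := by rw [← p.π_u, S.act_π (cz_inv d.cz) p.u_mem]
    have h7 : S.act c₁⁻¹ u0 7 = 0 := by rw [p.seven_c₁ d, B_comm, aA_facts.2.2.2.2.2.1]
    have hd : dot (co (π (c₁⁻¹ * u * c₁⁻¹⁻¹))) (co w) = 0 := by
      rw [hπ, ← perp_polar h7 hw7, hw, (S.act_iso (cz_inv d.cz)).polar, B_comm, B_u0, hP7]
    have h := p.pair_formula he' (ev_co w) hef hu' (by rw [hπ, h7])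
    rw [hd, zp_zero, zp_zero, one_mul, mul_one] at h
    calc c₁ * e' * c₁⁻¹ * u = c₁ * (e' * (c₁⁻¹ * u * c₁⁻¹⁻¹) * e'⁻¹) * e' * c₁⁻¹ := by group
      _ = u * (c₁ * e' * c₁⁻¹) := by rw [h]; group
  refine ⟨c₁ * e' * c₁⁻¹, ⟨by simpa [mul_assoc] using he', hcomm⟩, ?_⟩
  have hy7 : S.act c₁⁻¹ y1 7 = 1 := by rw [p.seven_c₁ d, y1_facts.2]
  obtain ⟨k1, k2, -⟩ := M_one_co (ev_co w) (S.act c₁⁻¹ y1)
  rw [hy7, one_smul] at k1
  set m := M 1 (co w) (S.act c₁⁻¹ y1) + S.act c₁⁻¹ y1 with hm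
  have hn : S.act (c₁ * e' * c₁⁻¹) y1 + y1 = P (iota r) + (m 6 + w 6) • P φA := by
    rw [S.act_conj d.cz (p.sie_comm he').1, hef]
    conv_lhs => arg 2; rw [← S.act_act_inv d.cz y1]
    rw [← (S.act_iso d.cz).add, ← hm]
    have hmw : m = w + (m 6 + w 6) • u0 := by
      conv_lhs => rw [(perp_facts m k2).2.1, k1]
      conv_rhs => arg 1; rw [(perp_facts w hw7).2.1]
      rw [add_assoc, ← add_smul]
      congr 2
      rw [add_left_comm, CharTwo.add_self_eq_zero, add_zero]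
    conv_lhs => rw [hmw]
    rw [(S.act_iso d.cz).add, (S.act_iso d.cz).map_smul, p.act_c₁ d, hw, S.act_act_inv d.cz]
  rw [nu, hn, co_add, hPc, proj_add, h3]
  rcases two_cases (m 6 + w 6) with t | t <;> rw [t]
  · rw [zero_smul, co_zero, show proj 0 = 0 from by decide, add_zero]
  · rw [one_smul, aA_facts.2.1, proj_φA, add_zero]

/-! ### The common part -/

/-- The common part centralises everything in sight. -/
theorem meet_comm {x : G} (hx : x ∈ S.sie g) (hx' : c₁⁻¹ * x * c₁ ∈ S.sie g) :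
    InF S g u₁ x ∧ InE S g u c₁ x := by
  refine ⟨⟨hx, ?_⟩, hx', (p.sie_comm hx).2⟩
  have h := (p.sie_comm hx').2
  rw [← d.conj]
  calc x * (c₁ * u * c₁⁻¹) = c₁ * (c₁⁻¹ * x * c₁ * u) * c₁⁻¹ := by group
    _ = c₁ * u * c₁⁻¹ * x := by rw [h]; group

theorem meet_params {x : G} (hx : x ∈ S.sie g) (hx' : c₁⁻¹ * x * c₁ ∈ S.sie g) :
    mu S x = 0 ∧ nu S x = 0 := by
  obtain ⟨hF, hE⟩ := p.meet_comm d hx hx'
  have key : ∀ r : R4, dR r (mu S x) = 0 ∧ dR r (nu S x) = 0 := by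
    intro r
    obtain ⟨h1, h2, h3, -⟩ := iota_facts r
    obtain ⟨hPc, -, hP7⟩ := co_P _ h1
    obtain ⟨y, hy, hπy⟩ := S.π_surj (P (iota r))
    have e1 := p.inF_pair d hF hy (by rw [hπy, hP7]) (by rw [hπy, hPc, h2])
    rw [p.inE_pair d hE hy (by rw [hπy, hP7]) (by rw [hπy, hPc, h2]), hπy, hPc, h3] at e1
    have e2 := mul_left_cancel e1
    have e3 := congrArg π e2
    rw [S.π_mul _ (S.zp_mem _) _ (by rcases two_cases (dR r (nu S x)) with t | t <;> rw [t] <;>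
      [(rw [zp_zero]; exact one_mem Q); (rw [zp_one]; exact p.u₁_mem d)]),
      S.π_mul _ (S.zp_mem _) _ (p.up_mem _), S.π_zp, S.π_zp, zero_add, zero_add, p.up_π] at e3
    rcases two_cases (dR r (nu S x)) with t | t <;> rcases two_cases (dR r (mu S x)) with t' | t' <;>
      rw [t, t'] at e3 ⊢ <;> simp only [zp_zero, zp_one, S.π_one, d.π_u₁, zero_smul, one_smul] at e3
    · exact ⟨rfl, rfl⟩
    all_goals (revert e3; decide +kernel)
  exact ⟨dR_nondeg _ fun s => by rw [dR_symm]; exact (key s).1, dR_nondeg _ fun s => by rw [dR_symm]; exact (key s).2⟩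

theorem mu_zero {f : G} (hf : InF S g u₁ f) (h : mu S f = 0) :
    (∀ v, S.act f v = M 1 0 v) ∨ ∀ v, S.act f v = M 1 φA v := by
  obtain ⟨φ, hφ, hff, hd, hμ⟩ := p.inF_form d hf
  rcases (proj_facts φ hφ hd).2.1 (hμ ▸ h) with e | e <;> subst e
  exacts [Or.inl hff, Or.inr hff]

/-- `g Q g⁻¹` and `g₁ Q g₁⁻¹` meet over `φA` in `C(z)`. -/
theorem exists_axis : ∃ a, a ∈ S.sie g ∧ c₁⁻¹ * a * c₁ ∈ S.sie g ∧ (∀ v, S.act a v = M 1 φA v) ∧ a * a = 1 := by
  obtain ⟨f, hfs, hff⟩ := p.exists_sie std_A.1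
  have hfF : InF S g u₁ f := ⟨hfs, mul_inv_eq_iff_eq_mul.1 (by
    rw [p.pair_formula hfs std_A.1 hff (p.u₁_mem d) (by rw [d.π_u₁]; exact aA_facts.1), d.π_u₁, aA_facts.2.1,
      std_A.2.2.2.2.2.2.2, zp_zero, zp_zero, one_mul, mul_one])⟩
  obtain ⟨hfz, hfu⟩ := p.sie_comm hfs
  -- the action of `f` is also Siegel at `u₁`
  set T : V → V := fun v => S.act c₁⁻¹ (S.act f (S.act c₁ v))
  have hcz' := cz_inv d.cz
  have hT : Iso T := (S.act_iso hcz').comp ((S.act_iso hfz).comp (S.act_iso d.cz))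
  have hfa : S.act f (P φA) = P φA := by rw [← d.π_u₁, S.act_π hfz (p.u₁_mem d), hfF.2, mul_inv_cancel_right]
  obtain ⟨σ, φ, hφ, hTf⟩ := exists_form hT (by
    show S.act c₁⁻¹ (S.act f (S.act c₁ u0)) = u0
    rw [p.act_c₁ d, hfa, p.act_c₁_inv d])
  have hfperp : ∀ v, v 7 = 0 → S.act f v + v = dot (co v) φA • u0 := fun v hv => by
    rw [hff]; exact M_one_perp φA hv
  obtain rfl : σ = 1 := by
    refine perm_ext fun i j _ => ?_
    obtain ⟨hco, -, h7⟩ := co_P _ (ev_pr i j)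
    have h0 : co (T (P (pr i j)) + P (pr i j)) = 0 := by
      have hB : B (S.act c₁ (P (pr i j))) (P φA) = 0 := by
        rw [← p.act_c₁ d, (S.act_iso d.cz).polar, B_u0, h7]
      have e : T (P (pr i j)) + P (pr i j) =
          S.act c₁⁻¹ (S.act f (S.act c₁ (P (pr i j))) + S.act c₁ (P (pr i j))) := by
        rw [(S.act_iso hcz').add, S.act_inv_act d.cz]
      rw [e]
      set v := S.act c₁ (P (pr i j))
      rcases two_cases (v 7) with t | t
      · have hv : dot (co v) φA = 0 := by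
          have := perp_polar t aA_facts.1
          rw [aA_facts.2.1, hB] at this
          exact this.symm
        rw [hfperp v t, hv, zero_smul, (S.act_iso hcz').map_zero, co_zero]
      · have hm := M_one_co std_A.1 v
        rw [t, one_smul] at hm
        obtain ⟨k1, k2, -⟩ := hm
        rw [← hff] at k1 k2
        have e2 : S.act f v + v = P φA + (S.act f v + v) 6 • u0 := by
          conv_lhs => rw [(perp_facts _ k2).2.1, k1]
        have h6 : (S.act f v + v) 6 = 0 := by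
          have hq : B (S.act f v + v) (S.act c₁ y0) = B (S.act f v + v) (S.act c₁ y0) := rfl
          have hiso := (S.act_iso hfz).polar v v
          have hqf : q (S.act f v) = q v := (S.act_iso hfz).quad v
          have e3 : S.act f v = v + (S.act f v + v) := by rw [add_left_comm, add_self_V, add_zero]
          rw [e3, q_add, (perp_facts _ k2).1, k1, std_A.2.2.2.1, e2, add_zero,
            B_comm v, B_add_left, B_comm (P φA) v, hB, zero_add] at hqf
          have h6' : B ((S.act f v + v) 6 • u0) v = 0 := by simpa using hqf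
          rcases two_cases ((S.act f v + v) 6) with t' | t'
          · exact t'
          · rw [t', one_smul, B_comm, B_u0, t] at h6'; exact absurd h6' one_ne_zero
        rw [e2, h6, zero_smul, add_zero, p.act_c₁_inv d, co_u0]
    rw [co_add, hTf, (co_M hφ σ _).1, hco, h7, zero_smul, add_zero] at h0
    rw [pm_one (ev_pr i j)]
    calc pm σ (pr i j) = pm σ (pr i j) + (pr i j + pr i j) := by rw [add_self_W, add_zero]
      _ = pr i j := by rw [← add_assoc, h0, zero_add]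
  obtain ⟨e', he', hef⟩ := p.exists_sie hφ
  set e := c₁ * e' * c₁⁻¹ with he
  have hez : e * z = z * e := cz_mul (cz_mul d.cz (p.sie_comm he').1) hcz'
  have hact : ∀ v, S.act e v = S.act f v := fun v => by
    rw [he, S.act_conj d.cz (p.sie_comm he').1, hef, ← hTf]
    show S.act c₁ (S.act c₁⁻¹ (S.act f (S.act c₁ (S.act c₁⁻¹ v)))) = _
    rw [S.act_act_inv d.cz, S.act_act_inv d.cz]
  have hsie : c₁⁻¹ * e * c₁ ∈ S.sie g := by
    rw [show c₁⁻¹ * e * c₁ = e' by rw [he]; group]; exact he'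
  have heu : e * u = u * e := by
    have hπ : π (e * u * e⁻¹) = u0 := by rw [← S.act_π hez p.u_mem, hact, p.π_u, hff, M_u0]
    rcases S.π_eq p.u_mem (S.norm e hez u p.u_mem) (p.π_u.trans hπ.symm) with t | t
    · exact mul_inv_eq_iff_eq_mul.1 t
    · exfalso
      have hu' := S.norm _ hcz' u p.u_mem
      have hπ' : π (c₁⁻¹ * u * c₁⁻¹⁻¹) = S.act c₁⁻¹ u0 := by rw [← p.π_u, S.act_π hcz' p.u_mem]
      have h7 : S.act c₁⁻¹ u0 7 = 0 := by rw [p.seven_c₁ d, B_comm, aA_facts.2.2.2.2.2.1]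
      have h := p.pair_formula he' hφ hef hu' (by rw [hπ', h7])
      have e5 : e * u * e⁻¹ = u * (zp z (dot (co (π (c₁⁻¹ * u * c₁⁻¹⁻¹))) φ) *
          zp u₁ (dot (co (π (c₁⁻¹ * u * c₁⁻¹⁻¹))) φ)) := by
        rw [← p.conj_zp_u d]
        calc e * u * e⁻¹ = c₁ * (e' * (c₁⁻¹ * u * c₁⁻¹⁻¹) * e'⁻¹) * c₁⁻¹ := by rw [he]; group
          _ = _ := by
            rw [h]
            calc _ = u * (c₁ * zp z (dot (co (π (c₁⁻¹ * u * c₁⁻¹⁻¹))) φ) * c₁⁻¹ *
                  (c₁ * zp u (dot (co (π (c₁⁻¹ * u * c₁⁻¹⁻¹))) φ) * c₁⁻¹)) := by group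
              _ = _ := by rw [S.zp_comm _ d.cz, mul_inv_cancel_right]
      rcases two_cases (dot (co (π (c₁⁻¹ * u * c₁⁻¹⁻¹))) φ) with t' | t' <;> rw [t'] at e5 <;>
        rw [t] at e5 <;> have e6 := mul_left_cancel e5
      · rw [zp_zero, zp_zero, one_mul] at e6; exact S.extra.z_ne e6
      · rw [zp_one, zp_one, left_eq_mul] at e6
        exact (show u₁ ≠ 1 from fun e' => by
          have := d.π_u₁; rw [e', S.π_one] at this; exact aA_facts.2.2.2.1 this.symm) e6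
  have heE : InE S g u c₁ e := ⟨hsie, heu⟩
  set y := e⁻¹ * f with hy
  have hyQ : y ∈ Q := S.mem_of_act_id (cz_mul (cz_inv hez) hfz) fun v => by
    rw [S.act_mul (cz_inv hez) hfz, ← hact, S.act_inv_act hez]
  have hν : nu S e = 0 := by
    rw [nu, hact, hfperp y1 y1_facts.1]
    rcases two_cases (dot (co y1) φA) with t | t <;> rw [t]
    · rw [zero_smul, co_zero]; decide
    · rw [one_smul, co_u0]; decide
  have hμ : mu S f = 0 := by rw [mu, hff, (y0_move _ std_A.1).1, proj_φA]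
  have hπy : π y = 0 ∨ π y = u0 ∨ π y = P φA ∨ π y = P φA + u0 := by
    refine perp_span _ fun w hw7 hwA => ?_
    obtain ⟨x, hx, rfl⟩ := S.π_surj w
    refine (S.comm_iff hyQ hx).1 ?_
    have zero : dR (proj (co (π x))) 0 = 0 := by simp [dR]
    have e1 := p.inF_pair d hfF hx hw7 hwA
    have e2 := p.inE_pair d heE hx hw7 hwA
    rw [hμ, zero, zp_zero, zp_zero, one_mul, mul_one] at e1
    rw [hν, zero, zp_zero, zp_zero, one_mul, mul_one] at e2
    calc y * x = e⁻¹ * (f * x * f⁻¹) * f := by rw [hy]; group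
      _ = e⁻¹ * (e * x * e⁻¹) * f := by rw [e1, e2]
      _ = x * y := by rw [hy]; group
  obtain ⟨s, t, r, hyeq⟩ : ∃ s t r : ZMod 2, y = zp z s * zp u₁ t * zp u r := by
    have hu1 : ∀ t, zp u₁ t ∈ Q := fun t => by
      rcases two_cases t with e | e <;> rw [e]
      · rw [zp_zero]; exact one_mem Q
      · rw [zp_one]; exact p.u₁_mem d
    obtain ⟨t, r, htr⟩ : ∃ t r : ZMod 2, π y = t • P φA + r • u0 := by
      rcases hπy with e | e | e | e
      exacts [⟨0, 0, by simp [e]⟩, ⟨0, 1, by simp [e]⟩, ⟨1, 0, by simp [e]⟩, ⟨1, 1, by simp [e]⟩]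
    have hπ1 : π (zp u₁ t * zp u r) = π y := by
      rw [S.π_mul _ (hu1 t) _ (p.up_mem r), p.up_π, htr]
      rcases two_cases t with e | e <;> rw [e]
      · rw [zp_zero, S.π_one, zero_smul]
      · rw [zp_one, one_smul, d.π_u₁]
    rcases S.π_eq (mul_mem (hu1 t) (p.up_mem r)) hyQ hπ1 with e | e
    · exact ⟨0, t, r, by rw [e, zp_zero, one_mul]⟩
    · exact ⟨1, t, r, by rw [e, zp_one, ← S.extra.z_comm (mul_mem (hu1 t) (p.up_mem r)), mul_assoc]⟩
  set a := f * zp u r with ha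
  have hur : zp u r ∈ S.sie g := by
    rcases two_cases r with e' | e' <;> rw [e']
    · rw [zp_zero]; exact one_mem _
    · rw [zp_one]; exact p.u_sie
  have haF : a ∈ S.sie g := mul_mem hfs hur
  have hae : a = e * (zp z s * zp u₁ t) := by
    have hrr : zp u r * zp u r = 1 := by rw [← p.up_add, CharTwo.add_self_eq_zero, zp_zero]
    calc a = e * y * zp u r := by rw [ha, hy, mul_inv_cancel_left]
      _ = e * (zp z s * zp u₁ t) * (zp u r * zp u r) := by rw [hyeq]; group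
      _ = _ := by rw [hrr, mul_one]
  have haE : c₁⁻¹ * a * c₁ ∈ S.sie g := by
    have h1 : c₁⁻¹ * zp z s * c₁ = zp z s := by
      rw [mul_assoc, ← S.zp_comm _ d.cz, inv_mul_cancel_left]
    have h2 : c₁⁻¹ * zp u₁ t * c₁ = zp u t := by rw [← p.conj_zp_u d]; group
    rw [hae, show c₁⁻¹ * (e * (zp z s * zp u₁ t)) * c₁ =
      (c₁⁻¹ * e * c₁) * ((c₁⁻¹ * zp z s * c₁) * (c₁⁻¹ * zp u₁ t * c₁)) by group, h1, h2]
    refine mul_mem hsie (mul_mem ?_ ?_)
    · rcases two_cases s with e' | e' <;> rw [e']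
      · rw [zp_zero]; exact one_mem _
      · rw [zp_one]; exact p.z_sie
    · rcases two_cases t with e' | e' <;> rw [e']
      · rw [zp_zero]; exact one_mem _
      · rw [zp_one]; exact p.u_sie
  have hact_a : ∀ v, S.act a v = M 1 φA v := fun v => by
    rw [ha, S.act_mul hfz (S.mem_cz (p.up_mem r)), S.act_Q (p.up_mem r), hff]
  exact ⟨a, haF, haE, hact_a, by rw [p.sie_sq haF std_A.1 hact_a, std_A.2.2.2.1, zp_zero]⟩

theorem meet_mem {a : G} (ha : a ∈ S.sie g) (ha' : c₁⁻¹ * a * c₁ ∈ S.sie g)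
    (haf : ∀ v, S.act a v = M 1 φA v) {x : G} (hx : x ∈ S.sie g) (hx' : c₁⁻¹ * x * c₁ ∈ S.sie g) :
    ∃ s t, x = zp z s * zp a t := by
  have small : ∀ {w : G}, w ∈ S.sie g → c₁⁻¹ * w * c₁ ∈ S.sie g → (∀ v, S.act w v = M 1 0 v) →
      ∃ s, w = zp z s := by
    intro w hw hw' hwf
    have hwQ := p.sie_mem_Q hw hwf
    rcases p.meet_cases hwQ (mem_sie.1 hw).2 with e | e | e | e
    · exact ⟨0, by rw [e, zp_zero]⟩
    · exact ⟨1, by rw [e, zp_one]⟩
    all_goals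
      exfalso
      have hwQ' := S.norm _ (cz_inv d.cz) w hwQ
      have hπ : π (c₁⁻¹ * w * c₁⁻¹⁻¹) = S.act c₁⁻¹ u0 := by
        rw [← S.act_π (cz_inv d.cz) hwQ, e]
        first | rw [p.π_u] | rw [S.π_mul u p.u_mem z S.extra.z_mem, p.π_u, S.π_z, add_zero]
      have hm := p.meet hwQ' (by simpa using (mem_sie.1 hw').2)
      rw [hπ] at hm
      rcases hm with e' | e'
      · have := (S.act_iso (cz_inv d.cz)).inj (e'.trans (S.act_iso (cz_inv d.cz)).map_zero.symm)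
        exact absurd this (by decide)
      · have := congrArg (S.act c₁) e'
        rw [S.act_act_inv d.cz, p.act_c₁ d] at this
        exact aA_facts.2.2.2.2.1 this.symm
  rcases p.mu_zero d (p.meet_comm d hx hx').1 (p.meet_params d hx hx').1 with h | h
  · obtain ⟨s, hs⟩ := small hx hx' h
    exact ⟨s, 0, by rw [hs, zp_zero, mul_one]⟩
  · have hm : x * a ∈ S.sie g := mul_mem hx ha
    have hm' : c₁⁻¹ * (x * a) * c₁ ∈ S.sie g := by
      have := mul_mem hx' ha'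
      rwa [show c₁⁻¹ * x * c₁ * (c₁⁻¹ * a * c₁) = c₁⁻¹ * (x * a) * c₁ by group] at this
    obtain ⟨s, hs⟩ := small hm hm' fun v => by
      rw [p.sie_mul_form hx ha std_A.1 std_A.1 h haf, add_self_W]
    have haa : a * a = 1 := by rw [p.sie_sq ha std_A.1 haf, std_A.2.2.2.1, zp_zero]
    exact ⟨s, 1, by rw [zp_one, ← hs, mul_assoc, haa, mul_one]⟩

/-- The commutator of the two parts. -/
theorem comm_val' {a : G} (ha : a ∈ S.sie g) (ha' : c₁⁻¹ * a * c₁ ∈ S.sie g)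
    (haf : ∀ v, S.act a v = M 1 φA v) {e f : G} (he : InE S g u c₁ e) (hf : InF S g u₁ f) :
    ∃ L, e * f * e⁻¹ = zp z L * zp a (dR (mu S f) (nu S e)) * f := by
  obtain ⟨hez, -⟩ := p.inE_cz d he
  obtain ⟨hfz, hfu⟩ := p.sie_comm hf.1
  have h1 : e * f * e⁻¹ ∈ S.sie g :=
    mem_sie.2 ⟨cz_mul (cz_mul hez hfz) (cz_inv hez), p.norm_conj he.2 (mem_sie.1 hf.1).2⟩
  have h2 : c₁⁻¹ * (f * e⁻¹ * f⁻¹) * c₁ ∈ S.sie g := by
    have hcz' := cz_inv d.cz
    have hk : (c₁⁻¹ * f * c₁) * u = u * (c₁⁻¹ * f * c₁) := by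
      calc c₁⁻¹ * f * c₁ * u = c₁⁻¹ * (f * (c₁ * u * c₁⁻¹)) * c₁ := by group
        _ = c₁⁻¹ * (c₁ * u * c₁⁻¹ * f) * c₁ := by rw [d.conj, hf.2]
        _ = _ := by group
    have hkz : (c₁⁻¹ * f * c₁) * z = z * (c₁⁻¹ * f * c₁) := cz_mul (cz_mul hcz' hfz) d.cz
    have hi := inv_mem he.1
    rw [show c₁⁻¹ * (f * e⁻¹ * f⁻¹) * c₁ = (c₁⁻¹ * f * c₁) * (c₁⁻¹ * e * c₁)⁻¹ * (c₁⁻¹ * f * c₁)⁻¹ by group]
    exact mem_sie.2 ⟨cz_mul (cz_mul hkz (mem_sie.1 hi).1) (cz_inv hkz), p.norm_conj hk (mem_sie.1 hi).2⟩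
  have hr : e * f * e⁻¹ * f⁻¹ ∈ S.sie g := mul_mem h1 (inv_mem hf.1)
  have hr' : c₁⁻¹ * (e * f * e⁻¹ * f⁻¹) * c₁ ∈ S.sie g := by
    have := mul_mem he.1 h2
    rwa [show c₁⁻¹ * e * c₁ * (c₁⁻¹ * (f * e⁻¹ * f⁻¹) * c₁) = c₁⁻¹ * (e * f * e⁻¹ * f⁻¹) * c₁ by group] at this
  obtain ⟨s, t, hst⟩ := p.meet_mem d ha ha' haf hr hr'
  suffices ht : t = dR (mu S f) (nu S e) by exact ⟨s, by rw [← ht, ← hst, inv_mul_cancel_right]⟩
  obtain ⟨hn7, hnd, -, hline, -⟩ := p.inE_action d he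
  obtain ⟨φ, hφ, hff, hd, hμ⟩ := p.inF_form d hf
  have hfix : S.act e u0 = u0 := by rw [← p.π_u, S.act_π hez p.u_mem, he.2, mul_inv_cancel_right]
  obtain ⟨σ, ψ, hψ, hef⟩ := exists_form (S.act_iso hez) hfix
  obtain ⟨hcs, hcf⟩ := p.sie_conj hez he.2 hψ hef hf.1 hφ hff
  obtain ⟨hPc, -, hP7⟩ := co_P φ hφ
  have hBv : B (P φ) (P φA) = 0 := by rw [perp_polar hP7 aA_facts.1, aA_facts.2.1, hPc, hd]
  have hk : B (P φ) (S.act e y1 + y1) = dR (mu S f) (nu S e) := by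
    rw [perp_polar hP7 hn7, hPc, dot_proj hφ (ev_co _) hd hnd, hμ]; rfl
  have hpm : pm σ φ + φ = dR (mu S f) (nu S e) • φA := by
    have h := congrArg co (hline _ hBv)
    rw [hk, co_add, hef, (co_M hψ σ _).1, hPc, hP7, zero_smul, add_zero] at h
    rcases two_cases (dR (mu S f) (nu S e)) with t' | t' <;> rw [t'] at h ⊢
    · rw [zero_smul, co_zero] at h; rw [zero_smul, h]
    · rw [one_smul, aA_facts.2.1] at h; rw [one_smul, h]
  have hform := p.sie_mul_form hcs (inv_mem hf.1) (ev_pm hφ σ) hφ hcf (p.sie_inv_form hf.1 hφ hff)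
  have hform' : ∀ v, S.act (zp z s * zp a t) v = M 1 (t • φA) v := fun v => by
    have htz : zp a t * z = z * zp a t := by
      rcases two_cases t with e' | e' <;> rw [e']
      · simp [zp_zero]
      · rw [zp_one]; exact (p.sie_comm ha).1
    rw [S.act_mul (S.mem_cz (S.zp_mem s)) htz, S.act_Q (S.zp_mem s)]
    rcases two_cases t with e' | e' <;> rw [e']
    · rw [zp_zero, zero_smul, S.act_one, evM_zero]
    · rw [zp_one, one_smul, haf]
  have hts : Ev (t • φA) := by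
    rcases two_cases t with e' | e' <;> rw [e']
    · rw [zero_smul]; exact ev_zero
    · rw [one_smul]; exact std_A.1
  have := (M_unique (σ := 1) (τ := 1) hts (ev_add (ev_pm hφ σ) hφ) fun v => by
    rw [← hform', ← hform, hst]).2
  rw [hpm] at this
  have h0 : t * φA 0 = dR (mu S f) (nu S e) * φA 0 := congrFun this 0
  simpa [φA] using h0

end Pair

end Co

end CfsgLib.Characterizations.CoType
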