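import Cfsg.Agent.Lib.Characterizations.CoType.Golay.Coords
import Cfsg.Agent.Lib.Characterizations.CoType.Golay.Flip
import Cfsg.Agent.Lib.Characterizations.CoType.Golay.FusionSolve

/-!
# Groups of Conway type: the conjugates of `z` in the subgroup of order `2¹¹` under its normaliser
-/

set_option autoImplicit false
set_option linter.style.haveILetI false
set_option linter.unusedSectionVars false
set_option maxRecDepth 4000

namespace CfsgLib.Characterizations.CoType

open CfsgLib.ThreeTransp.Extraspecial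

variable {G : Type*} [Group G] [Finite G] {z : G} {Q : Subgroup G} {π : G → V}

theorem lmx_xor : ∀ (L : List ℕ) (a b : ℕ), lmx L (a ^^^ b) = lmx L a ^^^ lmx L b
  | [], _, _ => by simp [lmx]
  | g :: l, a, b => by
      simp only [lmx, xor_div_two, lmx_xor l, xor_mod_two]
      by_cases ha : a % 2 = 1 <;> by_cases hb : b % 2 = 1 <;>
        simp [ha, hb, Nat.xor_assoc, Nat.xor_left_comm]

theorem lmx_map_xor (f g : ℕ → ℕ) : ∀ (l : List ℕ) (v : ℕ),
    lmx (l.map fun j => f j ^^^ g j) v = lmx (l.map f) v ^^^ lmx (l.map g) v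
  | [], _ => by simp [lmx]
  | j :: l, v => by
      simp only [List.map_cons, lmx, lmx_map_xor f g l]
      split <;> simp [Nat.xor_assoc, Nat.xor_left_comm]

theorem genL_range : ∀ i : Fin 3, genL i.1 = (List.range 11).map fun j => (genL i.1).getD j 0 := by decide +kernel

theorem lmx_pow : ∀ v : Fin 2048, lmx ((List.range 11).map fun j => 2 ^ j) v.1 = v.1 := by decide +kernel

theorem layers_closed {ks : List ℕ} (hks : ∀ k ∈ ks, k < 7) (R : ℕ → Prop)
    (hstep : ∀ k ∈ ks, ∀ v < 2048, R (op k v) → R v) : ∀ L : List ℕ, layersOK ks L = true →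
    (∀ v < 2048, (L.headD 0).testBit v = true → R v) → ∀ v < 2048, L.getLast!.testBit v = true → R v
  | [], _, _, v, _, hb => absurd hb (by simp)
  | [L₀], _, h, v, hv, hb => h v hv (by simpa using hb)
  | L₀ :: L₁ :: r, hok, h, v, hv, hb => by
      simp only [layersOK, Bool.and_eq_true, List.all_eq_true, List.mem_range, List.any_eq_true, Bool.or_eq_true] at hok
      refine layers_closed hks R hstep (L₁ :: r) hok.2 (fun w hw hw1 => ?_) v hv (by simpa using hb)
      simp only [List.headD_cons] at hw1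
      rcases hok.1 w hw with (h1 | h1) | ⟨k, hk, h1⟩
      · simp [hw1] at h1
      · exact h w hw h1
      · exact hstep k hk w hw (h _ (op_facts ⟨k, hks k hk⟩ ⟨w, hw⟩) h1)

theorem lmx_lt_two : ∀ {l : List ℕ}, (∀ x ∈ l, x < 2) → ∀ v, lmx l v < 2
  | [], _, _ => by simp [lmx]
  | g :: l, h, v => by
      simp only [lmx]
      refine Nat.xor_lt_two_pow (n := 1) ?_ (lmx_lt_two (fun x hx => h x (List.mem_cons_of_mem _ hx)) _)
      split
      · exact h g List.mem_cons_self
      · norm_num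

/-- The coordinates of a code. -/
abbrev cd (z : G) (xs cs : List G) : ℕ → G := wordVal (base11 z xs cs)

namespace Co

variable (S : Co z Q π)

/-- Conjugacy to `z` under the normaliser of the subgroup of order `2¹¹`. -/
def Fused (S : Co z Q π) (x : G) : Prop := ∃ n ∈ Subgroup.normalizer (S.asub : Set G), n * z * n⁻¹ = x

theorem mem_norm_asub {k : G} (h : ∀ c ∈ S.asub, k * c * k⁻¹ ∈ S.asub) :
    k ∈ Subgroup.normalizer (S.asub : Set G) := by
  refine Subgroup.mem_normalizer_iff.2 fun b => ⟨fun hb => h b hb, fun hb => ?_⟩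
  let f : ↥S.asub → ↥S.asub := fun c => ⟨_, h c c.2⟩
  have hf : Function.Injective f := fun c c' e => Subtype.ext (by
    have := congrArg Subtype.val e
    exact mul_left_cancel (mul_right_cancel this))
  obtain ⟨c, hc⟩ := Finite.injective_iff_surjective.1 hf ⟨_, hb⟩
  have hc' : k * (c : G) * k⁻¹ = k * b * k⁻¹ := congrArg Subtype.val hc
  rw [← mul_left_cancel (mul_right_cancel hc')]
  exact c.2

theorem fused_conj {n x : G} (hn : n ∈ Subgroup.normalizer (S.asub : Set G)) :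
    S.Fused (n * x * n⁻¹) ↔ S.Fused x := by
  constructor
  · rintro ⟨m, hm, e⟩
    exact ⟨n⁻¹ * m, mul_mem (inv_mem hn) hm, by
      calc n⁻¹ * m * z * (n⁻¹ * m)⁻¹ = n⁻¹ * (m * z * m⁻¹) * n := by group
        _ = x := by rw [e]; group⟩
  · rintro ⟨m, hm, e⟩
    exact ⟨n * m, mul_mem hn hm, by rw [← e]; group⟩

end Co

namespace Frame11

variable {S : Co z Q π} {u g u₁ c₁ a : G} {L : R4 → R4 → ZMod 2} {xs cs : List G} (F : Frame11 S xs cs)
  (D : S.Gd u g u₁ c₁ a L)

include F D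

theorem cd_lin (m : ℕ → ℕ) {v : ℕ} (k : G) (hm : ∀ j : Fin 11, k * cd z xs cs (2 ^ j.1) * k⁻¹ = cd z xs cs (m j.1))
    (hv : v < 2048) : k * cd z xs cs v * k⁻¹ = cd z xs cs (lmx ((List.range 11).map m) v) := by
  have hc := fun x (hx : x ∈ S.asub) y (hy : y ∈ S.asub) => D.asub_comm hx hy
  have hs := fun x (hx : x ∈ S.asub) => D.asub_sq hx
  conv_lhs => rw [show v = lmx ((List.range 11).map fun j => 2 ^ j) v from (lmx_pow ⟨v, hv⟩).symm]
  simp only [cd] at hm ⊢
  rw [wordVal_lmx (K := S.asub) hc hs F.base_mem, wordVal_lmx (K := S.asub) hc hs F.base_mem]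
  have hmap := wordVal_map (MulAut.conj k).toMonoidHom
    (((List.range 11).map fun j => 2 ^ j).map (wordVal (base11 z xs cs))) v
  rw [MulEquiv.coe_toMonoidHom, MulAut.conj_apply] at hmap
  rw [hmap]
  congr 1
  refine List.ext_getElem (by simp) fun j hj hj' => ?_
  simp only [List.getElem_map, List.getElem_range, MulAut.conj_apply]
  exact hm ⟨j, by simpa using hj'⟩

theorem cd_one : cd z xs cs 1 = z := by simp [cd, base11, wordVal, wordVal_zero]

theorem cd_flip (v : ℕ) : cd z xs cs (v ^^^ 1) = cd z xs cs v * z := by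
  rw [cd, F.el_xor D, show wordVal (base11 z xs cs) 1 = z from F.cd_one D]

variable (hreal : ∀ i : Fin 3, Co.Gd.Real S xs (genM i.1))

theorem op_T (c : Fin 4) : ∃ m ∈ Subgroup.normalizer (S.asub : Set G), m * z = z * m ∧
    ∀ v < 2048, m * cd z xs cs v * m⁻¹ = cd z xs cs (Tm c.1 v) := by
  obtain ⟨y, hy, hyπ⟩ := S.π_surj (yvec (2 ^ c.1))
  refine ⟨y, S.mem_norm_asub fun b hb => ?_, S.mem_cz hy, fun v hv => F.el_Tm D c hy hyπ ⟨v, hv⟩⟩
  obtain ⟨n, rfl⟩ := F.el_surj D hb
  rw [F.el_Tm D c hy hyπ n]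
  exact wordVal_mem F.base_mem _

include hreal

theorem op_gen (i : Fin 3) : ∃ (m : G) (es : ℕ → ℕ), m ∈ Subgroup.normalizer (S.asub : Set G) ∧ m * z = z * m ∧
    (∀ j : Fin 11, es j.1 < 2) ∧ ∀ v < 2048,
      m * cd z xs cs v * m⁻¹ = cd z xs cs (lmx (genL i.1) v ^^^ lmx ((List.range 11).map es) v) := by
  obtain ⟨k, hk, hkX, hex⟩ := F.el_gen D i (hreal i)
  choose e he hex using hex
  let es : ℕ → ℕ := fun j => if h : j < 11 then e ⟨j, h⟩ else 0
  refine ⟨k, es, S.mem_norm_asub (Co.xsub_stable hk hkX), hk, fun j => ?_, fun v hv => ?_⟩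
  · simp only [es, dif_pos j.2]; exact he _
  · rw [F.cd_lin D (fun j => (genL i.1).getD j 0 ^^^ es j) k (fun j => ?_) hv, lmx_map_xor, ← genL_range i]
    simp only [es, dif_pos j.2]
    exact hex j

theorem op_act {k : ℕ} (hk : k < 7) : ∃ m ∈ Subgroup.normalizer (S.asub : Set G), m * z = z * m ∧
    ∀ v < 2048, ∃ e < 2, m * cd z xs cs v * m⁻¹ = cd z xs cs (op k v ^^^ e) := by
  by_cases h4 : k < 4
  · obtain ⟨m, h1, h2, h3⟩ := F.op_T D ⟨k, h4⟩
    exact ⟨m, h1, h2, fun v hv => ⟨0, by norm_num, by rw [h3 v hv, op, if_pos h4, Nat.xor_zero]⟩⟩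
  · obtain ⟨m, es, h1, h2, he, h3⟩ := F.op_gen D hreal ⟨k - 4, by omega⟩
    refine ⟨m, h1, h2, fun v hv => ⟨lmx ((List.range 11).map es) v, ?_, by rw [h3 v hv, op, if_neg h4]⟩⟩
    refine lmx_lt_two (fun x hx => ?_) v
    obtain ⟨j, hj, rfl⟩ := List.mem_map.1 hx
    exact he ⟨j, List.mem_range.1 hj⟩

/-- Both, or none, of a pair. -/
def PairLike (Φ : Prop → Prop → Prop) : Prop := ∀ p q, Φ p q ↔ Φ q p

omit hreal in
theorem pair_step {Φ : Prop → Prop → Prop} (hΦ : PairLike Φ) (R : G → Prop)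
    (hR : ∀ n ∈ Subgroup.normalizer (S.asub : Set G), ∀ x, R (n * x * n⁻¹) ↔ R x)
    (hreal : ∀ i : Fin 3, Co.Gd.Real S xs (genM i.1)) {k : ℕ} (hk : k < 7) {v : ℕ} (hv : v < 2048) :
    Φ (R (cd z xs cs (op k v))) (R (cd z xs cs (op k v ^^^ 1))) ↔
      Φ (R (cd z xs cs v)) (R (cd z xs cs (v ^^^ 1))) := by
  obtain ⟨m, hm, hmz, hact⟩ := F.op_act D hreal hk
  obtain ⟨e, he, hme⟩ := hact v hv
  have e1 : R (cd z xs cs v) ↔ R (cd z xs cs (op k v ^^^ e)) := by rw [← hme, hR m hm]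
  have e2 : R (cd z xs cs (v ^^^ 1)) ↔ R (cd z xs cs (op k v ^^^ e ^^^ 1)) := by
    rw [← hR m hm (cd z xs cs (v ^^^ 1)), F.cd_flip D v, ← conj_mul, hme, hmz, mul_inv_cancel_right,
      ← F.cd_flip D]
  rw [propext e1, propext e2]
  obtain rfl | rfl : e = 0 ∨ e = 1 := by omega
  · simp only [Nat.xor_zero]
  · rw [Nat.xor_assoc, Nat.xor_self, Nat.xor_zero]
    exact hΦ _ _

end Frame11

end CfsgLib.Characterizations.CoType
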