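import Cfsg.Agent.Lib.Characterizations.CoType.Golay.Count

/-!
# Groups of Conway type: one half of each non-degenerate class is fused to `z`
-/

set_option autoImplicit false
set_option linter.style.haveILetI false
set_option linter.unusedSectionVars false
set_option maxRecDepth 4000

namespace CfsgLib.Characterizations.CoType

open CfsgLib.ThreeTransp.Extraspecial

variable {G : Type*} [Group G] [Finite G] {z : G} {Q : Subgroup G} {π : G → V}

theorem prime_cases : Nat.Prime 311 ∧ Nat.Prime 71 ∧ 71 ∣ 1207 := by norm_num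

theorem half_seed : ∀ v : Fin 2048, mNd.testBit v.1 = true → mHalf.testBit v.1 = true →
    v.1 / 32 * 32 < 2048 ∧ mHalf.testBit (v.1 / 32 * 32) = true := by decide +kernel

namespace Frame11

variable {S : Co z Q π} {u g u₁ c₁ a : G} {L : R4 → R4 → ZMod 2} {xs cs : List G} (F : Frame11 S xs cs)
  (D : S.Gd u g u₁ c₁ a L) (hreal : ∀ i : Fin 3, Co.Gd.Real S xs (genM i.1)) (hca : cs.getD 0 1 = a)

include F D hreal hca

/-- Exactly one of each non-degenerate pair is fused. -/
theorem exactly_one : ∀ v < 2048, mNd.testBit v = true →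
    (S.Fused (cd z xs cs (v ^^^ 1)) ↔ ¬ S.Fused (cd z xs cs v)) := by
  obtain ⟨c311, c1207, -⟩ := count_facts
  obtain ⟨p311, p71, d71⟩ := prime_cases
  have hN := F.card_fused_dvd D
  have hR : ∀ n ∈ Subgroup.normalizer (S.asub : Set G), ∀ x, S.Fused (n * x * n⁻¹) ↔ S.Fused x :=
    fun n hn x => S.fused_conj hn
  have hnd := F.pair_class D hreal (Φ := fun p q => ¬ p ∧ ¬ q) (fun _ _ => and_comm) S.Fused hR (r := 384)
    layers_ok.2.2.2.1 head_pairs.2.2.2
  have hboth := F.pair_class D hreal (Φ := fun p q => p ∧ q) (fun _ _ => and_comm) S.Fused hR (r := 384)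
    layers_ok.2.2.2.1 head_pairs.2.2.2
  have hbase := F.fused_base D hreal hca
  intro v hv hb
  by_cases h0 : ¬ S.Fused (cd z xs cs 384) ∧ ¬ S.Fused (cd z xs cs (384 ^^^ 1))
  · exfalso
    haveI : Fact (Nat.Prime 311) := ⟨p311⟩
    refine D.prime_absurd (p := 311) (by norm_num) ?_ fun k hk e =>
      bad_primes ⟨k, by omega⟩ (Or.inl e)
    refine dvd_trans (dvd_of_eq ?_) hN
    rw [F.card_pred D (fun w => mBase.testBit w) fun w hw => ?_, c311]
    cases hnw : mNd.testBit w
    · exact hbase w hw hnw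
    · exact iff_of_false ((hnd w hw hnw).2 h0).1 (by rw [((cover ⟨w, hw⟩).2.2.2.1 hnw).1]; simp)
  by_cases h1 : S.Fused (cd z xs cs 384) ∧ S.Fused (cd z xs cs (384 ^^^ 1))
  · exfalso
    haveI : Fact (Nat.Prime 71) := ⟨p71⟩
    refine D.prime_absurd (p := 71) (by norm_num) ?_ fun k hk e =>
      bad_primes ⟨k, by omega⟩ (Or.inr e)
    refine dvd_trans (d71.trans (dvd_of_eq ?_)) hN
    rw [F.card_pred D (fun w => mBase.testBit w || mNd.testBit w) fun w hw => ?_, c1207]
    cases hnw : mNd.testBit w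
    · simp only [Bool.or_false]; exact hbase w hw hnw
    · exact iff_of_true ((hboth w hw hnw).2 h1).1 (by simp)
  by_cases hv' : S.Fused (cd z xs cs v)
  · exact iff_of_false (fun h => h1 ((hboth v hv hb).1 ⟨hv', h⟩)) (not_not.2 hv')
  · refine iff_of_true ?_ hv'
    by_contra h
    exact h0 ((hnd v hv hb).1 ⟨hv', h⟩)

/-- A half moves as one. -/
theorem half_const : ∀ v < 2048, mHalf.testBit v = true →
    (S.Fused (cd z xs cs v) ↔ S.Fused (cd z xs cs (v / 32 * 32))) := by
  refine layers_closed (ks := List.range 4) (fun k hk => by have := List.mem_range.1 hk; omega)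
    (fun v => S.Fused (cd z xs cs v) ↔ S.Fused (cd z xs cs (v / 32 * 32))) (fun k hk v hv h => ?_) layHalf
    layers_ok.2.2.2.2 fun v hv h => ?_
  · have hk4 : k < 4 := List.mem_range.1 hk
    have hop : op k v = Tm k v := if_pos hk4
    obtain ⟨m, hm, -, hT⟩ := F.op_T D ⟨k, hk4⟩
    rw [hop, (half_roots ⟨v, hv⟩).2.2.2.2.2 ⟨k, hk4⟩, ← hT v hv, S.fused_conj hm] at h
    exact h
  · rw [← (half_roots ⟨v, hv⟩).2.2.2.2.1 h]

/-- The fused codes are given by a choice on each class. -/
theorem exists_choice : ∃ X : ℕ → ZMod 2, ∀ v < 2048, mNd.testBit v = true →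
    (S.Fused (cd z xs cs v) ↔ X (v / 32) = if mHalf.testBit v then 0 else 1) := by
  classical
  refine ⟨fun o => if S.Fused (cd z xs cs (o * 32)) then 0 else 1, fun v hv hb => ?_⟩
  obtain ⟨-, -, hnd1, hflip⟩ := (cover ⟨v, hv⟩).2.2.2.1 hb
  simp only at hnd1 hflip
  cases hh : mHalf.testBit v
  · have hw : v ^^^ 1 < 2048 := Nat.xor_lt_two_pow (n := 11) hv (by norm_num)
    have h1 := F.exactly_one D hreal hca v hv hb
    have h2 := F.half_const D hreal hca _ hw (by rw [hflip, hh]; rfl)
    rw [show (v ^^^ 1) / 32 = v / 32 by rw [show (32 : ℕ) = 2 ^ 5 from rfl, Nat.xor_div_two_pow]; simp, h1] at h2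
    by_cases hf : S.Fused (cd z xs cs (v / 32 * 32))
    · simp [hf, h2.2 hf]
    · simp [hf, not_not.1 (mt h2.1 hf)]
  · rw [F.half_const D hreal hca v hv hh]
    by_cases hf : S.Fused (cd z xs cs (v / 32 * 32)) <;> simp [hf]

end Frame11

end CfsgLib.Characterizations.CoType
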