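import Cfsg.Agent.Lib.Characterizations.CoType.Golay.Coordinates

/-!
# Groups of Conway type: a lower bound for the normaliser of the subgroup of order `2¹¹`
-/

set_option autoImplicit false
set_option linter.style.haveILetI false
set_option linter.unusedSectionVars false
set_option maxRecDepth 100000
set_option maxHeartbeats 4000000

namespace CfsgLib.Characterizations.CoType

open CfsgLib.ThreeTransp.Extraspecial

/-- Words moving each basis point while fixing the earlier ones. -/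
def siftWords : List (List (List ℕ)) :=
  [[[], [0, 1], [1], [2, 0, 1], [2, 1], [0, 1, 2, 1], [1, 2, 1], [2, 2, 0, 1], [2, 2, 1], [0, 1, 2, 2, 1], [1, 2, 2, 1], [2, 0, 1, 2, 1], [2, 1, 2, 1], [0, 1, 2, 1, 2, 1], [1, 2, 1, 2, 1]],
   [[], [0], [2], [2, 0], [1, 2, 0, 2, 2, 1, 2, 0], [1, 2, 0, 2, 2, 1, 2], [2, 2], [2, 2, 0], [1, 0, 2, 2, 1, 2, 0, 1], [1, 2, 2, 0, 2, 1, 2, 2], [2, 1, 2, 0, 2, 2, 1, 2, 0], [2, 1, 2, 0, 2, 2, 1, 2], [1, 0, 2, 1, 2, 1, 2, 0, 1], [1, 0, 2, 1, 2, 1, 2, 0, 1, 0]],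
   [[], [2, 0, 2, 2], [0, 1, 2, 0, 2, 2, 1, 0], [1, 2, 0, 2, 2, 1], [2, 1, 0, 2, 2, 0, 1, 2, 0, 1, 0], [1, 2, 2, 1, 0, 2, 0, 1, 2, 2, 1, 0], [1, 0, 2, 2, 1, 0, 2, 0, 1, 2, 2, 0], [2, 2, 1, 0, 2, 0, 1, 2, 2, 0, 1, 0], [2, 2, 0, 1, 2, 2, 0, 2, 1, 2], [2, 2, 1, 2, 2, 0, 2, 1, 2], [0, 1, 2, 1, 0, 2, 0, 2, 0, 1, 2, 1], [2, 2, 1, 2, 1, 2, 0, 2, 1, 2, 1]],
   [[], [2, 2, 0, 2], [0, 1, 2, 2, 0, 2, 1, 0], [1, 2, 2, 0, 2, 1], [2, 1, 2, 0, 2, 2, 1, 2, 0, 2], [2, 1, 2, 0, 2, 2, 1, 2, 2], [2, 1, 2, 0, 2, 1, 2, 1, 2, 0, 2, 1], [1, 2, 1, 2, 0, 2, 2, 1, 2, 2, 1]]]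

/-- The image of a basis point under a word. -/
def siftImg (i : Fin 4) (w : List ℕ) : ℕ := lmx (wordM w) (2 ^ i.1)

theorem sift_ok : siftWords.map List.length = [15, 14, 12, 8] ∧ ∀ i : Fin 4,
    ((siftWords.getD i.1 []).map (siftImg i)).Nodup ∧ ∀ w ∈ siftWords.getD i.1 [],
      (∀ k ∈ w, k < 3) ∧ siftImg i w < 16 ∧ ∀ j : Fin 4, j.1 < i.1 → siftImg j w = 2 ^ j.1 := by
  decide +kernel

theorem wvec_inj : ∀ m n : Fin 16, wvec m.1 = wvec n.1 → m = n := by decide +kernel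

theorem genM_lt : ∀ i : Fin 3, ∀ n : Fin 16, lmx (genM i.1) n.1 < 16 := by decide +kernel

theorem wordM_facts : ∀ w : List ℕ, (∀ i ∈ w, i < 3) →
    (wordM w).length = 4 ∧ ∀ b : Fin 4, (wordM w).getD b.1 0 < 16
  | [], _ => ⟨rfl, by decide⟩
  | i :: w, hw => by
      obtain ⟨h1, h2⟩ := wordM_facts w fun j hj => hw j (List.mem_cons_of_mem _ hj)
      refine ⟨by simp [wordM, h1], fun b => ?_⟩
      have h3 := h2 b
      rw [List.getD_eq_getElem _ _ (by rw [h1]; exact b.2)] at h3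
      simp only [wordM]
      rw [List.getD_eq_getElem _ _ (by simp [h1]), List.getElem_map]
      exact genM_lt ⟨i, hw i List.mem_cons_self⟩ ⟨_, h3⟩

variable {G : Type*} [Group G] [Finite G] {z : G} {Q : Subgroup G} {π : G → V}

namespace Co

variable (S : Co z Q π)

include S in
theorem card_Q : Nat.card ↥Q = 512 := by
  classical
  have h := S.card_pre fun _ => True
  rw [show (Finset.univ.filter fun _ : V => True).card = 256 by
    rw [Finset.filter_true, Finset.card_univ]; simp] at h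
  rw [show (512 : ℕ) = 2 * 256 from rfl, ← h]
  exact Nat.card_congr
    { toFun := fun x => ⟨x.1, x.2, trivial⟩
      invFun := fun x => ⟨x.1, x.2.1⟩
      left_inv := fun x => rfl
      right_inv := fun x => rfl }

/-- The action on the points of the maximal singular subspace is given by a matrix. -/
def WAct (S : Co z Q π) (k : G) (m : List ℕ) : Prop :=
  ∀ b : Fin 4, S.act k (wvec (2 ^ b.1)) = wvec (m.getD b.1 0)

theorem WAct.apply {k : G} {m : List ℕ} (h : S.WAct k m) (hk : k * z = z * k) (hl : m.length = 4)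
    (hlt : ∀ b : Fin 4, m.getD b.1 0 < 16) (n : Fin 16) : S.act k (wvec n.1) = wvec (lmx m n.1) := by
  obtain ⟨g0, g1, g2, g3, rfl⟩ : ∃ g0 g1 g2 g3, m = [g0, g1, g2, g3] := by
    rcases m with _ | ⟨a, _ | ⟨b, _ | ⟨c, _ | ⟨d, _ | ⟨e, l⟩⟩⟩⟩⟩ <;> simp at hl
    exact ⟨a, b, c, d, rfl⟩
  have h0 : g0 < 16 := hlt 0
  have h1 : g1 < 16 := hlt 1
  have h2 : g2 < 16 := hlt 2
  have h3 : g3 < 16 := hlt 3
  have hI := S.act_iso hk
  have hdec : ∀ n : Fin 16, wvec n.1 = bitz n.1 0 • wvec (2 ^ 0) + bitz n.1 1 • wvec (2 ^ 1) +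
      bitz n.1 2 • wvec (2 ^ 2) + bitz n.1 3 • wvec (2 ^ 3) := by decide +kernel
  have hadd : ∀ p q, p < 16 → q < 16 → wvec (p ^^^ q) = wvec p + wvec q := fun p q hp hq =>
    wvec_facts.2.2.2.2.2.2 ⟨p, hp⟩ ⟨q, hq⟩
  have hz : wvec 0 = 0 := by decide +kernel
  have hite : ∀ (j g : ℕ), g < 16 → (if n.1 / 2 ^ j % 2 = 1 then g else 0) < 16 ∧
      wvec (if n.1 / 2 ^ j % 2 = 1 then g else 0) = bitz n.1 j • wvec g := fun j g hg => by
    rw [bitz, Nat.testBit_eq_decide_div_mod_eq]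
    by_cases e : n.1 / 2 ^ j % 2 = 1
    · simp [e, hg]
    · simp [e, hz]
  obtain ⟨a0, e0⟩ := hite 0 g0 h0
  obtain ⟨a1, e1⟩ := hite 1 g1 h1
  obtain ⟨a2, e2⟩ := hite 2 g2 h2
  obtain ⟨a3, e3⟩ := hite 3 g3 h3
  have hl : lmx [g0, g1, g2, g3] n.1 = (if n.1 / 2 ^ 0 % 2 = 1 then g0 else 0) ^^^
      ((if n.1 / 2 ^ 1 % 2 = 1 then g1 else 0) ^^^ ((if n.1 / 2 ^ 2 % 2 = 1 then g2 else 0) ^^^
        (if n.1 / 2 ^ 3 % 2 = 1 then g3 else 0))) := by
    simp only [lmx, Nat.div_div_eq_div_mul, pow_zero, pow_one, Nat.div_one, Nat.xor_zero]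
    norm_num
  rw [hl, hadd _ _ a0 (Nat.xor_lt_two_pow (n := 4) a1 (Nat.xor_lt_two_pow (n := 4) a2 a3)),
    hadd _ _ a1 (Nat.xor_lt_two_pow (n := 4) a2 a3), hadd _ _ a2 a3, e0, e1, e2, e3, hdec, hI.add, hI.add,
    hI.add, hI.map_smul, hI.map_smul, hI.map_smul, hI.map_smul, ← add_assoc, ← add_assoc]
  exact congrArg₂ (· + ·) (congrArg₂ (· + ·) (congrArg₂ (· + ·) (congrArg _ (h 0)) (congrArg _ (h 1)))
    (congrArg _ (h 2))) (congrArg _ (h 3))

theorem wact_one : S.WAct 1 (wordM []) := fun b => by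
  rw [S.act_one]
  congr 1
  fin_cases b <;> rfl

/-- A subgroup realising the three generators realises their words. -/
theorem wact_word {H : Subgroup G} (hH : ∀ k ∈ H, k * z = z * k)
    (hgen : ∀ i : Fin 3, ∃ k ∈ H, S.WAct k (genM i.1)) :
    ∀ w : List ℕ, (∀ i ∈ w, i < 3) → ∃ k ∈ H, S.WAct k (wordM w)
  | [], _ => ⟨1, one_mem H, S.wact_one⟩
  | i :: w, hw => by
      obtain ⟨k, hk, hka⟩ := hgen ⟨i, hw i List.mem_cons_self⟩
      have hw' : ∀ j ∈ w, j < 3 := fun j hj => hw j (List.mem_cons_of_mem _ hj)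
      obtain ⟨k', hk', hka'⟩ := wact_word hH hgen w hw'
      obtain ⟨hl, hlt⟩ := wordM_facts w hw'
      refine ⟨k * k', mul_mem hk hk', fun b => ?_⟩
      have h2 := hlt b
      rw [List.getD_eq_getElem _ _ (by rw [hl]; exact b.2)] at h2
      have h3 := hka' b
      rw [List.getD_eq_getElem _ _ (by rw [hl]; exact b.2)] at h3
      rw [S.act_mul (hH k hk) (hH k' hk'), h3, List.getD_eq_getElem _ _ (by simp [wordM, hl])]
      simp only [wordM, List.getElem_map]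
      exact hka.apply S (hH k hk) (by unfold genM; split <;> rfl) (gen_facts ⟨i, hw i List.mem_cons_self⟩).1 ⟨_, h2⟩

end Co

namespace Co.Gd

variable {S : Co z Q π} {u g u₁ c₁ a : G} {L : R4 → R4 → ZMod 2} (D : S.Gd u g u₁ c₁ a L)
include D

theorem exists_form_rep (k : Fin 8 × {ψ : W8 // ψ ∈ coW}) : ∃ c ∈ S.asub, S.Form c k.1 k.2.1 := by
  obtain ⟨t, ψ, hψ⟩ := k
  obtain ⟨c, hc, χ, hχ, hf⟩ := D.exists_every t
  have hs := (coW_facts.2.1 _ hψ _ hχ).2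
  obtain ⟨f, -, -, hfA, hff⟩ := D.exists_sie_form hs
  refine ⟨f * c, mul_mem hfA hc, ?_⟩
  have h := Form.mul S hfA hc hs hχ hff hf
  rwa [show ∀ t, trFun 7 t = t by decide +kernel, add_assoc, add_self_W, add_zero] at h

end Co.Gd

namespace Co.Gd

variable {S : Co z Q π} {u g u₁ c₁ a : G} {L : R4 → R4 → ZMod 2} (D : S.Gd u g u₁ c₁ a L)
include D

/-- The order of a subgroup realising the three generators over `Q` and the subgroup of order `2¹¹`. -/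
theorem card_sub_ge (H : Subgroup G) (hH : ∀ k ∈ H, k * z = z * k) (hQ : Q ≤ H) (hA : S.asub ≤ H)
    (hgen : ∀ i : Fin 3, ∃ k ∈ H, S.WAct k (genM i.1)) : 20160 * 32768 ≤ Nat.card ↥H := by
  classical
  obtain ⟨hlen, hsift⟩ := sift_ok
  have hk : ∀ (i : Fin 4) (j : Fin (siftWords.getD i.1 []).length), ∃ k, k ∈ H ∧
      ∀ b : Fin 4, b.1 ≤ i.1 → siftImg b (siftWords.getD i.1 [])[j.1] < 16 ∧
        S.act k (wvec (2 ^ b.1)) = wvec (siftImg b (siftWords.getD i.1 [])[j.1]) := by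
    intro i j
    obtain ⟨hw, hlt, hfix⟩ := (hsift i).2 _ (List.getElem_mem j.2)
    set w := (siftWords.getD i.1 [])[j.1]
    obtain ⟨k, hk, hka⟩ := S.wact_word hH hgen w hw
    refine ⟨k, hk, fun b hb => ⟨?_, ?_⟩⟩
    · rcases Nat.lt_or_eq_of_le hb with h | h
      · rw [hfix b h]; exact Nat.pow_lt_pow_right (show 1 < 2 by norm_num) b.2
      · rw [show b = i from Fin.ext h]; exact hlt
    · obtain ⟨hl, hlt'⟩ := wordM_facts w hw
      exact hka.apply S (hH k hk) hl hlt' ⟨_, Nat.pow_lt_pow_right (show 1 < 2 by norm_num) b.2⟩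
  choose K hKH hKact using hk
  choose sel hsel hself using D.exists_form_rep
  have hQH : ∀ y : ↥Q, (y : G) ∈ H := fun y => hQ y.2
  have hAH : ∀ k, sel k ∈ H := fun k => hA (hsel k)
  have hfix : ∀ c ∈ S.asub, ∀ v, InW v → S.act c v = v := fun c hc v hv => by
    obtain ⟨x, hx, rfl⟩ := S.π_surj v
    rw [S.act_π (S.asub_cz hc) hx, S.mem_asub.1 hc x hx hv, mul_inv_cancel_right]
  have hcz : ∀ {x : G}, x ∈ H → x * z = z * x := fun hx => hH _ hx
  let Φ : (Fin (siftWords.getD 0 []).length × Fin (siftWords.getD 1 []).length ×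
      Fin (siftWords.getD 2 []).length × Fin (siftWords.getD 3 []).length) ×
      (↥Q × (Fin 8 × {ψ : W8 // ψ ∈ coW})) → ↥H := fun p =>
    ⟨K 0 p.1.1 * (K 1 p.1.2.1 * (K 2 p.1.2.2.1 * (K 3 p.1.2.2.2 * ((p.2.1 : G) * sel p.2.2)))),
      mul_mem (hKH _ _) (mul_mem (hKH _ _) (mul_mem (hKH _ _) (mul_mem (hKH _ _) (mul_mem (hQH _) (hAH _)))))⟩
  have hinj : Function.Injective Φ := by
    rintro ⟨⟨i0, i1, i2, i3⟩, y, k⟩ ⟨⟨j0, j1, j2, j3⟩, y', k'⟩ e
    have e0 : K 0 i0 * (K 1 i1 * (K 2 i2 * (K 3 i3 * ((y : G) * sel k)))) =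
        K 0 j0 * (K 1 j1 * (K 2 j2 * (K 3 j3 * ((y' : G) * sel k')))) := congrArg Subtype.val e
    have hbase : ∀ (y : ↥Q) k (b : Fin 4), S.act ((y : G) * sel k) (wvec (2 ^ b.1)) = wvec (2 ^ b.1) := fun y k b => by
      rw [S.act_mul (S.mem_cz y.2) (S.asub_cz (hsel k)), S.act_Q y.2,
        hfix _ (hsel k) _ (wvec_facts.1 ⟨_, Nat.pow_lt_pow_right (show 1 < 2 by norm_num) b.2⟩)]
    -- one sifting step
    have step : ∀ (i : Fin 4) (j j' : Fin (siftWords.getD i.1 []).length) (r r' : G), r ∈ H → r' ∈ H →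
        S.act r (wvec (2 ^ i.1)) = wvec (2 ^ i.1) → S.act r' (wvec (2 ^ i.1)) = wvec (2 ^ i.1) →
        K i j * r = K i j' * r' → j = j' ∧ r = r' := by
      intro i j j' r r' hr hr' hf hf' h
      have h1 := congrArg (fun x => S.act x (wvec (2 ^ i.1))) h
      simp only [S.act_mul (hcz (hKH _ _)) (hcz hr), S.act_mul (hcz (hKH _ _)) (hcz hr'), hf, hf',
        (hKact i _ i le_rfl).2] at h1
      have h2 := congrArg Fin.val (wvec_inj ⟨_, (hKact i j i le_rfl).1⟩ ⟨_, (hKact i j' i le_rfl).1⟩ h1)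
      simp only at h2
      have h3 : j = j' := Fin.ext ((List.Nodup.getElem_inj_iff (hsift i).1
        (hi := by rw [List.length_map]; exact j.2) (hj := by rw [List.length_map]; exact j'.2)).1 (by simp only [List.getElem_map]; exact h2))
      subst h3
      exact ⟨rfl, mul_left_cancel h⟩
    have hfixK : ∀ (i : Fin 4) j (b : Fin 4), b.1 < i.1 → ∀ r, r ∈ H → S.act r (wvec (2 ^ b.1)) = wvec (2 ^ b.1) →
        S.act (K i j * r) (wvec (2 ^ b.1)) = wvec (2 ^ b.1) := fun i j b hb r hr hf => by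
      obtain ⟨-, -, hfx⟩ := (hsift i).2 _ (List.getElem_mem j.2)
      rw [S.act_mul (hcz (hKH _ _)) (hcz hr), hf, (hKact i j b hb.le).2, hfx b hb]
    have hy : ∀ (y : ↥Q) k, (y : G) * sel k ∈ H := fun y k => mul_mem (hQH y) (hAH k)
    have m3 : ∀ j y k, K 3 j * ((y : ↥Q) * sel k) ∈ H := fun j y k => mul_mem (hKH _ _) (hy y k)
    have m2 : ∀ i j y k, K 2 i * (K 3 j * ((y : ↥Q) * sel k)) ∈ H := fun i j y k => mul_mem (hKH _ _) (m3 j y k)
    have m1 : ∀ h i j y k, K 1 h * (K 2 i * (K 3 j * ((y : ↥Q) * sel k))) ∈ H :=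
      fun h i j y k => mul_mem (hKH _ _) (m2 i j y k)
    have f3 : ∀ j (y : ↥Q) k (b : Fin 4), b.1 < 3 → S.act (K 3 j * ((y : G) * sel k)) (wvec (2 ^ b.1)) = wvec (2 ^ b.1) :=
      fun j y k b hb => hfixK 3 j b hb _ (hy y k) (hbase y k b)
    have f2 : ∀ i j (y : ↥Q) k (b : Fin 4), b.1 < 2 →
        S.act (K 2 i * (K 3 j * ((y : G) * sel k))) (wvec (2 ^ b.1)) = wvec (2 ^ b.1) :=
      fun i j y k b hb => hfixK 2 i b hb _ (m3 j y k) (f3 j y k b (by omega))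
    have f1 : ∀ h i j (y : ↥Q) k (b : Fin 4), b.1 < 1 →
        S.act (K 1 h * (K 2 i * (K 3 j * ((y : G) * sel k)))) (wvec (2 ^ b.1)) = wvec (2 ^ b.1) :=
      fun h i j y k b hb => hfixK 1 h b hb _ (m2 i j y k) (f2 i j y k b (by omega))
    obtain ⟨rfl, e1⟩ := step 0 _ _ _ _ (m1 _ _ _ _ _) (m1 _ _ _ _ _) (f1 _ _ _ _ _ 0 Nat.zero_lt_one)
      (f1 _ _ _ _ _ 0 Nat.zero_lt_one) e0
    obtain ⟨rfl, e2⟩ := step 1 _ _ _ _ (m2 _ _ _ _) (m2 _ _ _ _) (f2 _ _ _ _ 1 (by decide))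
      (f2 _ _ _ _ 1 (by decide)) e1
    obtain ⟨rfl, e3⟩ := step 2 _ _ _ _ (m3 _ _ _) (m3 _ _ _) (f3 _ _ _ 2 (by decide)) (f3 _ _ _ 2 (by decide)) e2
    obtain ⟨rfl, e4⟩ := step 3 _ _ _ _ (hy _ _) (hy _ _) (hbase _ _ 3) (hbase _ _ 3) e3
    have hact : ∀ (y : ↥Q) k v, S.act ((y : G) * sel k) v = M (trPerm k.1) k.2.1 v := fun y k v => by
      rw [S.act_mul (S.mem_cz y.2) (S.asub_cz (hsel k)), S.act_Q y.2]; exact hself k v
    obtain ⟨a1, a2⟩ := M_unique (coW_facts.1 _ k.2.2).1 (coW_facts.1 _ k'.2.2).1 fun v => by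
      rw [← hact y k v, e4, hact]
    obtain rfl : k = k' := Prod.ext (trPerm_facts.2.2.2.2 _ _ a1) (Subtype.ext a2)
    rw [Subtype.ext (mul_right_cancel e4 : (y : G) = y')]
  have h := Nat.card_le_card_of_injective Φ hinj
  have h8 : Nat.card {ψ : W8 // ψ ∈ coW} = 8 := by
    rw [Nat.card_eq_fintype_card, Fintype.card_subtype]; decide +kernel
  have hl : (siftWords.getD 0 []).length = 15 ∧ (siftWords.getD 1 []).length = 14 ∧
      (siftWords.getD 2 []).length = 12 ∧ (siftWords.getD 3 []).length = 8 := by decide +kernel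
  simp only [Nat.card_prod, Nat.card_fin, S.card_Q, h8, hl] at h
  exact h

end Co.Gd

namespace Frame11

variable {S : Co z Q π} {u g u₁ c₁ a : G} {L : R4 → R4 → ZMod 2} {xs cs : List G} (F : Frame11 S xs cs)
  (D : S.Gd u g u₁ c₁ a L) (hreal : ∀ i : Fin 3, Co.Gd.Real S xs (genM i.1))

include F D hreal

theorem card_stab_ge :
    20160 * 32768 ≤ Nat.card ↥(Subgroup.normalizer (S.asub : Set G) ⊓ Subgroup.centralizer ({z} : Set G)) := by
  refine D.card_sub_ge _ (fun k hk => Subgroup.mem_centralizer_singleton_iff.1 (Subgroup.mem_inf.1 hk).2)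
    (fun y hy => Subgroup.mem_inf.2 ⟨S.mem_norm_asub (Co.xsub_stable (S.mem_cz hy) fun x hx =>
      ⟨S.norm _ (S.mem_cz hy) x hx.1, by rw [S.π_conjQ hx.1 hy]; exact hx.2⟩),
      Subgroup.mem_centralizer_singleton_iff.2 (S.mem_cz hy)⟩)
    (fun c hc => Subgroup.mem_inf.2 ⟨Subgroup.le_normalizer hc,
      Subgroup.mem_centralizer_singleton_iff.2 (S.asub_cz hc)⟩) fun i => ?_
  obtain ⟨k, hk, hkX, hex⟩ := hreal i
  refine ⟨k, Subgroup.mem_inf.2 ⟨S.mem_norm_asub (Co.xsub_stable hk hkX),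
    Subgroup.mem_centralizer_singleton_iff.2 hk⟩, fun b => ?_⟩
  obtain ⟨h1, h2⟩ := Co.Gd.xi_facts F.lx F.xs_mem F.xs_π ⟨_, (gen_facts i).1 b⟩
  rw [← F.xs_π b, S.act_π hk (F.xs_mem _ (by
    rw [List.getD_eq_getElem _ _ (by rw [F.lx]; exact b.2)]; exact List.getElem_mem _)).1, hex b, h2]

end Frame11

namespace Coords

variable {S : Co z Q π} {δ : ℕ → G} (C : Coords S δ)

include C in
theorem card_eq : Nat.card ↥(Subgroup.normalizer (S.asub : Set G)) =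
    759 * Nat.card ↥(Subgroup.normalizer (S.asub : Set G) ⊓ Subgroup.centralizer ({z} : Set G)) := by
  classical
  set N := Subgroup.normalizer (S.asub : Set G)
  set K := (Subgroup.centralizer ({z} : Set G)).subgroupOf N
  have hcard : Nat.card {v : Fin 2048 // S.Fused (δ v.1)} = 759 := by
    rw [Nat.card_eq_fintype_card, Fintype.card_subtype, ← count_facts.2.2]
    exact congrArg Finset.card (Finset.filter_congr fun v _ => C.fused v.1 v.2)
  choose n hn hne using fun v : {v : Fin 2048 // S.Fused (δ v.1)} => v.2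
  let Φ : {v : Fin 2048 // S.Fused (δ v.1)} → ↥N ⧸ K := fun v => QuotientGroup.mk ⟨n v, hn v⟩
  have hK : ∀ a b : ↥N, (QuotientGroup.mk a : ↥N ⧸ K) = QuotientGroup.mk b ↔
      (a : G) * z * (a : G)⁻¹ = b * z * (b : G)⁻¹ := by
    intro a b
    rw [QuotientGroup.eq, Subgroup.mem_subgroupOf, Subgroup.mem_centralizer_singleton_iff]
    simp only [Subgroup.coe_mul, Subgroup.coe_inv]
    constructor
    · intro h
      calc (a : G) * z * (a : G)⁻¹ = a * (z * ((a : G)⁻¹ * b)) * (b : G)⁻¹ := by group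
        _ = a * ((a : G)⁻¹ * b * z) * (b : G)⁻¹ := by rw [h]
        _ = _ := by group
    · intro h
      calc (a : G)⁻¹ * b * z = (a : G)⁻¹ * (b * z * (b : G)⁻¹) * b := by group
        _ = z * ((a : G)⁻¹ * b) := by rw [← h]; group
  have hΦ : Function.Bijective Φ := by
    refine ⟨fun v w e => ?_, fun q => ?_⟩
    · have := (hK _ _).1 e
      simp only [hne] at this
      exact Subtype.ext (C.inj _ _ this)
    · obtain ⟨m, rfl⟩ := QuotientGroup.mk_surjective q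
      obtain ⟨v, hv⟩ := C.surj _ (S.fused_mem (C.one ▸ C.mem 1) ⟨m, m.2, rfl⟩)
      refine ⟨⟨v, ⟨m, m.2, hv⟩⟩, (hK _ _).2 ?_⟩
      simp only [hne]
      exact hv.symm
  have hi : K.index = 759 := by
    rw [Subgroup.index_eq_card, ← Nat.card_congr (Equiv.ofBijective Φ hΦ), hcard]
  have hc : Nat.card ↥K = Nat.card ↥(N ⊓ Subgroup.centralizer ({z} : Set G)) := Nat.card_congr
    { toFun := fun x => ⟨((x : ↥N) : G), Subgroup.mem_inf.2 ⟨(x : ↥N).2, x.2⟩⟩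
      invFun := fun x => ⟨⟨x, (Subgroup.mem_inf.1 x.2).1⟩, (Subgroup.mem_inf.1 x.2).2⟩
      left_inv := fun x => rfl
      right_inv := fun x => rfl }
  rw [← K.card_mul_index, hi, hc, mul_comm]

end Coords

end CfsgLib.Characterizations.CoType
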