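import Cfsg.Agent.Lib.Characterizations.CoType.Golay.DualMap
import Cfsg.Agent.Lib.Characterizations.CoType.Golay.Order
import Cfsg.Agent.Lib.Sporadic.LargeFischer.Hexa.Main

/-!
# Groups of Conway type: the normaliser modulo the subgroup of order `2¹¹` is the Mathieu group of degree 24
-/

set_option autoImplicit false
set_option linter.style.haveILetI false
set_option linter.unusedSectionVars false
set_option maxRecDepth 4000

namespace CfsgLib.Characterizations.CoType

open CfsgLib.Sporadic.LargeFischer CfsgLib.SmallGroups.Golay CfsgLib.SmallGroups.M24Group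

variable {G : Type*} [Group G] [Finite G] {z : G} {Q : Subgroup G} {π : G → V}

theorem psi_facts {n : ℕ} (h : n < 2048) : lmx psiD n < 2048 ∧ lmx psiE n < 2048 ∧
    lmx psiD (lmx psiE n) = n ∧ lmx psiE (lmx psiD n) = n := by
  have h' := List.all_eq_true.1 psi_inverse n (List.mem_range.2 h)
  simp only [Bool.and_eq_true, decide_eq_true_eq, beq_iff_eq] at h'
  exact ⟨h'.1.1.1, h'.1.1.2, h'.1.2, h'.2⟩

namespace Coords

variable {S : Co z Q π} {δ : ℕ → G} (C : Coords S δ)
include C

theorem exists_code (m : ↥(Subgroup.normalizer (S.asub : Set G))) : ∃ f : ℕ → ℕ, Lin f ∧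
    (∀ v < 2048, (m : G) * δ v * (m : G)⁻¹ = δ (f v)) ∧ (∀ a b, a < 2048 → b < 2048 → f a = f b → a = b) ∧
    ∀ v < 2048, dm (cand 2) (f v) = dm (cand 2) v := by
  choose f hf using fun v : ℕ => C.surj _ ((Subgroup.mem_normalizer_iff.1 m.2 (δ v)).1 (C.mem v))
  refine ⟨fun v => (f v).1, ⟨fun v _ => (f v).2, fun a b _ _ => ?_⟩, fun v _ => hf v, fun a b ha hb e => ?_,
    fun v hv => ?_⟩
  · exact congrArg Fin.val (C.inj (f (a ^^^ b)) ⟨_, Nat.xor_lt_two_pow (n := 11) (f a).2 (f b).2⟩ (by
      rw [C.xor (f a).1, ← hf, ← hf, ← hf, C.xor, conj_mul]))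
  · have h : (m : G) * δ a * (m : G)⁻¹ = (m : G) * δ b * (m : G)⁻¹ := by
      rw [hf a, hf b, show (f a).1 = (f b).1 from e]
    exact congrArg Fin.val (C.inj ⟨a, ha⟩ ⟨b, hb⟩ (mul_left_cancel (mul_right_cancel h)))
  · rw [Bool.eq_iff_iff, ← C.fused _ (f v).2, ← C.fused v hv, ← hf v, S.fused_conj m.2]

/-- The identification. -/
theorem exists_theta (hcent : Subgroup.centralizer (S.asub : Set G) = S.asub) (hcard : Nat.card ↥S.asub = 2 ^ 11)
    (hstab : 20160 * 32768 ≤ Nat.card ↥(Subgroup.normalizer (S.asub : Set G) ⊓ Subgroup.centralizer ({z} : Set G))) :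
    ∃ θ : ↥(Subgroup.normalizer (S.asub : Set G)) →* ↥Cfsg.M24, Function.Surjective θ ∧
      θ.ker = S.asub.subgroupOf (Subgroup.normalizer (S.asub : Set G)) := by
  classical
  set A := S.asub
  set M := Subgroup.normalizer (A : Set G) with hM
  choose fc hlin hfe hinj hD using C.exists_code
  have hone : ∀ v < 2048, fc 1 v = v := fun v hv => congrArg Fin.val
    (C.inj ⟨_, (hlin 1).lt v hv⟩ ⟨v, hv⟩ (by rw [← hfe 1 v hv]; simp))
  have hmul : ∀ (m m' : ↥M) v, v < 2048 → fc (m * m') v = fc m (fc m' v) := fun m m' v hv =>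
    congrArg Fin.val (C.inj ⟨_, (hlin _).lt v hv⟩ ⟨_, (hlin m).lt _ ((hlin m').lt v hv)⟩ (by
      rw [← hfe _ v hv, ← hfe _ _ ((hlin m').lt v hv), ← hfe _ v hv]
      push_cast; group))
  let g : ↥M → ℕ → ℕ := fun m n => lmx psiD (fstar (fc m⁻¹) (lmx psiE n))
  have gid : ∀ n < 2048, g 1 n = n := fun n hn => by
    simp only [g, inv_one, fstar_id hone (psi_facts hn).2.1, (psi_facts hn).2.2.1]
  have gmul : ∀ (m m' : ↥M) n, n < 2048 → g (m * m') n = g m (g m' n) := by
    intro m m' n hn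
    simp only [g, mul_inv_rev, (psi_facts (fstar_lt _ _)).2.2.2]
    rw [fstar_comp (hlin m'⁻¹) (hlin m⁻¹) (fun v hv => hmul m'⁻¹ m⁻¹ v hv)]
  have hauto : ∀ m : ↥M, Hexa.Auto (g m) := fun m =>
    { lt := fun n _ => (psi_facts (fstar_lt _ _)).1
      add := fun a b _ _ => by simp only [g, lmx_xor, fstar_xor]
      inj := fun a b ha hb e => by
        have h := congrArg (g m⁻¹) e
        rwa [← gmul _ _ _ ha, ← gmul _ _ _ hb, inv_mul_cancel, gid _ ha, gid _ hb] at h
      pres := fun n hn h => by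
        rw [cnt_iff (fstar_lt _ _), cnt_fstar (hlin m⁻¹) (hinj m⁻¹) (hD m⁻¹), ← cnt_iff (psi_facts hn).2.1,
          (psi_facts hn).2.2.1]
        exact h }
  choose σ hσ using fun m => (hauto m).exists_perm
  have huniq : ∀ (m : ↥M) (τ : Equiv.Perm Cfsg.GolayPt),
      (∀ p q, g m (Hexa.phi p ^^^ Hexa.phi q) = Hexa.phi (τ p) ^^^ Hexa.phi (τ q)) → τ = σ m := by
    intro m τ hτ
    refine Equiv.ext fun p => ?_
    by_contra hne
    obtain ⟨q, hqp⟩ := exists_ne p
    obtain ⟨r, hr⟩ : ∃ r, r ∉ ({p, q} : Finset Cfsg.GolayPt) := by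
      exact Hexa.exists_pt_notMem _ (Finset.card_le_two.trans (by norm_num))
    simp only [Finset.mem_insert, Finset.mem_singleton, not_or] at hr
    rcases Hexa.duad_inj (fun e => hqp (τ.injective e).symm) (fun e => hqp ((σ m).injective e).symm)
      ((hτ p q).symm.trans (hσ m p q)) with ⟨e, -⟩ | ⟨e, -⟩
    · exact hne e
    rcases Hexa.duad_inj (fun e => hr.1 (τ.injective e).symm) (fun e => hr.1 ((σ m).injective e).symm)
      ((hτ p r).symm.trans (hσ m p r)) with ⟨e', -⟩ | ⟨e', -⟩
    · exact hne e'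
    · exact hr.2 ((σ m).injective (e'.symm.trans e))
  let θ : ↥M →* ↥Cfsg.M24 :=
    { toFun := fun m => ⟨σ m, (hauto m).perm_mem (hσ m)⟩
      map_one' := Subtype.ext (huniq 1 1 fun p q => gid _ (Hexa.phi_lt_xor p q)).symm
      map_mul' := fun m m' => Subtype.ext (huniq (m * m') (σ m * σ m') fun p q => by
        rw [gmul _ _ _ (Hexa.phi_lt_xor p q), hσ m' p q, hσ m]; rfl).symm }
  have hAM : A ≤ M := Subgroup.le_normalizer
  have hker : θ.ker = A.subgroupOf M := by
    ext m
    rw [MonoidHom.mem_ker, Subgroup.mem_subgroupOf]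
    constructor
    · intro h
      have h1 : σ m = 1 := congrArg Subtype.val h
      have hfix : ∀ n, n < 2048 → g m n = n := Hexa.eq_on_all (hauto m).add fun j hj => by
        have := hσ m (pt j) none
        rw [h1] at this
        simp only [Equiv.Perm.coe_one, id_eq, Hexa.phi_none, Nat.xor_zero] at this
        rwa [Hexa.phi, idx_pt hj] at this
      have hf : ∀ v < 2048, fc m⁻¹ v = v := fstar_faithful (hlin m⁻¹) fun l hl => by
        have h2 := congrArg (lmx psiE) (hfix _ (psi_facts hl).1)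
        simp only [g, (psi_facts hl).2.2.2, (psi_facts (fstar_lt _ _)).2.2.2] at h2
        exact h2
      have hmem : ((m⁻¹ : ↥M) : G) ∈ Subgroup.centralizer (A : Set G) :=
        Subgroup.mem_centralizer_iff.2 fun x hx => by
          obtain ⟨v, rfl⟩ := C.surj x hx
          have := hfe m⁻¹ v.1 v.2
          rw [hf _ v.2] at this
          exact (mul_inv_eq_iff_eq_mul.1 this).symm
      rw [hcent] at hmem
      simpa using inv_mem hmem
    · intro h
      refine Subtype.ext (huniq m 1 fun p q => ?_).symm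
      show g m _ = Hexa.phi p ^^^ Hexa.phi q
      have hn := Hexa.phi_lt_xor p q
      have hf : ∀ v < 2048, fc m⁻¹ v = v := fun v hv => congrArg Fin.val
        (C.inj ⟨_, (hlin _).lt v hv⟩ ⟨v, hv⟩ (by
          rw [← hfe _ v hv]
          have h' : ((m : G)⁻¹) ∈ Subgroup.centralizer (A : Set G) := hcent.symm ▸ inv_mem h
          have := Subgroup.mem_centralizer_iff.1 h' (δ v) (C.mem v)
          push_cast
          rw [← this, mul_inv_cancel_right]))
      simp only [g, fstar_id hf (psi_facts hn).2.1, (psi_facts hn).2.2.1]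
  refine ⟨θ, MonoidHom.range_eq_top.1 (Subgroup.eq_top_of_le_card _ ?_), hker⟩
  have e := θ.ker.card_mul_index
  rw [Subgroup.index_ker, hker, Nat.card_congr (Subgroup.subgroupOfEquivOfLe hAM).toEquiv, hcard, C.card_eq] at e
  rw [card_M24]
  change 20160 * 32768 ≤ Nat.card ↥(M ⊓ Subgroup.centralizer ({z} : Set G)) at hstab
  change 2 ^ 11 * _ = 759 * Nat.card ↥(M ⊓ Subgroup.centralizer ({z} : Set G)) at e
  omega

end Coords

end CfsgLib.Characterizations.CoType
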