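import Cfsg.Agent.Lib.Characterizations.CoType.Golay.Frame

/-!
# Groups of Conway type: the commutator pairing and the two families

The pairing `L` and `L + dR` both come from isometries, so `L` vanishes on exactly one of two lines.
-/

set_option autoImplicit false
set_option linter.style.haveILetI false
set_option linter.unusedSectionVars false
set_option maxRecDepth 4000

namespace CfsgLib.Characterizations.CoType

open CfsgLib.ThreeTransp.Extraspecial

variable {G : Type*} [Group G] [Finite G] {z : G} {Q : Subgroup G} {π : G → V}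

theorem zp_inj_of_ne {w : G} (hw : w ≠ 1) {a b : ZMod 2} (h : zp w a = zp w b) : a = b := by
  rcases two_cases a with rfl | rfl <;> rcases two_cases b with rfl | rfl <;> simp_all [zp_zero, zp_one]

theorem zp_add' {w : G} (hw : w * w = 1) (a b : ZMod 2) : zp w (a + b) = zp w a * zp w b := by
  rcases two_cases a with rfl | rfl <;> rcases two_cases b with rfl | rfl <;>
    simp [zp_zero, zp_one, CharTwo.add_self_eq_zero, hw]

theorem zp_commute {w x : G} (h : x * w = w * x) (a : ZMod 2) : x * zp w a = zp w a * x := by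
  rcases two_cases a with rfl | rfl <;> simp [zp_zero, zp_one, h]

theorem conj_zp {h w : G} (a : ZMod 2) : h⁻¹ * zp w a * h = zp (h⁻¹ * w * h) a := by
  rcases two_cases a with rfl | rfl <;> simp [zp_zero, zp_one]

/-- A commutator read from squares. -/
theorem conj_of_squares {w x y : G} (hw : w * w = 1) (hy : y * w = w * y) {a b c : ZMod 2}
    (hxx : x * x = zp w a) (hyy : y * y = zp w b) (hxy : x * y * (x * y) = zp w (a + b + c)) :
    x * y * x⁻¹ = zp w c * y := by
  have hinv : ∀ t, (zp w t)⁻¹ = zp w t := fun t => inv_eq_of_mul_eq_one_right (by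
    rw [← zp_add' hw, CharTwo.add_self_eq_zero, zp_zero])
  have hyi : y⁻¹ = zp w b * y := inv_eq_of_mul_eq_one_right (by
    rw [← mul_assoc, zp_commute hy, mul_assoc, hyy, ← zp_add' hw, CharTwo.add_self_eq_zero, zp_zero])
  calc x * y * x⁻¹ = (x * y * (x * y)) * y⁻¹ * (x * x)⁻¹ := by group
    _ = zp w (a + b + c) * (zp w b * y) * zp w a := by rw [hxy, hyi, hxx, hinv]
    _ = zp w (a + b + c) * zp w b * (y * zp w a) := by group
    _ = zp w (a + b + c) * zp w b * zp w a * y := by rw [zp_commute hy]; group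
    _ = _ := by
        rw [← zp_add' hw, ← zp_add' hw]
        congr 2
        linear_combination (a + b) * two_eq

namespace Co

variable (S : Co z Q π)

/-- Orbits of `C(z)` on pairs of commuting points of `Q`. -/
theorem Pair.exists_to_std {S : Co z Q π} {u g u₁ c₁ : G} (p : S.Pair u g) (d : S.Duo u g u₁ c₁) {x y : G}
    (hx : x ∈ Q) (hy : y ∈ Q) (hxx : x * x = 1) (hyy : y * y = 1) (hxy : x * y = y * x)
    (hx0 : π x ≠ 0) (hy0 : π y ≠ 0) (hne : π y ≠ π x) :
    ∃ c, c * z = z * c ∧ c * x * c⁻¹ = u ∧ c * y * c⁻¹ = u₁ := by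
  obtain ⟨c, hc, hcx⟩ := S.transitive hx0 ((S.q_iff x hx).2 hxx) (v := u0) (by decide) (by decide)
  rw [S.act_π hc hx] at hcx
  -- correct the first lift
  obtain ⟨k, hk, hkx⟩ : ∃ k ∈ Q, k * (c * x * c⁻¹) * k⁻¹ = u := by
    rcases S.π_eq p.u_mem (S.norm c hc x hx) (p.π_u.trans hcx.symm) with e | e
    · exact ⟨1, one_mem Q, by rw [e, one_mul, inv_one, mul_one]⟩
    · obtain ⟨k, hk, hku⟩ := S.extra.exists_conj_eq p.u_mem p.u_ne p.u_ne_z
      refine ⟨k, hk, ?_⟩
      calc k * (c * x * c⁻¹) * k⁻¹ = (k * u * k⁻¹) * (k * z * k⁻¹) := by rw [e]; group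
        _ = u := by rw [hku, S.mem_cz hk, mul_inv_cancel_right, mul_assoc, S.extra.z_sq, mul_one]
  set c2 := k * c with hc2
  have hc2z : c2 * z = z * c2 := cz_mul (S.mem_cz hk) hc
  have hc2x : c2 * x * c2⁻¹ = u := by rw [← hkx, hc2]; group
  set y2 := c2 * y * c2⁻¹ with hy2
  have hy2Q : y2 ∈ Q := S.norm c2 hc2z y hy
  have hy27 : π y2 7 = 0 := p.π_of_comm hy2Q (by
    rw [hy2, ← hc2x, conj_mul, conj_mul, hxy])
  have hI := S.act_iso hc2z
  have hqy : q (π y2) = 0 := (S.q_iff y2 hy2Q).2 (by rw [hy2, conj_mul, hyy]; group)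
  have hy2v : π y2 ≠ 0 ∧ π y2 ≠ u0 := by
    rw [hy2, ← S.act_π hc2z hy]
    refine ⟨fun e => hy0 (hI.inj (e.trans hI.map_zero.symm)), fun e => hne (hI.inj ?_)⟩
    rw [e, S.act_π hc2z hx, hc2x, p.π_u]
  obtain ⟨hq1, -, hov⟩ := perp_facts _ hy27
  have hco0 : co (π y2) ≠ 0 := fun e => (hov e).elim hy2v.1 hy2v.2
  obtain ⟨s, hs, hse⟩ := toA_spec _ (ev_co (π y2)) (by rw [← hq1, hqy]) hco0
  obtain ⟨c3, hc3, hc3u, ψ, hψ, hc3f⟩ := p.exists_lift (sign_perm (lists_proper.1 s hs))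
  set y3 := c3 * y2 * c3⁻¹ with hy3
  have hy3Q : y3 ∈ Q := S.norm c3 hc3 y2 hy2Q
  have hπ3 : π y3 = M (perm s) ψ (π y2) := by rw [hy3, ← S.act_π hc3 hy2Q, hc3f]
  have hy37 : π y3 7 = 0 := by rw [hπ3, (co_M hψ _ _).2, hy27]
  have hco3 : co (π y3) = φA := by rw [hπ3, (co_M hψ _ _).1, hy27, zero_smul, add_zero, hse]
  -- a Siegel element moves the second point to `P φA`
  obtain ⟨c4, hc4z, hc4u, hc4y⟩ : ∃ c4, c4 * z = z * c4 ∧ c4 * u = u * c4 ∧ S.act c4 (π y3) = P φA := by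
    obtain ⟨r, hr, hrd⟩ : ∃ r, Ev r ∧ dot φA r = 1 := ⟨pr 0 4, ev_pr 0 4, by decide +kernel⟩
    obtain ⟨f, hf, hff⟩ := p.exists_sie hr
    have e : π y3 = P φA + π y3 6 • u0 := by conv_lhs => rw [(perp_facts _ hy37).2.1, hco3]
    rcases two_cases (π y3 6) with t | t
    · exact ⟨1, by simp, by simp, by rw [S.act_one, e, t, zero_smul, add_zero]⟩
    · refine ⟨f, (p.sie_comm hf).1, (p.sie_comm hf).2, ?_⟩
      have h := M_one_perp r hy37
      rw [hco3, hrd, ← hff, one_smul] at h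
      calc S.act f (π y3) = S.act f (π y3) + π y3 + π y3 := by rw [add_assoc, add_self_V, add_zero]
        _ = u0 + (P φA + u0) := by rw [h, e, t, one_smul]
        _ = P φA := by rw [add_left_comm, add_self_V, add_zero]
  set y4 := c4 * y3 * c4⁻¹ with hy4
  have hy4Q : y4 ∈ Q := S.norm c4 hc4z y3 hy3Q
  have hπ4 : π y4 = π u₁ := by rw [hy4, ← S.act_π hc4z hy3Q, hc4y, d.π_u₁]
  have fin : ∀ c5, c5 * z = z * c5 → c5 * u = u * c5 → c5 * y4 * c5⁻¹ = u₁ →
      ∃ c, c * z = z * c ∧ c * x * c⁻¹ = u ∧ c * y * c⁻¹ = u₁ := by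
    intro c5 h5z h5u h5y
    refine ⟨c5 * c4 * c3 * c2, cz_mul (cz_mul (cz_mul h5z hc4z) hc3) hc2z, ?_, ?_⟩
    · calc c5 * c4 * c3 * c2 * x * (c5 * c4 * c3 * c2)⁻¹ = c5 * (c4 * (c3 * (c2 * x * c2⁻¹) * c3⁻¹) * c4⁻¹) * c5⁻¹ := by
            group
        _ = u := by rw [hc2x, hc3u, mul_inv_cancel_right, hc4u, mul_inv_cancel_right, h5u, mul_inv_cancel_right]
    · rw [← h5y, hy4, hy3, hy2]; group
  rcases S.π_eq (p.u₁_mem d) hy4Q hπ4.symm with e | e
  · exact fin 1 (by simp) (by simp) (by rw [e, one_mul, inv_one, mul_one])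
  · obtain ⟨k5, hk5, hk5π⟩ := S.π_surj y1
    refine fin k5 (S.mem_cz hk5) (p.comm_of_π hk5 (by rw [hk5π]; exact y1_facts.1)) ?_
    rw [e, ← conj_mul, S.mem_cz hk5, mul_inv_cancel_right, S.conj_eq (p.u₁_mem d) hk5, hk5π, d.π_u₁, y1_facts.2,
      zp_one, mul_assoc, S.extra.z_sq, mul_one]

namespace Pair

variable {S} {u g u₁ c₁ : G} (p : S.Pair u g) (d : S.Duo u g u₁ c₁)
include p d

theorem inF_conj {f f' : G} (hf : InF S g u₁ f) (hf' : InF S g u₁ f') :
    f * f' * f⁻¹ = zp u (dR (mu S f) (mu S f')) * f' := by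
  obtain ⟨hm, hμ⟩ := p.inF_mul d hf hf'
  exact conj_of_squares p.uu (p.sie_comm hf'.1).2 (p.inF_sq d hf) (p.inF_sq d hf')
    (by rw [p.inF_sq d hm, hμ, qR_add])

theorem inE_conj {e e' : G} (he : InE S g u c₁ e) (he' : InE S g u c₁ e') :
    e * e' * e⁻¹ = zp u₁ (dR (nu S e) (nu S e')) * e' := by
  obtain ⟨hm, hν⟩ := p.inE_mul d he he'
  exact conj_of_squares (p.u₁u₁ d) (p.inE_cz d he').2 (p.inE_sq d he) (p.inE_sq d he')
    (by rw [p.inE_sq d hm, hν, qR_add])

/-- An axis. -/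
structure Axis (S : Co z Q π) (g c₁ a : G) : Prop where
  mem : a ∈ S.sie g
  mem' : c₁⁻¹ * a * c₁ ∈ S.sie g
  form : ∀ v, S.act a v = M 1 φA v
  sq : a * a = 1

theorem exists_axis' : ∃ a, Axis S g c₁ a :=
  let ⟨a, h1, h2, h3, h4⟩ := p.exists_axis d
  ⟨a, h1, h2, h3, h4⟩

variable {a : G} (hA : Axis S g c₁ a)
include hA

theorem axis_params : InF S g u₁ a ∧ InE S g u c₁ a ∧ mu S a = 0 ∧ nu S a = 0 ∧ a * z = z * a ∧ a ≠ 1 ∧ a ∉ Q :=
  have hnQ : a ∉ Q := fun h => by
    have h1 := hA.form y0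
    rw [S.act_Q h] at h1
    have := (y0_move φA std_A.1).1
    rw [← h1, add_self_V, co_zero] at this
    exact std_A.2.2.1 this.symm
  ⟨(p.meet_comm d hA.mem hA.mem').1, (p.meet_comm d hA.mem hA.mem').2, (p.meet_params d hA.mem hA.mem').1,
    (p.meet_params d hA.mem hA.mem').2, (p.sie_comm hA.mem).1, fun e => hnQ (e ▸ one_mem Q), hnQ⟩

theorem za_inj {s t s' t' : ZMod 2} (h : zp z s * zp a t = zp z s' * zp a t') : s = s' ∧ t = t' := by
  obtain ⟨-, -, -, -, -, ha1, haQ⟩ := p.axis_params d hA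
  have ht : t = t' := by
    by_contra hne
    have h2 : zp a t * (zp a t')⁻¹ ∈ Q := by
      have : zp a t * (zp a t')⁻¹ = (zp z s)⁻¹ * zp z s' := by
        calc zp a t * (zp a t')⁻¹ = (zp z s)⁻¹ * (zp z s * zp a t) * (zp a t')⁻¹ := by group
          _ = _ := by rw [h]; group
      rw [this]; exact mul_mem (inv_mem (S.zp_mem s)) (S.zp_mem s')
    rcases two_cases t with rfl | rfl <;> rcases two_cases t' with rfl | rfl <;> simp_all [zp_zero, zp_one]
  subst ht
  exact ⟨S.zp_inj (mul_right_cancel h), rfl⟩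

/-- The two involutions off `z` in the common part. -/
theorem za_facts (s : ZMod 2) :
    (zp z s * a) ∈ S.sie g ∧ c₁⁻¹ * (zp z s * a) * c₁ ∈ S.sie g ∧ zp z s * a * (zp z s * a) = 1 ∧
      zp z s * a ∉ Q := by
  obtain ⟨-, -, -, -, haz, -, haQ⟩ := p.axis_params d hA
  have hs : zp z s ∈ S.sie g := by
    rcases two_cases s with e | e <;> rw [e]
    · rw [zp_zero]; exact one_mem _
    · rw [zp_one]; exact p.z_sie
  have hs' : c₁⁻¹ * zp z s * c₁ = zp z s := by
    rw [mul_assoc, ← S.zp_comm _ d.cz, inv_mul_cancel_left]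
  refine ⟨mul_mem hs hA.mem, ?_, ?_, fun h => haQ ((Subgroup.mul_mem_cancel_left Q (S.zp_mem s)).1 h)⟩
  · rw [show c₁⁻¹ * (zp z s * a) * c₁ = c₁⁻¹ * zp z s * c₁ * (c₁⁻¹ * a * c₁) by group, hs']
    exact mul_mem hs hA.mem'
  · calc zp z s * a * (zp z s * a) = zp z s * (a * zp z s) * a := by group
      _ = zp z s * zp z s * (a * a) := by rw [zp_commute haz]; group
      _ = 1 := by rw [hA.sq, mul_one, ← S.zp_add, CharTwo.add_self_eq_zero, zp_zero]

/-- A conjugation fixing `u` and `u₁` taking `z` into the common part. -/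
theorem exists_swap (s : ZMod 2) :
    ∃ h, h * z * h⁻¹ = zp z s * a ∧ h * u = u * h ∧ h * u₁ = u₁ * h := by
  obtain ⟨hb, hb', hbb, hbQ⟩ := p.za_facts d hA s
  set b := zp z s * a
  have hb1 : b ≠ 1 := fun e => hbQ (e ▸ one_mem Q)
  obtain ⟨h0, hh0⟩ := isConj_iff.1 (p.conj_z_of_sie hb hbb hb1)
  have key : ∀ k : G, k⁻¹ * b * k ∈ Q → b ≠ k * z * k⁻¹ → h0⁻¹ * (k * z * k⁻¹) * h0 ∈ Q := by
    intro k hk hne
    have h1 : (k⁻¹ * h0) * z * (k⁻¹ * h0)⁻¹ = k⁻¹ * b * k := by rw [← hh0]; group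
    have := S.symm (g := k⁻¹ * h0) (by rw [h1]; exact hk) (fun e => hne (by
      rw [h1] at e
      calc b = k * (k⁻¹ * b * k) * k⁻¹ := by group
        _ = _ := by rw [e]))
    rwa [show (k⁻¹ * h0)⁻¹ * z * (k⁻¹ * h0) = h0⁻¹ * (k * z * k⁻¹) * h0 by group] at this
  have hx : h0⁻¹ * u * h0 ∈ Q := by
    have := key g (mem_sie.1 hb).2 (by rw [p.conj]; exact fun e => hbQ (e ▸ p.u_mem))
    rwa [p.conj] at this
  have hgu : c₁ * g * z * (c₁ * g)⁻¹ = u₁ := by
    rw [← d.conj, ← p.conj]; group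
  have hy : h0⁻¹ * u₁ * h0 ∈ Q := by
    have h2 := (mem_sie.1 hb').2
    have := key (c₁ * g) (by rwa [show (c₁ * g)⁻¹ * b * (c₁ * g) = g⁻¹ * (c₁⁻¹ * b * c₁) * g by group])
      (by rw [hgu]; exact fun e => hbQ (e ▸ p.u₁_mem d))
    rwa [hgu] at this
  have conj0 : ∀ w, h0⁻¹ * w * h0 = 1 ∨ h0⁻¹ * w * h0 = z → w = 1 ∨ w = b := by
    intro w hw
    rcases hw with e | e
    · left
      calc w = h0 * (h0⁻¹ * w * h0) * h0⁻¹ := by group
        _ = 1 := by rw [e]; group
    · right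
      calc w = h0 * (h0⁻¹ * w * h0) * h0⁻¹ := by group
        _ = b := by rw [e, hh0]
  have hu1ne : u₁ ≠ 1 := fun e => by
    have := d.π_u₁; rw [e, S.π_one] at this; exact aA_facts.2.2.2.1 this.symm
  have hd : π u₁ ≠ π u := by rw [d.π_u₁, p.π_u]; exact aA_facts.2.2.2.2.1
  obtain ⟨c, hc, hcx, hcy⟩ := p.exists_to_std d hx hy
    (by rw [show h0⁻¹ * u * h0 * (h0⁻¹ * u * h0) = h0⁻¹ * (u * u) * h0 by group, p.uu]; group)
    (by rw [show h0⁻¹ * u₁ * h0 * (h0⁻¹ * u₁ * h0) = h0⁻¹ * (u₁ * u₁) * h0 by group, p.u₁u₁ d]; group)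
    (by rw [show h0⁻¹ * u * h0 * (h0⁻¹ * u₁ * h0) = h0⁻¹ * (u * u₁) * h0 by group, p.uu₁ d]; group)
    (fun e => (conj0 u ((S.π_ker _ hx).1 e)).elim p.u_ne fun e' => hbQ (e' ▸ p.u_mem))
    (fun e => (conj0 u₁ ((S.π_ker _ hy).1 e)).elim hu1ne fun e' => hbQ (e' ▸ p.u₁_mem d))
    (fun e => by
      have e' : h0⁻¹ * (u₁ * u) * h0 = 1 ∨ h0⁻¹ * (u₁ * u) * h0 = z := by
        rw [show h0⁻¹ * (u₁ * u) * h0 = h0⁻¹ * u₁ * h0 * (h0⁻¹ * u * h0) by group]
        exact (S.π_ker _ (mul_mem hy hx)).1 (by rw [S.π_mul _ hy _ hx, e, add_self_V])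
      rcases conj0 _ e' with e'' | e''
      · exact hd (congrArg π (mul_eq_one_iff_eq_inv.1 e'' |>.trans (inv_eq_of_mul_eq_one_right p.uu)))
      · exact hbQ (e'' ▸ mul_mem (p.u₁_mem d) p.u_mem))
  have hcz : c⁻¹ * z * c = z := by rw [mul_assoc, ← hc, inv_mul_cancel_left]
  refine ⟨h0 * c⁻¹, ?_, ?_, ?_⟩
  · calc h0 * c⁻¹ * z * (h0 * c⁻¹)⁻¹ = h0 * (c⁻¹ * z * c) * h0⁻¹ := by group
      _ = b := by rw [hcz, hh0]
  · apply mul_inv_eq_iff_eq_mul.1
    calc h0 * c⁻¹ * u * (h0 * c⁻¹)⁻¹ = h0 * (c⁻¹ * (c * (h0⁻¹ * u * h0) * c⁻¹) * c) * h0⁻¹ := by rw [hcx]; group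
      _ = u := by group
  · apply mul_inv_eq_iff_eq_mul.1
    calc h0 * c⁻¹ * u₁ * (h0 * c⁻¹)⁻¹ = h0 * (c⁻¹ * (c * (h0⁻¹ * u₁ * h0) * c⁻¹) * c) * h0⁻¹ := by rw [hcy]; group
      _ = u₁ := by group

theorem conj_parts {s : ZMod 2} {h : G} (hz : h * z * h⁻¹ = zp z s * a) (hu : h * u = u * h)
    (hu₁ : h * u₁ = u₁ * h) :
    (∀ f, InF S g u₁ f → InF S g u₁ (h⁻¹ * f * h)) ∧ (∀ e, InE S g u c₁ e → InE S g u c₁ (h⁻¹ * e * h)) := by
  obtain ⟨haF, haE, hμa, hνa, -, -, -⟩ := p.axis_params d hA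
  have hz' : h⁻¹ * (zp z s * a) * h = z := by rw [← hz]; group
  have huh : h⁻¹ * u = u * h⁻¹ := (Commute.inv_left hu).eq
  have hu₁h : h⁻¹ * u₁ = u₁ * h⁻¹ := (Commute.inv_left hu₁).eq
  have comm : ∀ x, x * z = z * x → x * a = a * x → h⁻¹ * x * h * z = z * (h⁻¹ * x * h) := by
    intro x hxz hxa
    have hb : x * (zp z s * a) = zp z s * a * x := (Commute.mul_right (zp_commute hxz s) hxa).eq
    calc h⁻¹ * x * h * z = h⁻¹ * (x * (zp z s * a)) * h := by rw [← hz]; group
      _ = z * (h⁻¹ * x * h) := by rw [hb, ← hz]; group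
  refine ⟨fun f hf => ?_, fun e he => ?_⟩
  · refine ⟨mem_sie.2 ⟨comm f (p.sie_comm hf.1).1 ?_, ?_⟩, ?_⟩
    · apply mul_inv_eq_iff_eq_mul.1
      rw [p.inF_conj d hf haF, hμa, show dR (mu S f) 0 = 0 by simp [dR], zp_zero, one_mul]
    · have := p.norm_conj huh (mem_sie.1 hf.1).2
      rwa [inv_inv] at this
    · exact (Commute.mul_left (Commute.mul_left hu₁h hf.2) hu₁).eq
  · refine ⟨mem_sie.2 ⟨?_, ?_⟩, (Commute.mul_left (Commute.mul_left huh he.2) hu).eq⟩
    · refine cz_mul (cz_mul (cz_inv d.cz) (comm e (p.inE_cz d he).1 ?_)) d.cz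
      apply mul_inv_eq_iff_eq_mul.1
      rw [p.inE_conj d he haE, hνa, show dR (nu S e) 0 = 0 by simp [dR], zp_zero, one_mul]
    · have hk : c₁⁻¹ * h⁻¹ * c₁ * u = u * (c₁⁻¹ * h⁻¹ * c₁) := by
        calc c₁⁻¹ * h⁻¹ * c₁ * u = c₁⁻¹ * (h⁻¹ * (c₁ * u * c₁⁻¹)) * c₁ := by group
          _ = c₁⁻¹ * (c₁ * u * c₁⁻¹ * h⁻¹) * c₁ := by rw [d.conj, hu₁h]
          _ = u * (c₁⁻¹ * h⁻¹ * c₁) := by group
      have := p.norm_conj hk (mem_sie.1 he.1).2
      rwa [show c₁⁻¹ * h⁻¹ * c₁ * (c₁⁻¹ * e * c₁) * (c₁⁻¹ * h⁻¹ * c₁)⁻¹ = c₁⁻¹ * (h⁻¹ * e * h) * c₁ by group] at this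

theorem comm_L {e f : G} (he : InE S g u c₁ e) (hf : InF S g u₁ f) :
    ∃ L, e * f * e⁻¹ = zp z L * zp a (dR (mu S f) (nu S e)) * f :=
  p.comm_val' d hA.mem hA.mem' hA.form he hf

/-- Parameter zero elements commute with the other part. -/
theorem kernel_comm {e f : G} (he : InE S g u c₁ e) (hf : InF S g u₁ f) :
    (mu S f = 0 → e * f = f * e) ∧ (nu S e = 0 → e * f = f * e) := by
  obtain ⟨haF, haE, hμa, hνa, haz, -, -⟩ := p.axis_params d hA
  have hea : ∀ e, InE S g u c₁ e → e * a = a * e := fun e he => mul_inv_eq_iff_eq_mul.1 (by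
    rw [p.inE_conj d he haE, hνa, show dR (nu S e) 0 = 0 by simp [dR], zp_zero, one_mul])
  have hfa : ∀ f, InF S g u₁ f → f * a = a * f := fun f hf => mul_inv_eq_iff_eq_mul.1 (by
    rw [p.inF_conj d hf haF, hμa, show dR (mu S f) 0 = 0 by simp [dR], zp_zero, one_mul])
  constructor <;> intro h0
  · have base : ∀ f, f ∈ S.sie g → (∀ v, S.act f v = M 1 0 v) → e * f = f * e := fun f hf' hff => by
      rcases p.meet_cases (p.sie_mem_Q hf' hff) (mem_sie.1 hf').2 with r | r | r | r <;> rw [r]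
      · simp
      · exact (p.inE_cz d he).1
      · exact he.2
      · exact (Commute.mul_right he.2 (p.inE_cz d he).1).eq
    rcases p.mu_zero d hf h0 with h | h
    · exact base f hf.1 h
    · have h2 := base (f * a) (mul_mem hf.1 hA.mem) fun v => by
        rw [p.sie_mul_form hf.1 hA.mem std_A.1 std_A.1 h hA.form, add_self_W]
      calc e * f = e * (f * a) * a := by rw [mul_assoc, mul_assoc f, hA.sq, mul_one]
        _ = f * a * (e * a) := by rw [h2]; group
        _ = f * (a * a) * e := by rw [hea e he]; group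
        _ = _ := by rw [hA.sq, mul_one]
  · obtain ⟨-, hnd, -, -, φ, hφ, hφf, hq, hval⟩ := p.inE_action d he
    have hcf : ∀ r : R4, dot (iota r) φ = 0 → True := fun _ _ => trivial
    -- `e` differs from `1` or `a` by an element of `Q`
    have hperp : ∀ w : V, w 7 = 0 → dot (co w) φA = 0 → S.act e w = w := by
      intro w h7 hd'
      obtain ⟨x, hx, rfl⟩ := S.π_surj w
      rw [S.act_π (p.inE_cz d he).1 hx, p.inE_pair d he hx h7 hd', h0,
        show dR (proj (co (π x))) 0 = 0 by simp [dR], zp_zero, zp_zero, one_mul, mul_one]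
    obtain ⟨σ, ψ, hψ, hef⟩ := exists_form (S.act_iso (p.inE_cz d he).1)
      (by rw [← p.π_u, S.act_π (p.inE_cz d he).1 p.u_mem, he.2, mul_inv_cancel_right])
    obtain ⟨φf, hφf', hff, hdf, hμf⟩ := p.inF_form d hf
    obtain ⟨hcs, hcsf⟩ := p.sie_conj (p.inE_cz d he).1 he.2 hψ hef hf.1 hφf' hff
    obtain ⟨L, hL⟩ := p.comm_L d hA he hf
    rw [h0, show dR (mu S f) 0 = 0 by simp [dR], zp_zero, mul_one] at hL
    -- the central part vanishes since the parameter zero forces `e ∈ ⟨z, u₁, a⟩`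
    have hfe : ∀ e, InE S g u c₁ e → (∀ v, S.act (c₁⁻¹ * e * c₁) v = M 1 0 v) → e * f = f * e := by
      intro e he hef'
      rcases p.meet_cases (p.sie_mem_Q he.1 hef') (mem_sie.1 he.1).2 with r | r | r | r
      all_goals
        have e' : e = c₁ * (c₁⁻¹ * e * c₁) * c₁⁻¹ := by group
        rw [e', r]
      · simp
      · rw [d.cz, mul_inv_cancel_right]; exact (p.sie_comm hf.1).1.symm
      · rw [d.conj]; exact hf.2.symm
      · rw [← conj_mul, d.conj, d.cz, mul_inv_cancel_right]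
        exact (Commute.mul_right hf.2 (p.sie_comm hf.1).1).eq.symm
    have hφ0 : φ = 0 ∨ ∀ v, S.act (c₁⁻¹ * (e * a) * c₁) v = M 1 0 v := by
      obtain ⟨-, -, -, -, φa, hφa, hφaf, hqa, hvala⟩ := p.inE_action d haE
      have hsub : φ = 0 ∨ φ = φa := by
        have hBall : ∀ w, Ev w → dot w (co (S.act c₁⁻¹ u0)) = 0 → dot w φ = 0 ∧ dot w φa = 0 := by
          intro w hw hwu
          obtain ⟨hwc, -, hw7⟩ := co_P w hw
          have hBv : B (S.act c₁ (P w)) (P φA) = 0 := by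
            rw [← p.act_c₁ d, (S.act_iso d.cz).polar, B_u0, hw7]
          have hv7 : (S.act c₁ (P w)) 7 = 0 := by
            rw [← B_u0 (S.act c₁ (P w)), ← S.act_act_inv d.cz u0, (S.act_iso d.cz).polar, perp_polar hw7
              (by rw [p.seven_c₁ d, B_comm, aA_facts.2.2.2.2.2.1]), hwc, hwu]
          have hva : dot (co (S.act c₁ (P w))) φA = 0 := by
            have := perp_polar hv7 aA_facts.1
            rw [aA_facts.2.1, hBv] at this
            exact this.symm
          have e1 := hval _ hBv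
          have e2 := hvala _ hBv
          rw [S.act_inv_act d.cz, hwc] at e1 e2
          have k1 := (p.inE_action d he).1
          have k2 := p.inE_action d haE
          rw [e1, e2, perp_polar hv7 k1, perp_polar hv7 k2.1, dot_proj (ev_co _) (ev_co _) hva hnd,
            dot_proj (ev_co _) (ev_co _) hva k2.2.1]
          change dR _ (nu S e) = 0 ∧ dR _ (nu S a) = 0
          rw [h0, hνa]
          simp [dR]
        have hm0 : co (S.act c₁⁻¹ u0) ≠ 0 := fun e => by
          rcases (perp_facts _ (by rw [p.seven_c₁ d, B_comm, aA_facts.2.2.2.2.2.1])).2.2 e with r | r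
          · exact absurd ((S.act_iso (cz_inv d.cz)).inj (r.trans (S.act_iso (cz_inv d.cz)).map_zero.symm)) (by decide)
          · have := congrArg (S.act c₁) r
            rw [S.act_act_inv d.cz, p.act_c₁ d] at this
            exact aA_facts.2.2.2.2.1 this.symm
        have line : ∀ ψ, Ev ψ → (∀ w, Ev w → dot w (co (S.act c₁⁻¹ u0)) = 0 → dot w ψ = 0) →
            ψ = 0 ∨ ψ = co (S.act c₁⁻¹ u0) := line_of_perp _ (ev_co _) hm0
        rcases line φ hφ (fun w hw h => (hBall w hw h).1) with e1 | e1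
        · exact Or.inl e1
        · rcases line φa hφa (fun w hw h => (hBall w hw h).2) with e2 | e2
          · exfalso
            have h1 := S.act_conj d.cz (p.sie_comm haE.1).1 (S.act c₁ y0)
            rw [show c₁ * (c₁⁻¹ * a * c₁) * c₁⁻¹ = a by group, hφaf, e2, evM_zero, S.act_act_inv d.cz] at h1
            have h2 : ∀ v, S.act a v = v := fun v => by
              have := S.act_conj d.cz (p.sie_comm haE.1).1 v
              rw [show c₁ * (c₁⁻¹ * a * c₁) * c₁⁻¹ = a by group, hφaf, e2, evM_zero, S.act_act_inv d.cz] at this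
              exact this
            exact (p.axis_params d hA).2.2.2.2.2.2 (S.mem_of_act_id haz h2)
          · exact Or.inr (e1.trans e2.symm)
      rcases hsub with r | r
      · exact Or.inl r
      · refine Or.inr fun v => ?_
        rw [show c₁⁻¹ * (e * a) * c₁ = c₁⁻¹ * e * c₁ * (c₁⁻¹ * a * c₁) by group]
        rw [p.sie_mul_form he.1 haE.1 hφ hφa hφf hφaf, r, add_self_W]
    rcases hφ0 with h | h
    · exact hfe e he (by rw [h] at hφf; exact hφf)
    · have h2 := hfe (e * a) (p.inE_mul d he haE).1 h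
      calc e * f = e * a * (a * f) := by rw [mul_assoc, ← mul_assoc a a, hA.sq, one_mul]
        _ = e * a * f * a := by rw [← hfa f hf]; group
        _ = f * e * (a * a) := by rw [h2]; group
        _ = f * e := by rw [hA.sq, mul_one]

/-- The pairing. -/
theorem exists_pairing : ∃ L : R4 → R4 → ZMod 2,
    (∀ e f, InE S g u c₁ e → InF S g u₁ f →
      e * f * e⁻¹ = zp z (L (mu S f) (nu S e)) * zp a (dR (mu S f) (nu S e)) * f) ∧
    (∀ r r' s, L (r + r') s = L r s + L r' s) ∧ ∀ r s s', L r (s + s') = L r s + L r s' := by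
  obtain ⟨-, -, -, -, haz, -, -⟩ := p.axis_params d hA
  choose f hf hfμ using p.exists_inF d
  choose e he heν using p.exists_inE d
  choose L hL using fun r s => p.comm_L d hA (he s) (hf r)
  simp only [hfμ, heν] at hL
  have hwz : ∀ (x : G), x * z = z * x → x * a = a * x → ∀ i j, x * (zp z i * zp a j) = zp z i * zp a j * x :=
    fun x h1 h2 i j => (Commute.mul_right (zp_commute h1 i) (zp_commute h2 j)).eq
  have hea : ∀ e, InE S g u c₁ e → e * a = a * e := fun e he =>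
    (p.kernel_comm d hA he (p.axis_params d hA).1).1 (p.axis_params d hA).2.2.1
  have hfa : ∀ f, InF S g u₁ f → f * a = a * f := fun f hf =>
    ((p.kernel_comm d hA (p.axis_params d hA).2.1 hf).2 (p.axis_params d hA).2.2.2.1).symm
  have gen : ∀ e' f', InE S g u c₁ e' → InF S g u₁ f' →
      e' * f' * e'⁻¹ = zp z (L (mu S f') (nu S e')) * zp a (dR (mu S f') (nu S e')) * f' := by
    intro e' f' he' hf'
    set r := mu S f'
    set s := nu S e'
    have hei : InE S g u c₁ ((e s)⁻¹) ∧ nu S (e s)⁻¹ = s := by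
      have h1 : InE S g u c₁ (e s)⁻¹ := ⟨by
        rw [show c₁⁻¹ * (e s)⁻¹ * c₁ = (c₁⁻¹ * e s * c₁)⁻¹ by group]; exact inv_mem (he s).1,
        (Commute.inv_left (he s).2).eq⟩
      obtain ⟨-, h2⟩ := p.inE_mul d (he s) h1
      rw [mul_inv_cancel, heν] at h2
      have h3 : nu S (1 : G) = 0 := by rw [nu, S.act_one, add_self_V, co_zero]; decide
      rw [h3] at h2
      refine ⟨h1, ?_⟩
      calc nu S (e s)⁻¹ = s + s + nu S (e s)⁻¹ := by
            rw [show s + s = 0 from funext fun _ => CharTwo.add_self_eq_zero _, zero_add]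
        _ = s := by rw [add_assoc, ← h2, add_zero]
    have hfi : InF S g u₁ ((f r)⁻¹) ∧ mu S (f r)⁻¹ = r := by
      have h1 : InF S g u₁ (f r)⁻¹ := ⟨inv_mem (hf r).1, (Commute.inv_left (hf r).2).eq⟩
      obtain ⟨-, h2⟩ := p.inF_mul d (hf r) h1
      rw [mul_inv_cancel, hfμ] at h2
      have h3 : mu S (1 : G) = 0 := by rw [mu, S.act_one, add_self_V, co_zero]; decide
      rw [h3] at h2
      refine ⟨h1, ?_⟩
      calc mu S (f r)⁻¹ = r + r + mu S (f r)⁻¹ := by
            rw [show r + r = 0 from funext fun _ => CharTwo.add_self_eq_zero _, zero_add]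
        _ = r := by rw [add_assoc, ← h2, add_zero]
    have h2z : ∀ t : R4, t + t = 0 := fun t => funext fun _ => CharTwo.add_self_eq_zero _
    obtain ⟨hε, hεν⟩ := p.inE_mul d hei.1 he'
    obtain ⟨hφ, hφμ⟩ := p.inF_mul d hfi.1 hf'
    rw [hei.2, h2z] at hεν
    rw [hfi.2, h2z] at hφμ
    set ε := (e s)⁻¹ * e'
    set φ := (f r)⁻¹ * f'
    have k1 : ε * f' = f' * ε := (p.kernel_comm d hA hε hf').2 hεν
    have k2 : e s * φ = φ * e s := (p.kernel_comm d hA (he s) hφ).1 hφμ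
    calc e' * f' * e'⁻¹ = e s * (ε * f') * ε⁻¹ * (e s)⁻¹ := by simp only [ε]; group
      _ = e s * f' * (e s)⁻¹ := by rw [k1]; group
      _ = e s * f r * (e s)⁻¹ * (e s * φ * (e s)⁻¹) := by simp only [φ]; group
      _ = zp z (L r s) * zp a (dR r s) * f r * φ := by rw [hL, k2, mul_inv_cancel_right]
      _ = _ := by simp only [φ]; group
  refine ⟨L, gen, fun r r' s => ?_, fun r s s' => ?_⟩
  · obtain ⟨hm, hμ⟩ := p.inF_mul d (hf r) (hf r')
    rw [hfμ, hfμ] at hμ
    have h1 := gen _ _ (he s) hm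
    rw [hμ, heν, ← conj_mul, hL, hL] at h1
    have hc := hwz (f r) (p.sie_comm (hf r).1).1 (hfa _ (hf r)) (L r' s) (dR r' s)
    have h2 : zp z (L r s) * zp a (dR r s) * (zp z (L r' s) * zp a (dR r' s)) =
        zp z (L (r + r') s) * zp a (dR (r + r') s) := by
      refine mul_right_cancel (b := f r * f r') (Eq.trans ?_ h1)
      calc _ = zp z (L r s) * zp a (dR r s) * ((zp z (L r' s) * zp a (dR r' s)) * f r) * f r' := by group
        _ = _ := by rw [← hc]; group
    refine (p.za_inj d hA (s := L r s + L r' s) (t := dR r s + dR r' s) (Eq.trans ?_ h2)).1.symm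
    calc zp z (L r s + L r' s) * zp a (dR r s + dR r' s)
        = zp z (L r s) * (zp z (L r' s) * zp a (dR r s)) * zp a (dR r' s) := by
          rw [S.zp_add, zp_add' hA.sq]; group
      _ = _ := by rw [zp_commute (x := zp z (L r' s)) (w := a) ((zp_commute haz (L r' s)).symm) (dR r s)]; group
  · obtain ⟨hm, hν⟩ := p.inE_mul d (he s) (he s')
    rw [heν, heν] at hν
    have h1 := gen _ _ hm (hf r)
    rw [hν, hfμ] at h1
    have hc := hwz (e s) (p.inE_cz d (he s)).1 (hea _ (he s)) (L r s') (dR r s')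
    have h2 : zp z (L r s') * zp a (dR r s') * (zp z (L r s) * zp a (dR r s)) =
        zp z (L r (s + s')) * zp a (dR r (s + s')) := by
      refine mul_right_cancel (b := f r) (Eq.trans ?_ h1)
      calc _ = zp z (L r s') * zp a (dR r s') * (zp z (L r s) * zp a (dR r s) * f r) := by group
        _ = zp z (L r s') * zp a (dR r s') * (e s * f r * (e s)⁻¹) := by rw [hL]
        _ = (zp z (L r s') * zp a (dR r s') * e s) * f r * (e s)⁻¹ := by group
        _ = e s * (zp z (L r s') * zp a (dR r s') * f r) * (e s)⁻¹ := by rw [← hc]; group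
        _ = e s * (e s' * f r * (e s')⁻¹) * (e s)⁻¹ := by rw [hL]
        _ = _ := by group
    refine (p.za_inj d hA (s := L r s + L r s') (t := dR r s + dR r s') (Eq.trans ?_ h2)).1.symm
    rw [add_comm (L r s), S.zp_add, add_comm (dR r s), zp_add' hA.sq]
    calc zp z (L r s') * zp z (L r s) * (zp a (dR r s') * zp a (dR r s))
        = zp z (L r s') * (zp z (L r s) * zp a (dR r s')) * zp a (dR r s) := by group
      _ = _ := by rw [zp_commute (x := zp z (L r s)) (w := a) ((zp_commute haz (L r s)).symm) (dR r s')]; group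

/-- The pairing and its translate by `dR` come from isometries. -/
theorem pairing_isometry {L : R4 → R4 → ZMod 2}
    (hL : ∀ e f, InE S g u c₁ e → InF S g u₁ f →
      e * f * e⁻¹ = zp z (L (mu S f) (nu S e)) * zp a (dR (mu S f) (nu S e)) * f) (s : ZMod 2) (r x : R4)
    (hx : ∀ t, dR x t = L r t + s * dR r t) : qR x = qR r := by
  obtain ⟨h, hz, hu, hu₁⟩ := p.exists_swap d hA s
  obtain ⟨hF, hE⟩ := p.conj_parts d hA hz hu hu₁
  obtain ⟨-, -, -, -, haz, -, -⟩ := p.axis_params d hA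
  choose f hf hfμ using p.exists_inF d
  choose e he heν using p.exists_inE d
  let Bf : R4 → R4 := fun t => nu S (h⁻¹ * e t * h)
  have hu' : h⁻¹ * u * h = u := by rw [mul_assoc, ← hu, inv_mul_cancel_left]
  have hu₁' : h⁻¹ * u₁ * h = u₁ := by rw [mul_assoc, ← hu₁, inv_mul_cancel_left]
  have hu₁1 : u₁ ≠ 1 := fun e => by
    have := d.π_u₁; rw [e, S.π_one] at this; exact aA_facts.2.2.2.1 this.symm
  have hBd : ∀ t t', dR (Bf t) (Bf t') = dR t t' := fun t t' => by
    have h1 := p.inE_conj d (hE _ (he t)) (hE _ (he t'))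
    have h2 : h⁻¹ * (e t * e t' * (e t)⁻¹) * h = zp u₁ (dR t t') * (h⁻¹ * e t' * h) := by
      rw [p.inE_conj d (he t) (he t'), heν, heν]
      calc h⁻¹ * (zp u₁ (dR t t') * e t') * h = h⁻¹ * zp u₁ (dR t t') * h * (h⁻¹ * e t' * h) := by group
        _ = _ := by rw [conj_zp, hu₁']
    exact zp_inj_of_ne hu₁1 (mul_right_cancel (h1.symm.trans (by rw [← h2]; group)))
  have hBinj : Function.Injective Bf := fun t t' hh => by
    refine add_eq_zero_iff_eq_neg.1 (dR_nondeg (t + t') fun w => ?_) |>.trans (funext fun i => CharTwo.neg_eq _)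
    rw [dR_add, ← hBd t w, ← hBd t' w, hh, CharTwo.add_self_eq_zero]
  obtain ⟨w, hw⟩ := (Finite.injective_iff_surjective.1 hBinj) (mu S (h⁻¹ * f r * h))
  have hqf : qR (mu S (h⁻¹ * f r * h)) = qR r := by
    have h5 := p.inF_sq d (hF _ (hf r))
    rw [show h⁻¹ * f r * h * (h⁻¹ * f r * h) = h⁻¹ * (f r * f r) * h by group, p.inF_sq d (hf r), conj_zp, hu',
      hfμ] at h5
    exact (zp_inj_of_ne p.u_ne h5).symm
  have hqe : ∀ t, qR (Bf t) = qR t := fun t => by
    refine zp_inj_of_ne hu₁1 ?_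
    rw [← p.inE_sq d (hE _ (he t)), show h⁻¹ * e t * h * (h⁻¹ * e t * h) = h⁻¹ * (e t * e t) * h by group,
      p.inE_sq d (he t), conj_zp, hu₁', heν]
  -- the central exponent is the pairing of the images
  have key : ∀ t, dR (mu S (h⁻¹ * f r * h)) (Bf t) = L r t + s * dR r t := by
    intro t
    have h1 := hL _ _ (hE _ (he t)) (hF _ (hf r))
    have h2 := congrArg (fun w => h⁻¹ * w * h) (hL _ _ (he t) (hf r))
    rw [hfμ, heν] at h2
    set b := h⁻¹ * z * h with hb
    have hb' : h⁻¹ * zp z s * a * h = z := by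
      calc h⁻¹ * zp z s * a * h = h⁻¹ * (zp z s * a) * h := by group
        _ = z := by rw [← hz]; group
    have hbm : b ∈ S.sie g ∧ c₁⁻¹ * b * c₁ ∈ S.sie g := by
      have zF : InF S g u₁ z := ⟨p.z_sie, (p.u₁z d).symm⟩
      have zE : InE S g u c₁ z := ⟨by rw [mul_assoc, ← d.cz, inv_mul_cancel_left]; exact p.z_sie, p.uz.symm⟩
      exact ⟨(hF z zF).1, (hE z zE).1⟩
    obtain ⟨i, j, hbij⟩ := p.meet_mem d hA.mem hA.mem' hA.form hbm.1 hbm.2
    have hj : j = 1 := by
      rcases two_cases j with r' | r'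
      · exfalso
        rw [r', zp_zero, mul_one] at hbij
        have hzz : h * zp z i * h⁻¹ = z := by rw [← hbij, hb]; group
        rcases two_cases i with r'' | r'' <;> rw [r''] at hzz
        · rw [zp_zero, mul_one, mul_inv_cancel] at hzz; exact S.extra.z_ne hzz.symm
        · rw [zp_one, hz] at hzz
          refine (p.axis_params d hA).2.2.2.2.2.2 ((Subgroup.mul_mem_cancel_left Q (S.zp_mem s)).1 ?_)
          rw [hzz]; exact S.extra.z_mem
      · exact r'
    have hha : h⁻¹ * a * h = zp b s * z := by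
      have : h⁻¹ * zp z s * h = zp b s := conj_zp s
      rw [← this]
      calc h⁻¹ * a * h = (h⁻¹ * zp z s * h)⁻¹ * (h⁻¹ * zp z s * a * h) := by group
        _ = h⁻¹ * zp z s * h * z := by
            rw [hb', inv_eq_of_mul_eq_one_right (b := h⁻¹ * zp z s * h) (by
              rw [show h⁻¹ * zp z s * h * (h⁻¹ * zp z s * h) = h⁻¹ * (zp z s * zp z s) * h by group,
                ← S.zp_add, CharTwo.add_self_eq_zero, zp_zero]; group)]
    have h3 : h⁻¹ * e t * h * (h⁻¹ * f r * h) * (h⁻¹ * e t * h)⁻¹ =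
        zp b (L r t) * zp (h⁻¹ * a * h) (dR r t) * (h⁻¹ * f r * h) := by
      rw [← conj_zp, ← conj_zp]
      calc _ = h⁻¹ * (e t * f r * (e t)⁻¹) * h := by group
        _ = _ := by rw [h2]; group
    have h4 := mul_right_cancel (h1.symm.trans h3)
    rw [hha, hbij, hj, zp_one] at h4
    -- compare exponents of `a`
    have expand : ∀ m n : ZMod 2, ∃ k, zp (zp z i * a) m * zp (zp (zp z i * a) s * z) n =
        zp z k * zp a (m + s * n) := by
      intro m n
      have hcomm : ∀ q : ZMod 2, a * zp z q = zp z q * a := fun q => zp_commute haz q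
      refine ⟨i * m + (i * s + 1) * n, ?_⟩
      have e1 : zp (zp z i * a) m = zp z (i * m) * zp a m := by
        rcases two_cases m with r' | r' <;> rw [r'] <;> simp [zp_zero, zp_one]
      have e2 : zp (zp (zp z i * a) s * z) n = zp z ((i * s + 1) * n) * zp a (s * n) := by
        rcases two_cases n with r' | r' <;> rw [r']
        · simp [zp_zero]
        · rw [zp_one, mul_one, mul_one, S.zp_add, zp_one]
          rcases two_cases s with r'' | r'' <;> rw [r'']
          · simp [zp_zero]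
          · rw [zp_one, mul_one, zp_one, mul_assoc, haz, mul_assoc]
      rw [e1, e2, S.zp_add, zp_add' hA.sq]
      calc zp z (i * m) * zp a m * (zp z ((i * s + 1) * n) * zp a (s * n))
          = zp z (i * m) * (zp a m * zp z ((i * s + 1) * n)) * zp a (s * n) := by group
        _ = zp z (i * m) * (zp z ((i * s + 1) * n) * zp a m) * zp a (s * n) := by
            rw [← zp_commute (x := zp z ((i * s + 1) * n)) (w := a) ((zp_commute haz _).symm) m]
        _ = _ := by group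
    obtain ⟨k, hk⟩ := expand (L r t) (dR r t)
    rw [hk] at h4
    exact (p.za_inj d hA h4).2
  have : x = w := by
    refine add_eq_zero_iff_eq_neg.1 (dR_nondeg (x + w) fun t => ?_) |>.trans (funext fun i => CharTwo.neg_eq _)
    rw [dR_add, hx, ← key, ← hw, hBd, CharTwo.add_self_eq_zero]
  rw [this, ← hqe, hw, hqf]

/-- The dichotomy of families. -/
theorem dichotomy : ∃ L : R4 → R4 → ZMod 2,
    (∀ e f, InE S g u c₁ e → InF S g u₁ f →
      e * f * e⁻¹ = zp z (L (mu S f) (nu S e)) * zp a (dR (mu S f) (nu S e)) * f) ∧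
    (∀ r r' s, L (r + r') s = L r s + L r' s) ∧ (∀ r s s', L r (s + s') = L r s + L r s') ∧
    ((L lI lI = 0 ∧ L lI lJ = 0 ∧ L lJ lI = 0 ∧ L lJ lJ = 0 ∧
        ¬ (L lI' lI' = 0 ∧ L lI' lJ' = 0 ∧ L lJ' lI' = 0 ∧ L lJ' lJ' = 0)) ∨
      (L lI' lI' = 0 ∧ L lI' lJ' = 0 ∧ L lJ' lI' = 0 ∧ L lJ' lJ' = 0 ∧
        ¬ (L lI lI = 0 ∧ L lI lJ = 0 ∧ L lJ lI = 0 ∧ L lJ lJ = 0))) := by
  obtain ⟨L, hL, hl, hr⟩ := p.exists_pairing d hA
  refine ⟨L, hL, hl, hr, ?_⟩
  have hl0 : ∀ s, L 0 s = 0 := fun s => by have := hl 0 0 s; rwa [add_zero, left_eq_add] at this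
  have hr0 : ∀ r, L r 0 = 0 := fun r => by have := hr r 0 0; rwa [add_zero, left_eq_add] at this
  have hls : ∀ (t : ZMod 2) r s, L (t • r) s = t * L r s := fun t r s => by
    rcases two_cases t with e | e <;> rw [e] <;> simp [hl0]
  have hrs : ∀ (t : ZMod 2) r s, L r (t • s) = t * L r s := fun t r s => by
    rcases two_cases t with e | e <;> rw [e] <;> simp [hr0]
  let b : Fin 4 → R4 := fun i => Pi.single i 1
  let row : Fin 4 → R4 := fun i j => L (b i) (b j)
  have hdec : ∀ r : R4, r = r 0 • b 0 + r 1 • b 1 + r 2 • b 2 + r 3 • b 3 := fun r => by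
    funext i; fin_cases i <;> simp [b]
  have hbil : ∀ r s, L r s = bil (row 0) (row 1) (row 2) (row 3) r s := fun r s => by
    conv_lhs => rw [hdec r, hdec s]
    simp only [hl, hr, hls, hrs, bil, row]
    ring
  have iso : ∀ (s : ZMod 2) (r : R4), qR (repMap (row 0) (row 1) (row 2) (row 3) r + s • r) = qR r := by
    intro s r
    refine p.pairing_isometry d hA hL s r _ fun t => ?_
    rw [dR_add, repMap_spec, ← hbil]
    rcases two_cases s with e | e <;> rw [e] <;> simp [dR]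
  have h0 : ∀ r, qR (repMap (row 0) (row 1) (row 2) (row 3) r) = qR r := fun r => by simpa using iso 0 r
  have h1 : ∀ r, qR (repMap (row 0) (row 1) (row 2) (row 3) r + r) = qR r := fun r => by simpa using iso 1 r
  have hrow : rowsOK (row 0) (row 1) (row 2) (row 3) = true := by
    simp only [rowsOK, decide_eq_true_eq]
    refine ⟨?_, ?_, ?_, ?_⟩
    · have := h0 ![1, 0, 0, 0]; simpa [repMap] using this
    · have := h0 ![0, 1, 0, 0]; simpa [repMap] using this
    · have := h0 ![0, 0, 1, 0]; simpa [repMap] using this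
    · have := h0 ![0, 0, 0, 1]; simpa [repMap] using this
  simpa only [hbil] using family_choice _ _ _ _ hrow h0 h1

end Pair

end Co

end CfsgLib.Characterizations.CoType
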