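import Cfsg.Agent.Lib.Characterizations.CoType.Golay.SplitData

/-!
# Groups of Conway type: the normaliser of two complementary halves of `Q`

A half is a lift of the points of a totally singular subspace to an elementary subgroup avoiding `z`.
-/

set_option autoImplicit false
set_option linter.style.haveILetI false
set_option linter.unusedSectionVars false
set_option maxRecDepth 4000

namespace CfsgLib.Characterizations.CoType

open CfsgLib.ThreeTransp.Extraspecial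

variable {G : Type*} [Group G] [Finite G] {z : G} {Q : Subgroup G} {π : G → V}

/-- A parametrisation of a totally singular subspace. -/
structure Sing (vec : ℕ → V) : Prop where
  add : ∀ m n : Fin 16, vec (m.1 ^^^ n.1) = vec m.1 + vec n.1
  zero : vec 0 = 0
  sing : ∀ n : Fin 16, q (vec n.1) = 0
  orth : ∀ m n : Fin 16, B (vec m.1) (vec n.1) = 0
  inj : ∀ n : Fin 16, vec n.1 = 0 → n.1 = 0
  span : ∀ n : Fin 16, vec n.1 = bitz n.1 0 • vec (2 ^ 0) + bitz n.1 1 • vec (2 ^ 1) +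
    bitz n.1 2 • vec (2 ^ 2) + bitz n.1 3 • vec (2 ^ 3)

theorem sing_wvec : Sing wvec := by
  refine ⟨wvec_facts.2.2.2.2.2.2, ?_, fun n => inW_singular (wvec_facts.1 n),
    fun m n => inW_orth (wvec_facts.1 m) (wvec_facts.1 n), ?_, ?_⟩ <;> decide +kernel

theorem sing_fvec : Sing fvec := by
  refine ⟨fvec_facts.2.2.1, fvec_facts.2.2.2.2.1, fvec_facts.1, fvec_facts.2.1, fvec_facts.2.2.2.1, ?_⟩
  decide +kernel

theorem Sing.map_eq {vec : ℕ → V} (h : Sing vec) {g h' : V → V} (hg : Iso g) (hh : Iso h')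
    (he : ∀ b : Fin 4, g (vec (2 ^ b.1)) = h' (vec (2 ^ b.1))) (n : Fin 16) : g (vec n.1) = h' (vec n.1) := by
  have e0 : g (vec (2 ^ 0)) = h' (vec (2 ^ 0)) := he 0
  have e1 : g (vec (2 ^ 1)) = h' (vec (2 ^ 1)) := he 1
  have e2 : g (vec (2 ^ 2)) = h' (vec (2 ^ 2)) := he 2
  have e3 : g (vec (2 ^ 3)) = h' (vec (2 ^ 3)) := he 3
  simp only [h.span n, hg.add, hh.add, hg.map_smul, hh.map_smul, e0, e1, e2, e3]

theorem iso_id : Iso (id : V → V) := ⟨fun _ _ => rfl, fun _ => rfl, Function.injective_id⟩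

/-- An isometry fixing both halves is trivial. -/
theorem fix_basis {g : V → V} (hg : Iso g) (hw : ∀ b : Fin 4, g (wvec (2 ^ b.1)) = wvec (2 ^ b.1))
    (hf : ∀ b : Fin 4, g (fvec (2 ^ b.1)) = fvec (2 ^ b.1)) (v : V) : g v = v := by
  refine additive_ext (h := id) hg.add (fun _ _ => rfl) (fun i => ?_) v
  obtain ⟨m, n, e⟩ := span_basis i
  rw [e, hg.add, sing_wvec.map_eq hg iso_id hw m, sing_fvec.map_eq hg iso_id hf n]
  rfl

namespace Co

/-- A lift of a totally singular subspace. -/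
structure Lift (S : Co z Q π) (vec : ℕ → V) (l : List G) : Prop where
  len : l.length = 4
  mem : ∀ b : Fin 4, l.getD b.1 1 ∈ Q
  val : ∀ b : Fin 4, π (l.getD b.1 1) = vec (2 ^ b.1)

/-- The subgroup generated by a lift. -/
def half (_S : Co z Q π) (l : List G) : Subgroup G := Subgroup.closure {x | x ∈ l}

variable {S : Co z Q π}

theorem getD_half {l : List G} (b : ℕ) : l.getD b 1 ∈ S.half l := by
  by_cases h : b < l.length
  · rw [List.getD_eq_getElem _ _ h]; exact Subgroup.subset_closure (List.getElem_mem _)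
  · rw [List.getD_eq_default _ _ (not_lt.1 h)]; exact one_mem _

theorem word_half {l : List G} (n : ℕ) : wordVal l n ∈ S.half l :=
  wordVal_mem (fun _ hx => Subgroup.subset_closure hx) n

theorem over_comm (S : Co z Q π) {vec : ℕ → V} (hv : Sing vec) {x y : G} (hx : x ∈ Q) (hy : y ∈ Q)
    {m n : Fin 16} (hxm : π x = vec m.1) (hyn : π y = vec n.1) : x * y = y * x :=
  (S.comm_iff hx hy).2 (by rw [hxm, hyn, hv.orth])

namespace Lift

variable {vec : ℕ → V} {l : List G} (hl : S.Lift vec l) (hv : Sing vec)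
include hl hv

theorem word_π (n : Fin 16) : wordVal l n.1 ∈ Q ∧ π (wordVal l n.1) = vec n.1 := by
  obtain ⟨x0, x1, x2, x3, rfl⟩ : ∃ x0 x1 x2 x3, l = [x0, x1, x2, x3] := by
    have := hl.len
    rcases l with _ | ⟨a, _ | ⟨b, _ | ⟨c, _ | ⟨d, _ | ⟨e, l⟩⟩⟩⟩⟩ <;> simp at this
    exact ⟨a, b, c, d, rfl⟩
  obtain ⟨h1, h2⟩ := S.π_wordVal (l := [x0, x1, x2, x3]) (vl := [vec (2 ^ 0), vec (2 ^ 1), vec (2 ^ 2), vec (2 ^ 3)])
    (List.Forall₂.cons ⟨hl.mem 0, hl.val 0⟩ (List.Forall₂.cons ⟨hl.mem 1, hl.val 1⟩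
      (List.Forall₂.cons ⟨hl.mem 2, hl.val 2⟩ (List.Forall₂.cons ⟨hl.mem 3, hl.val 3⟩ List.Forall₂.nil)))) n.1
  refine ⟨h2, h1.trans ?_⟩
  have key : ∀ (n : Fin 16) (a b c d : V), Multiplicative.toAdd (wordVal (M := Multiplicative V)
      ([a, b, c, d].map Multiplicative.ofAdd) n.1) =
        bitz n.1 0 • a + bitz n.1 1 • b + bitz n.1 2 • c + bitz n.1 3 • d := by
    intro n a b c d
    fin_cases n <;> simp [wordVal, bitz, Nat.testBit, Nat.shiftRight_eq_div_pow, add_assoc]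
  exact (key n _ _ _ _).trans (hv.span n).symm

theorem gen_over {x : G} (hx : x ∈ l) : x ∈ Q ∧ ∃ n : Fin 16, π x = vec n.1 := by
  obtain ⟨j, hj, rfl⟩ := List.getElem_of_mem hx
  have hj4 : j < 4 := hl.len ▸ hj
  have h1 := hl.mem ⟨j, hj4⟩
  have h2 := hl.val ⟨j, hj4⟩
  rw [List.getD_eq_getElem _ _ hj] at h1 h2
  exact ⟨h1, ⟨2 ^ j, Nat.pow_lt_pow_right (show 1 < 2 by norm_num) hj4⟩, h2⟩

theorem mem_half {x : G} : x ∈ S.half l ↔ ∃ n : Fin 16, x = wordVal l n.1 := by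
  let K : Subgroup G :=
    { carrier := {x | x ∈ Q ∧ ∃ n : Fin 16, π x = vec n.1}
      one_mem' := ⟨one_mem Q, 0, S.π_one.trans hv.zero.symm⟩
      mul_mem' := fun {a b} ha hb => by
        obtain ⟨hax, m, hm⟩ := ha
        obtain ⟨hbx, n, hn⟩ := hb
        exact ⟨mul_mem hax hbx, ⟨m.1 ^^^ n.1, Nat.xor_lt_two_pow (n := 4) m.2 n.2⟩, by
          rw [S.π_mul a hax b hbx, hm, hn]; exact (hv.add m n).symm⟩
      inv_mem' := fun {a} ha => by
        obtain ⟨hax, m, hm⟩ := ha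
        exact ⟨inv_mem hax, m, by rw [S.π_inv hax, hm]⟩ }
  have hx4 : ∀ m n : ℕ, wordVal l (m ^^^ n) = wordVal l m * wordVal l n :=
    wordVal_xor (K := K) (fun a ha b hb => by
      obtain ⟨hax, m, hm⟩ := ha
      obtain ⟨hbx, n, hn⟩ := hb
      exact over_comm S hv hax hbx hm hn)
      (fun a ha => by
        obtain ⟨hax, m, hm⟩ := ha
        exact (S.q_iff a hax).1 (by rw [hm, hv.sing])) fun a ha => hl.gen_over hv ha
  constructor
  · intro hx
    induction hx using Subgroup.closure_induction with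
    | mem y hy =>
      obtain ⟨j, hj, rfl⟩ := List.getElem_of_mem hy
      exact ⟨⟨2 ^ j, Nat.pow_lt_pow_right (show 1 < 2 by norm_num) (hl.len ▸ hj)⟩, by
        rw [wordVal_two_pow l j hj, List.getD_eq_getElem _ _ hj]⟩
    | one => exact ⟨0, (wordVal_zero l).symm⟩
    | mul a b _ _ ha hb =>
      obtain ⟨m, rfl⟩ := ha
      obtain ⟨n, rfl⟩ := hb
      exact ⟨⟨m.1 ^^^ n.1, Nat.xor_lt_two_pow (n := 4) m.2 n.2⟩, (hx4 _ _).symm⟩
    | inv a _ ha =>
      obtain ⟨m, rfl⟩ := ha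
      refine ⟨m, inv_eq_of_mul_eq_one_right ?_⟩
      rw [← hx4, Nat.xor_self, wordVal_zero]
  · rintro ⟨n, rfl⟩
    exact word_half n.1

theorem half_π {x : G} (hx : x ∈ S.half l) : x ∈ Q ∧ ∃ n : Fin 16, π x = vec n.1 := by
  obtain ⟨n, rfl⟩ := (hl.mem_half hv).1 hx
  exact ⟨(hl.word_π hv n).1, n, (hl.word_π hv n).2⟩

theorem half_comm {x y : G} (hx : x ∈ S.half l) (hy : y ∈ S.half l) : x * y = y * x := by
  obtain ⟨h1, m, hm⟩ := hl.half_π hv hx
  obtain ⟨h2, n, hn⟩ := hl.half_π hv hy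
  exact over_comm S hv h1 h2 hm hn

theorem half_sq {x : G} (hx : x ∈ S.half l) : x * x = 1 := by
  obtain ⟨h1, m, hm⟩ := hl.half_π hv hx
  exact (S.q_iff x h1).1 (by rw [hm, hv.sing])

theorem half_eq_one {x : G} (hx : x ∈ S.half l) (h : π x = 0) : x = 1 := by
  obtain ⟨n, rfl⟩ := (hl.mem_half hv).1 hx
  rw [(hl.word_π hv n).2] at h
  rw [hv.inj n h, wordVal_zero]

theorem card_half_le : Nat.card ↥(S.half l) ≤ 16 :=
  (Nat.card_le_card_of_surjective (fun n : Fin 16 => (⟨wordVal l n.1, word_half n.1⟩ : ↥(S.half l))) fun x => by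
    obtain ⟨n, hn⟩ := (hl.mem_half hv).1 x.2
    exact ⟨n, Subtype.ext hn.symm⟩).trans_eq (Nat.card_fin 16)

omit hl hv in
theorem mem_normalizer_half {k : G} (h : ∀ x ∈ l, k * x * k⁻¹ ∈ S.half l) :
    k ∈ Subgroup.normalizer (S.half l : Set G) := by
  have hall : ∀ x ∈ S.half l, k * x * k⁻¹ ∈ S.half l := fun x hx => by
    induction hx using Subgroup.closure_induction with
    | mem y hy => exact h y hy
    | one => rw [mul_one, mul_inv_cancel]; exact one_mem _
    | mul a b _ _ ha hb => rw [← conj_mul]; exact mul_mem ha hb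
    | inv a _ ha => rw [show k * a⁻¹ * k⁻¹ = (k * a * k⁻¹)⁻¹ by group]; exact inv_mem ha
  rw [Subgroup.mem_normalizer_iff]
  intro x
  refine ⟨hall x, fun hx => ?_⟩
  let f : ↥(S.half l) → ↥(S.half l) := fun y => ⟨k * y * k⁻¹, hall y y.2⟩
  have hf : Function.Injective f := fun a b e => Subtype.ext (by
    exact mul_left_cancel (mul_right_cancel (congrArg Subtype.val e)))
  obtain ⟨y, hy⟩ := (Finite.injective_iff_surjective.1 hf) ⟨_, hx⟩
  rw [← mul_left_cancel (mul_right_cancel (congrArg Subtype.val hy))]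
  exact y.2

end Lift

/-- The elements of `C(z)` normalising both halves. -/
def levi (S : Co z Q π) (xs ys : List G) : Subgroup G :=
  Subgroup.centralizer ({z} : Set G) ⊓ Subgroup.normalizer (S.half xs : Set G) ⊓
    Subgroup.normalizer (S.half ys : Set G)

theorem levi_cz {xs ys : List G} {l : G} (h : l ∈ S.levi xs ys) : l * z = z * l :=
  Subgroup.mem_centralizer_singleton_iff.1 (Subgroup.mem_inf.1 (Subgroup.mem_inf.1 h).1).1

/-- A pair of lifts. -/
structure Halves (S : Co z Q π) (xs ys : List G) : Prop where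
  hx : S.Lift wvec xs
  hy : S.Lift fvec ys

namespace Halves

variable {xs ys : List G} (H : S.Halves xs ys)
include H

/-- Sign correction. -/
theorem exists_lift {k : G} (hk : k * z = z * k) {m m' : List ℕ} (hm : ∀ b : Fin 4, m.getD b.1 0 < 16)
    (hm' : ∀ b : Fin 4, m'.getD b.1 0 < 16) (hw : S.WAct k m)
    (hf : ∀ b : Fin 4, S.act k (fvec (2 ^ b.1)) = fvec (m'.getD b.1 0)) :
    ∃ l ∈ S.levi xs ys, S.WAct l m := by
  classical
  have key : ∀ {vec : ℕ → V} {l : List G}, S.Lift vec l → Sing vec → ∀ {j : List ℕ}, (∀ b : Fin 4, j.getD b.1 0 < 16) →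
      (∀ b : Fin 4, S.act k (vec (2 ^ b.1)) = vec (j.getD b.1 0)) →
      ∀ b : Fin 4, ∃ s, k * l.getD b.1 1 * k⁻¹ = wordVal l (j.getD b.1 0) * zp z s := by
    intro vec l hl hv j hj hact b
    obtain ⟨h1, h2⟩ := hl.word_π hv ⟨_, hj b⟩
    have hπk : π (k * l.getD b.1 1 * k⁻¹) = π (wordVal l (j.getD b.1 0)) := by
      rw [← S.act_π hk (hl.mem b), hl.val b, hact b, h2]
    rcases S.π_eq h1 (S.norm k hk _ (hl.mem b)) hπk.symm with e | e
    · exact ⟨0, by rw [e, zp_zero, mul_one]⟩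
    · exact ⟨1, by rw [e, zp_one]⟩
  choose s hs using key H.hx sing_wvec hm hw
  choose t ht using key H.hy sing_fvec hm' hf
  obtain ⟨s', hs'⟩ := fin16_bits s
  obtain ⟨t', ht'⟩ := fin16_bits t
  obtain ⟨y, hy, hyπ⟩ := S.π_surj (S.act k (fvec s'.1 + wvec t'.1))
  have hyz := S.mem_cz hy
  have hkz : y * k * z = z * (y * k) := cz_mul hyz hk
  have fix : ∀ {vec : ℕ → V} {l : List G}, S.Lift vec l → Sing vec → ∀ {j : List ℕ}, (∀ b : Fin 4, j.getD b.1 0 < 16) →
      (∀ b : Fin 4, S.act k (vec (2 ^ b.1)) = vec (j.getD b.1 0)) → ∀ r : Fin 4 → ZMod 2,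
      (∀ b : Fin 4, B (fvec s'.1 + wvec t'.1) (vec (2 ^ b.1)) = r b) →
      (∀ b : Fin 4, k * l.getD b.1 1 * k⁻¹ = wordVal l (j.getD b.1 0) * zp z (r b)) →
      y * k ∈ Subgroup.normalizer (S.half l : Set G) := by
    intro vec l hl hv j hj hact r hr hr'
    refine Lift.mem_normalizer_half fun x hx => ?_
    obtain ⟨i, hi, rfl⟩ := List.getElem_of_mem hx
    obtain ⟨b, rfl⟩ : ∃ b : Fin 4, b.1 = i := ⟨⟨i, hl.len ▸ hi⟩, rfl⟩
    rw [← List.getD_eq_getElem l 1 hi]
    obtain ⟨h1, h2⟩ := hl.word_π hv ⟨_, hj b⟩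
    have e : B (π y) (π (wordVal l (j.getD b.1 0))) = r b := by
      rw [hyπ, h2, ← hact b, (S.act_iso hk).polar, hr b]
    have : y * k * l.getD b.1 1 * (y * k)⁻¹ = wordVal l (j.getD b.1 0) := by
      calc y * k * l.getD b.1 1 * (y * k)⁻¹ = y * (k * l.getD b.1 1 * k⁻¹) * y⁻¹ := by group
        _ = y * wordVal l (j.getD b.1 0) * y⁻¹ * (y * zp z (r b) * y⁻¹) := by rw [hr' b]; group
        _ = wordVal l (j.getD b.1 0) * zp z (r b) * zp z (r b) := by
            rw [S.conj_eq h1 hy, e, S.zp_comm _ hyz, mul_inv_cancel_right]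
        _ = _ := by rw [mul_assoc, ← S.zp_add, CharTwo.add_self_eq_zero, zp_zero, mul_one]
    rw [this]
    exact word_half _
  refine ⟨y * k, Subgroup.mem_inf.2 ⟨Subgroup.mem_inf.2 ⟨Subgroup.mem_centralizer_singleton_iff.2 hkz,
    fix H.hx sing_wvec hm hw s (fun b => by rw [(basis_dual s' t' b).1, hs']) hs⟩,
    fix H.hy sing_fvec hm' hf t (fun b => by rw [(basis_dual s' t' b).2, ht']) ht⟩, fun b => ?_⟩
  rw [S.act_mul hyz hk, S.act_Q hy, hw b]

/-- An element acting trivially on the first subspace is central. -/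
theorem trivial {l : G} (hl : l ∈ S.levi xs ys) (hw : ∀ b : Fin 4, S.act l (wvec (2 ^ b.1)) = wvec (2 ^ b.1)) :
    ∃ s, l = zp z s := by
  obtain ⟨hl1, hY⟩ := Subgroup.mem_inf.1 hl
  have hX := (Subgroup.mem_inf.1 hl1).2
  have hlz := levi_cz hl
  have hI := S.act_iso hlz
  have hf : ∀ c : Fin 4, S.act l (fvec (2 ^ c.1)) = fvec (2 ^ c.1) := by
    intro c
    obtain ⟨-, n, hn⟩ := H.hy.half_π sing_fvec ((Subgroup.mem_normalizer_iff.1 hY _).1 (getD_half (l := ys) c.1))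
    rw [← S.act_π hlz (H.hy.mem c), H.hy.val c] at hn
    rw [hn, bits_unit n c fun b => ?_]
    rw [← fvec_facts.2.2.2.2.2, ← fvec_facts.2.2.2.2.2 ⟨_, Nat.pow_lt_pow_right (show 1 < 2 by norm_num) c.2⟩, ← hn]
    conv_lhs => rw [← hw b]
    exact hI.polar _ _
  have hQ : l ∈ Q := S.mem_of_act_id hlz (fix_basis hI hw hf)
  have zero : ∀ {vec : ℕ → V} {ls : List G}, S.Lift vec ls → Sing vec → l ∈ Subgroup.normalizer (S.half ls : Set G) →
      ∀ b : Fin 4, B (π l) (vec (2 ^ b.1)) = 0 := by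
    intro vec ls hls hv hn b
    have h := (Subgroup.mem_normalizer_iff.1 hn _).1 (getD_half (l := ls) b.1)
    rw [S.conj_eq (hls.mem b) hQ, hls.val b] at h
    have hz := hls.half_eq_one hv ((Subgroup.mul_mem_cancel_left _ (getD_half b.1)).1 h) (S.π_zp _)
    exact S.zp_inj (hz.trans (zp_zero z).symm)
  rcases (S.π_ker l hQ).1 (basis_nondeg _ (zero H.hx sing_wvec hX) (zero H.hy sing_fvec hY)) with e | e
  · exact ⟨0, by rw [e, zp_zero]⟩
  · exact ⟨1, by rw [e, zp_one]⟩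

/-- Elements with the same action differ by a power of `z`. -/
theorem eq_of_wact {l l' : G} (hl : l ∈ S.levi xs ys) (hl' : l' ∈ S.levi xs ys) {m : List ℕ} (h : S.WAct l m)
    (h' : S.WAct l' m) : ∃ s, l' = l * zp z s := by
  have hlz := levi_cz hl
  obtain ⟨s, hs⟩ := H.trivial (mul_mem (inv_mem hl) hl') fun b => by
    rw [S.act_mul (cz_inv hlz) (levi_cz hl'), h' b, ← h b, S.act_inv_act hlz]
  exact ⟨s, by rw [← hs, mul_inv_cancel_left]⟩

end Halves

end Co

end CfsgLib.Characterizations.CoType
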