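import Cfsg.Agent.Lib.Characterizations.CoType.Golay.Ident

/-!
# Groups of Conway type: the two orbits on the subgroup of order `2¹¹`
-/

set_option autoImplicit false
set_option linter.style.haveILetI false
set_option linter.unusedSectionVars false
set_option maxRecDepth 4000

namespace CfsgLib.Characterizations.CoType

open CfsgLib.ThreeTransp.Extraspecial

variable {G : Type*} [Group G] [Finite G] {z : G} {Q : Subgroup G} {π : G → V}

theorem pow_mod_23 : ∀ k : Fin 12, 2048 % 23 = 2 ^ k.1 % 23 → k.1 = 0 ∨ k.1 = 11 := by decide +kernel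

theorem count840 : (Finset.univ.filter fun v : Fin 2048 => m840.testBit v.1).card = 840 ∧
    (∀ v : Fin 2048, mBase.testBit v.1 = false → mNd.testBit v.1 = false → v.1 ≠ 0 → m840.testBit v.1 = true) ∧
    m840.testBit 40 = true ∧ mNd.testBit 40 = false := by
  decide +kernel

namespace Co

variable (S : Co z Q π)

/-- Conjugacy to a given element under the normaliser. -/
def Orb (S : Co z Q π) (b x : G) : Prop := ∃ n ∈ Subgroup.normalizer (S.asub : Set G), n * b * n⁻¹ = x

theorem orb_conj {b : G} {n : G} (hn : n ∈ Subgroup.normalizer (S.asub : Set G)) (x : G) :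
    S.Orb b (n * x * n⁻¹) ↔ S.Orb b x := by
  constructor
  · rintro ⟨m, hm, e⟩
    exact ⟨n⁻¹ * m, mul_mem (inv_mem hn) hm, by
      calc n⁻¹ * m * b * (n⁻¹ * m)⁻¹ = n⁻¹ * (m * b * m⁻¹) * n := by group
        _ = x := by rw [e]; group⟩
  · rintro ⟨m, hm, e⟩
    exact ⟨n * m, mul_mem hn hm, by rw [← e]; group⟩

end Co

namespace Co.Gd

variable {S : Co z Q π} {u g u₁ c₁ a : G} {L : R4 → R4 → ZMod 2} (D : S.Gd u g u₁ c₁ a L)
include D

theorem exists_fpf (h23 : 23 ∣ Nat.card ↥(Subgroup.normalizer (S.asub : Set G))) :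
    ∃ n ∈ Subgroup.normalizer (S.asub : Set G), n ^ 23 = 1 ∧ ∀ x ∈ S.asub, n * x * n⁻¹ = x → x = 1 := by
  haveI : Fact (Nat.Prime 23) := ⟨by norm_num⟩
  obtain ⟨n, hn⟩ := exists_prime_orderOf_dvd_card' 23 h23
  have ho : orderOf (n : G) = 23 := (Subgroup.orderOf_coe n).trans hn
  obtain ⟨k, h1, h2, h3⟩ := S.exists_fixed_pow D.card_asub n.2 ho
  refine ⟨n, n.2, by rw [← ho, pow_orderOf_eq_one], fun x hx he => ?_⟩
  rcases pow_mod_23 ⟨k, by omega⟩ h2 with hk | hk <;> simp only at hk <;> subst hk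
  · have hb := Subgroup.eq_bot_of_card_le _ (le_of_eq (h3.trans (pow_zero 2)))
    have hxm : x ∈ S.asub ⊓ Subgroup.centralizer ({(n : G)} : Set G) := Subgroup.mem_inf.2
      ⟨hx, Subgroup.mem_centralizer_singleton_iff.2 (mul_inv_eq_iff_eq_mul.1 he).symm⟩
    rwa [hb, Subgroup.mem_bot] at hxm
  · exfalso
    have heq : S.asub ⊓ Subgroup.centralizer ({(n : G)} : Set G) = S.asub :=
      Subgroup.eq_of_le_of_card_ge inf_le_left (by rw [h3, D.card_asub])
    have hnc : (n : G) ∈ Subgroup.centralizer (S.asub : Set G) := Subgroup.mem_centralizer_iff.2 fun x hx => by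
      have hx' : x ∈ S.asub ⊓ Subgroup.centralizer ({(n : G)} : Set G) := heq.symm ▸ hx
      exact Subgroup.mem_centralizer_singleton_iff.1 (Subgroup.mem_inf.1 hx').2
    rw [D.centralizer_asub] at hnc
    have h2' : 23 ∣ 2 := ho ▸ orderOf_dvd_of_pow_eq_one (by rw [pow_two]; exact D.asub_sq hnc)
    norm_num at h2'

end Co.Gd

namespace Frame11

variable {S : Co z Q π} {u g u₁ c₁ a : G} {L : R4 → R4 → ZMod 2} {xs cs : List G} (F : Frame11 S xs cs)
  (D : S.Gd u g u₁ c₁ a L) (hreal : ∀ i : Fin 3, Co.Gd.Real S xs (genM i.1)) (hca : cs.getD 0 1 = a)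

include F D hreal hca

/-- The normaliser has two orbits on the non-identity elements. -/
theorem two_orbits (h23 : 23 ∣ Nat.card ↥(Subgroup.normalizer (S.asub : Set G))) :
    ∃ a ∈ S.asub, ∃ b ∈ S.asub, a ≠ 1 ∧ b ≠ 1 ∧
      (∀ n ∈ Subgroup.normalizer (S.asub : Set G), n * a * n⁻¹ ≠ b) ∧
      ∀ c ∈ S.asub, c ≠ 1 → ∃ n ∈ Subgroup.normalizer (S.asub : Set G), n * c * n⁻¹ = a ∨ n * c * n⁻¹ = b := by
  classical
  set N := Subgroup.normalizer (S.asub : Set G)
  set b := cd z xs cs 40 with hb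
  have hbA : b ∈ S.asub := wordVal_mem F.base_mem _
  obtain ⟨c840, hrest, h40, h40nd⟩ := count840
  have hnf : ¬ S.Fused b := (F.not_fused_eight D hreal hca 40 (by norm_num) h40).1
  have hb1 : b ≠ 1 := fun e => by
    have := F.el_inj D ⟨40, by norm_num⟩ ⟨0, by norm_num⟩ (by rw [wordVal_zero]; exact e)
    simp at this
  have hR : ∀ n ∈ N, ∀ x, S.Orb b (n * x * n⁻¹) ↔ S.Orb b x := fun n hn x => S.orb_conj hn x
  have horbnf : ∀ x, S.Orb b x → ¬ S.Fused x := by
    rintro x ⟨n, hn, rfl⟩ h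
    exact hnf ((S.fused_conj hn).1 h)
  have hseed : S.Orb b (cd z xs cs (40 ^^^ 1)) := by
    obtain ⟨m, hm, -, hT⟩ := F.op_T D 2
    exact ⟨m, hm, by rw [hb, hT 40 (by norm_num)]; rfl⟩
  have h8 := F.both_class D hreal (S.Orb b) hR (r := 40) layers_ok.2.2.1 head_pairs.2.2.1
    ⟨1, one_mem _, by rw [hb]; simp⟩ hseed
  have hnd := F.pair_class D hreal (Φ := fun p q => p ∨ q) (fun _ _ => or_comm) (S.Orb b) hR (r := 384)
    layers_ok.2.2.2.1 head_pairs.2.2.2
  -- every element outside the orbit of `z` is in the orbit of `b`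
  have hall : ∀ v < 2048, v ≠ 0 → ¬ S.Fused (cd z xs cs v) → S.Orb b (cd z xs cs v) := by
    by_cases h384 : S.Orb b (cd z xs cs 384) ∨ S.Orb b (cd z xs cs (384 ^^^ 1))
    · intro v hv hv0 hf
      cases hbv : mNd.testBit v
      · have hbase : mBase.testBit v = false := by
          simpa using mt (F.fused_base D hreal hca v hv hbv).2 hf
        exact (h8 v hv (hrest ⟨v, hv⟩ hbase hbv hv0)).1
      · rcases (hnd v hv hbv).2 h384 with h | h
        · exact h
        · exact absurd ((F.exactly_one D hreal hca v hv hbv).2 hf) (horbnf _ h)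
    exfalso
    obtain ⟨n, hn, hn23, hfpf⟩ := D.exists_fpf h23
    haveI : Fact (Nat.Prime 23) := ⟨by norm_num⟩
    let σ : Function.End {x : G // S.Orb b x} := fun x => ⟨n * x * n⁻¹, (S.orb_conj hn x).2 x.2⟩
    haveI : Fintype {x : G // S.Orb b x} := Fintype.ofFinite _
    have hσ : σ ^ 23 ^ 1 = 1 := by
      have hpow : ∀ (i : ℕ) (x : {x : G // S.Orb b x}), ((σ ^ i) x : G) = n ^ i * x * (n ^ i)⁻¹ := by
        intro i
        induction i with
        | zero =>
          intro x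
          rw [pow_zero, pow_zero, one_mul, inv_one, mul_one]
          rfl
        | succ i ih =>
          intro x
          rw [pow_succ σ i]
          show ((σ ^ i) (σ x) : G) = _
          rw [ih, pow_succ]
          show n ^ i * (n * (x : G) * n⁻¹) * (n ^ i)⁻¹ = _
          group
      refine funext fun x => Subtype.ext ?_
      rw [pow_one, hpow, hn23, one_mul, inv_one, mul_one]
      rfl
    have hnone : IsEmpty (Function.fixedPoints σ) := ⟨fun ⟨⟨x, hx⟩, hfix⟩ => by
      obtain ⟨m, hm, hmx⟩ := hx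
      have hxA : x ∈ S.asub := hmx ▸ (Subgroup.mem_normalizer_iff.1 hm b).1 hbA
      have hfix' : n * x * n⁻¹ = x := congrArg Subtype.val hfix
      have := hfpf x hxA hfix'
      rw [this] at hmx
      exact hb1 (conj_eq_one_iff.1 hmx)⟩
    have hmod := Equiv.Perm.card_fixedPoints_modEq (f := σ) hσ
    rw [Fintype.card_eq_zero (α := Function.fixedPoints σ), Fintype.card_eq_nat_card] at hmod
    have hcard : Nat.card {x : G // S.Orb b x} = 840 := by
      have hA : ∀ x, S.Orb b x → x ∈ S.asub := by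
        rintro x ⟨m, hm, rfl⟩; exact (Subgroup.mem_normalizer_iff.1 hm b).1 hbA
      rw [← c840]
      let Φ : {v : Fin 2048 // S.Orb b (cd z xs cs v.1)} → {x : G // S.Orb b x} := fun v => ⟨_, v.2⟩
      have hΦ : Function.Bijective Φ := by
        refine ⟨fun v w e => Subtype.ext (F.el_inj D _ _ (congrArg Subtype.val e)), fun x => ?_⟩
        obtain ⟨v, hv⟩ := F.el_surj D (hA x x.2)
        exact ⟨⟨v, show S.Orb b (wordVal _ v.1) from hv ▸ x.2⟩, Subtype.ext hv.symm⟩
      rw [← Nat.card_congr (Equiv.ofBijective Φ hΦ), Nat.card_eq_fintype_card, Fintype.card_subtype]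
      refine congrArg Finset.card (Finset.filter_congr fun v _ => ⟨fun h => ?_, fun h => (h8 v.1 v.2 h).1⟩)
      obtain ⟨hc, hbs, -, -, -⟩ := cover v
      cases hbv : mNd.testBit v.1
      · refine hrest v (by simpa using mt (F.fused_base D hreal hca v.1 v.2 hbv).2 (horbnf _ h)) hbv fun e => ?_
        obtain ⟨m, hm, hmx⟩ := h
        rw [e, cd, wordVal_zero] at hmx
        exact hb1 (conj_eq_one_iff.1 hmx)
      · exact absurd ((hnd v.1 v.2 hbv).1 (Or.inl h)) h384
    rw [hcard] at hmod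
    exact absurd hmod (by decide)
  refine ⟨z, D.z_asub, b, hbA, S.extra.z_ne, hb1, fun n hn e => hnf ⟨n, hn, e⟩, fun c hc hc1 => ?_⟩
  obtain ⟨v, rfl⟩ := F.el_surj D hc
  by_cases hf : S.Fused (cd z xs cs v.1)
  · obtain ⟨n, hn, e⟩ := hf
    exact ⟨n⁻¹, inv_mem hn, Or.inl (by rw [show wordVal (base11 z xs cs) v.1 = n * z * n⁻¹ from e.symm]; group)⟩
  · obtain ⟨n, hn, e⟩ := hall v.1 v.2 (fun e => hc1 (by rw [e, wordVal_zero])) hf
    exact ⟨n⁻¹, inv_mem hn, Or.inr (by rw [show wordVal (base11 z xs cs) v.1 = n * b * n⁻¹ from e.symm]; group)⟩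

end Frame11

end CfsgLib.Characterizations.CoType
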