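import Cfsg.Agent.Lib.Characterizations.CoType.Golay.Order

/-!
# Groups of Conway type: finite facts about a Levi complement in the stabiliser of the maximal singular subspace

`fvec` spans a totally singular complement of the subspace, dual to `wvec`.
-/

set_option autoImplicit false
set_option maxRecDepth 100000
set_option maxHeartbeats 4000000
set_option synthInstance.maxSize 8192

namespace CfsgLib.Characterizations.CoType

/-- A parameter dual to `φA`. -/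
def ψ0 : W8 := ![1, 0, 0, 0, 1, 1, 1, 0]

/-- The points of the complementary subspace. -/
def fvec (n : ℕ) : V :=
  bitz n 0 • y0 + bitz n 1 • P ψ0 + bitz n 2 • P ![0, 1, 0, 1, 1, 1, 0, 0] +
    bitz n 3 • P ![0, 0, 1, 1, 1, 0, 1, 0]

/-- The permutation moving the subspace to the one of the involution. -/
def τe : Equiv.Perm (Fin 8) := Equiv.swap 5 7 * Equiv.swap 7 6

/-- The translation parameter of the involution. -/
def χe : W8 := ![0, 1, 0, 1, 1, 0, 1, 0]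

/-- The permutation of the involution. -/
def σe : Equiv.Perm (Fin 8) := Equiv.swap 0 1 * Equiv.swap 2 3 * Equiv.swap 4 6 * Equiv.swap 5 7

/-- The parameter of the involution. -/
def ψe : W8 := ![0, 1, 0, 1, 1, 1, 0, 0]

/-- The permutation behind the third generator on the complement. -/
def σ₂ : Equiv.Perm (Fin 8) :=
  Equiv.swap 0 2 * Equiv.swap 2 4 * Equiv.swap 3 5 * Equiv.swap 5 7

/-- The action of the three generators on the complement. -/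
def genF : ℕ → List ℕ
  | 0 => [3, 2, 4, 8]
  | 1 => [1, 3, 4, 8]
  | _ => [1, 4, 8, 2]

/-- The matrix of the involution. -/
def invM : List ℕ := [1, 2, 5, 10]

/-- Six elements with Carmichael's relations, as words. -/
def sixW : List (List ℕ) :=
  [[2, 0, 2, 0, 1, 2, 1, 2, 1, 0], [2, 1, 0, 2, 0, 2, 0, 1, 2, 1], [2, 0, 2, 0, 2, 0, 1, 2, 1, 2, 1], [1, 2, 1, 2, 0, 1, 0, 2, 0, 2, 1, 0], [1, 2, 1, 0, 2, 1, 2, 0, 1, 2, 2, 0, 2, 2], [0, 1, 2, 1, 0, 2, 1, 0, 2, 1, 0, 2, 0, 2, 0]]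

/-- The three generators as words in the six. -/
def genW : List (List ℕ) :=
  [[3, 5, 1, 0, 2, 4, 1, 0], [3, 2, 1, 4, 5, 2, 1, 0], [5, 3, 4, 5, 3, 2]]

/-- The conjugators. -/
def conjW : List ((ℕ × ℕ) × List ℕ) :=
  [((0, 1), [2, 2, 1, 2, 2, 0, 1]), ((0, 2), [1, 0, 2, 1, 0, 2, 1, 2, 0]), ((0, 3), [0, 1, 2, 2, 1]), ((0, 4), [1, 2, 0, 2, 1, 2, 2, 1]), ((0, 5), [0, 2, 1, 2, 2, 0]), ((1, 2), [2, 0, 1, 2, 0, 2, 1, 2, 2]), ((1, 3), [2, 0, 2, 1, 2, 1, 2, 1]), ((1, 4), [0, 1, 0]), ((1, 5), [1, 2, 1, 2, 0]), ((2, 3), [1, 2, 0, 1]), ((2, 4), [2, 1, 2]), ((2, 5), [2, 2, 1, 2, 1, 0]), ((3, 4), [2, 0, 2, 0, 2, 1, 2, 1, 2, 0]), ((3, 5), [2, 1, 0, 2, 1, 2, 2, 0, 1]), ((4, 5), [2, 2, 0, 1, 2, 1, 2, 0])]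

theorem sigma_facts : Equiv.Perm.sign τe = 1 ∧ Equiv.Perm.sign σ₂ = 1 := by decide +kernel

theorem fvec_facts : (∀ n : Fin 16, q (fvec n.1) = 0) ∧
    (∀ m n : Fin 16, B (fvec m.1) (fvec n.1) = 0) ∧
    (∀ m n : Fin 16, fvec (m.1 ^^^ n.1) = fvec m.1 + fvec n.1) ∧
    (∀ n : Fin 16, fvec n.1 = 0 → n.1 = 0) ∧ fvec 0 = 0 ∧
    ∀ n : Fin 16, ∀ b : Fin 4, B (fvec n.1) (wvec (2 ^ b.1)) = bitz n.1 b.1 := by
  decide +kernel

theorem span_basis : ∀ i : Fin 8, ∃ m n : Fin 16, Pi.single i 1 = wvec m.1 + fvec n.1 := by decide +kernel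

theorem basis_dual : ∀ s t : Fin 16, ∀ b : Fin 4,
    B (fvec s.1 + wvec t.1) (wvec (2 ^ b.1)) = bitz s.1 b.1 ∧
      B (fvec s.1 + wvec t.1) (fvec (2 ^ b.1)) = bitz t.1 b.1 := by
  decide +kernel

theorem basis_nondeg : ∀ v : V, (∀ b : Fin 4, B v (wvec (2 ^ b.1)) = 0) →
    (∀ b : Fin 4, B v (fvec (2 ^ b.1)) = 0) → v = 0 := by
  decide +kernel

theorem fin16_bits : ∀ f : Fin 4 → ZMod 2, ∃ s : Fin 16, ∀ b : Fin 4, bitz s.1 b.1 = f b := by decide +kernel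

theorem bits_unit : ∀ n : Fin 16, ∀ c : Fin 4, (∀ b : Fin 4, bitz n.1 b.1 = bitz (2 ^ c.1) b.1) → n.1 = 2 ^ c.1 := by
  decide +kernel

/-! ### The generators -/

/-- The transvection at `u0`. -/
def trA (v : V) : V := M 1 ψ0 v

theorem trA_facts : Ev ψ0 ∧ ∀ b : Fin 4, trA (wvec (2 ^ b.1)) = wvec ((genM 0).getD b.1 0) ∧
    trA (fvec (2 ^ b.1)) = fvec ((genF 0).getD b.1 0) := by
  decide +kernel

theorem trB_facts : B (P φA) y0 = 0 ∧ B u0 y0 = 1 ∧ B u0 (P φA) = 0 ∧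
    (∀ b : Fin 4, B (wvec (2 ^ b.1)) (P φA) = 0 ∧
      wvec (2 ^ b.1) + B (wvec (2 ^ b.1)) y0 • P φA = wvec ((genM 1).getD b.1 0)) ∧
    (∀ b : Fin 4, b.1 ≠ 1 → B (fvec (2 ^ b.1)) (P φA) = 0 ∧
      fvec (2 ^ b.1) + B (fvec (2 ^ b.1)) y0 • P φA = fvec ((genF 1).getD b.1 0)) ∧
    ∀ v : V, q v = 0 → (∀ b : Fin 4, B v (wvec ((genM 1).getD b.1 0)) = if b.1 = 1 then 1 else 0) →
      (∀ b : Fin 4, b.1 ≠ 1 → B v (fvec ((genF 1).getD b.1 0)) = 0) → v = fvec ((genF 1).getD 1 0) := by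
  decide +kernel

theorem trC_facts : ∀ b : Fin 4, M σ₂ 0 (wvec (2 ^ b.1)) = wvec ((genM 2).getD b.1 0) ∧
    M σ₂ 0 (fvec (2 ^ b.1)) = fvec ((genF 2).getD b.1 0) := by
  decide +kernel

theorem genF_lt : ∀ i : Fin 3, ∀ b : Fin 4, (genF i.1).getD b.1 0 < 16 := by decide +kernel

theorem invol_facts : Ev χe ∧ χe ∈ coW ∧
    (∀ v : V, M σe ψe (M τe 0 v) = M τe 0 (M (trPerm 4) χe v)) ∧
    (∀ b : Fin 4, M σe ψe (wvec (2 ^ b.1)) = wvec (invM.getD b.1 0)) ∧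
    ∀ b : Fin 4, M σe ψe (fvec (2 ^ b.1)) = fvec ([5, 10, 4, 8].getD b.1 0) := by
  decide +kernel

/-! ### Matrices -/

theorem six_facts : sixW.length = 6 ∧ (∀ w ∈ sixW, (∀ i ∈ w, i < 3) ∧
      wordM (w ++ w ++ w) = [1, 2, 4, 8] ∧ wordM (w ++ w ++ w ++ w) = wordM w) ∧
    conjW.map Prod.fst = (List.range 6).flatMap (fun i => (List.range 6).filterMap fun j =>
      if i < j then some (i, j) else none) ∧
    ∀ p ∈ conjW, (∀ i ∈ p.2, i < 3) ∧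
      wordM (sixW.getD p.1.1 [] ++ (sixW.getD p.1.2 [] ++ p.2)) = invM.map (lmx (wordM p.2)) := by
  decide +kernel

theorem genW_facts : ∀ i : Fin 3, (∀ k ∈ genW.getD i.1 [], k < 6) ∧
    wordM ((genW.getD i.1 []).flatMap fun k => sixW.getD k []) = genM i.1 := by
  decide +kernel

end CfsgLib.Characterizations.CoType
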